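import Cfsg.Agent.Lib.Sporadic.Ru.Level
import Cfsg.Agent.Lib.Sporadic.Ru.DataTop
import Cfsg.Agent.Lib.Sporadic.Ru.DataG

/-! Kernel evaluation of the tables of the point stabiliser chain. -/

set_option autoImplicit false

namespace CfsgLib.Sporadic.Ru

theorem one_eq :
    (one == oneF2 28) = true := by
  decide +kernel

theorem g0_ord :
    (g0Gens.length == g0Ord.length && (List.zip g0Gens g0Ord).all (fun p => Nat.blt 0 p.2 && genWord (mulF2 28) one [p.1] (List.replicate p.2 0) == one)) = true := by
  decide +kernel

theorem g0_zero :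
    (g0T.get 0 == one) = true := by
  decide +kernel

theorem g1_zero :
    (g1T.get 0 == one) = true := by
  decide +kernel

theorem g2_zero :
    (g2T.get 0 == one) = true := by
  decide +kernel

theorem g3_zero :
    (g3T.get 0 == one) = true := by
  decide +kernel

theorem g0_parents :
    allFrom 0 4060 (parentOK (mulF2 28) one g0Gens 4060 g0T g0Par) = true := by
  decide +kernel

theorem g1_parents :
    allFrom 0 2304 (parentOK (mulF2 28) one g1Gens 2304 g1T g1Par) = true := by
  decide +kernel

theorem g2_parents :
    allFrom 0 975 (parentOK (mulF2 28) one g2Gens 975 g2T g2Par) = true := by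
  decide +kernel

theorem g3_parents :
    allFrom 0 16 (parentOK (mulF2 28) one g3Gens 16 g3T g3Par) = true := by
  decide +kernel

theorem g0_images :
    allFrom 0 4060 (imgOK 0 4060 g0T g0Srt g0Pos g0Inv) = true := by
  decide +kernel

theorem g1_images :
    allFrom 0 2304 (imgOK 1 2304 g1T g1Srt g1Pos g1Inv) = true := by
  decide +kernel

theorem g2_images :
    allFrom 0 975 (imgOK 2 975 g2T g2Srt g2Pos g2Inv) = true := by
  decide +kernel

theorem g3_distinct :
    allFrom 0 16 (distinctOK (canonF2 28) 16 g3T g3Srt g3Pos g3Inv) = true := by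
  decide +kernel

theorem g0_vals :
    valsOK 0 one 4060 g0Gens g0T g0Fac g1Gens g0Vals = true := by
  decide +kernel

theorem g1_vals :
    valsOK 1 one 2304 g1Gens g1T g1Fac g2Gens g1Vals = true := by
  decide +kernel

theorem g2_vals :
    valsOK 2 one 975 g2Gens g2T g2Fac g3Gens g2Vals = true := by
  decide +kernel

theorem g1_steps :
    allFrom 0 (g1Gens.length * 2304) (stepOK (mulF2 28) one g1Gens 2304 g1T g1Fac [(975, g2T), (16, g3T)]) = true := by
  decide +kernel

theorem g2_steps :
    allFrom 0 (g2Gens.length * 975) (stepOK (mulF2 28) one g2Gens 975 g2T g2Fac [(16, g3T)]) = true := by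
  decide +kernel

theorem g3_steps :
    allFrom 0 (g3Gens.length * 16) (stepOK (mulF2 28) one g3Gens 16 g3T g3Fac []) = true := by
  decide +kernel

theorem g0_prime :
    primeOK 29 one g0Gens [(4060, g0T), (2304, g1T), (975, g2T), (16, g3T)] primeG = true := by
  decide +kernel

theorem g0_move :
    allFrom 0 4060 (moveOK 0 g1Gens g0T) = true := by
  decide +kernel

theorem g0_span :
    allFrom 0 28 (spanOK 0 4060 g0T gSpanIdx gSpanMat) = true := by
  decide +kernel

theorem g0_span_inv :
    (mulF2 28 gSpanMat gSpanInv == one) = true := by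
  decide +kernel

end CfsgLib.Sporadic.Ru
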