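import Cfsg.Agent.Lib.Sporadic.Ru.Level
import Cfsg.Agent.Lib.Sporadic.Ru.DataG
import Cfsg.Agent.Lib.Sporadic.Ru.DataT

/-! Kernel evaluation of the tables of the subgroup of order 17971200. -/

set_option autoImplicit false

namespace CfsgLib.Sporadic.Ru

theorem t0_zero :
    (t0T.get 0 == one) = true := by
  decide +kernel

theorem t1_zero :
    (t1T.get 0 == one) = true := by
  decide +kernel

theorem t2_zero :
    (t2T.get 0 == one) = true := by
  decide +kernel

theorem t0_parents :
    allFrom 0 2304 (parentOK (mulF2 28) one t0Gens 2304 t0T t0Par) = true := by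
  decide +kernel

theorem t1_parents :
    allFrom 0 975 (parentOK (mulF2 28) one t1Gens 975 t1T t1Par) = true := by
  decide +kernel

theorem t2_parents :
    allFrom 0 8 (parentOK (mulF2 28) one t2Gens 8 t2T t2Par) = true := by
  decide +kernel

theorem t0_images :
    allFrom 0 2304 (imgOK 1 2304 t0T t0Srt t0Pos t0Inv) = true := by
  decide +kernel

theorem t1_images :
    allFrom 0 975 (imgOK 2 975 t1T t1Srt t1Pos t1Inv) = true := by
  decide +kernel

theorem t2_distinct :
    allFrom 0 8 (distinctOK (canonF2 28) 8 t2T t2Srt t2Pos t2Inv) = true := by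
  decide +kernel

theorem t0_vals :
    valsOK 1 one 2304 t0Gens t0T t0Fac t1Gens t0Vals = true := by
  decide +kernel

theorem t1_vals :
    valsOK 2 one 975 t1Gens t1T t1Fac t2Gens t1Vals = true := by
  decide +kernel

theorem t0_steps :
    allFrom 0 (t0Gens.length * 2304) (stepOK (mulF2 28) one t0Gens 2304 t0T t0Fac [(975, t1T), (8, t2T)]) = true := by
  decide +kernel

theorem t1_steps :
    allFrom 0 (t1Gens.length * 975) (stepOK (mulF2 28) one t1Gens 975 t1T t1Fac [(8, t2T)]) = true := by
  decide +kernel

theorem t2_steps :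
    allFrom 0 (t2Gens.length * 8) (stepOK (mulF2 28) one t2Gens 8 t2T t2Fac []) = true := by
  decide +kernel

theorem t_words :
    (t0Gens == tVals.map (wordCode (mulF2 28) one [(2304, g1T), (975, g2T), (16, g3T)])) = true := by
  decide +kernel

theorem t_prime :
    primeOK 13 one t0Gens [(2304, t0T), (975, t1T), (8, t2T)] primeT = true := by
  decide +kernel

theorem t_three :
    primeOK 3 one t0Gens [(2304, t0T), (975, t1T), (8, t2T)] threeT = true := by
  decide +kernel

theorem t0_move :
    allFrom 0 2304 (moveOK 1 t1Gens t0T) = true := by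
  decide +kernel

theorem t0_span :
    allFrom 0 28 (spanOK 1 2304 t0T tSpanIdx tSpanMat) = true := by
  decide +kernel

theorem t0_span_inv :
    (mulF2 28 tSpanMat tSpanInv == one) = true := by
  decide +kernel

end CfsgLib.Sporadic.Ru
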