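import Cfsg.Agent.Lib.Sporadic.Ru.Level
import Cfsg.Agent.Lib.Sporadic.Ru.DataTop
import Cfsg.Agent.Lib.Sporadic.Ru.DataG

/-! Kernel evaluation of a quarter of the top factorisations. -/

set_option autoImplicit false

namespace CfsgLib.Sporadic.Ru

theorem g0_steps1 :
    allFrom 2030 2030 (stepOK (mulF2 28) one g0Gens 4060 g0T g0Fac [(2304, g1T), (975, g2T), (16, g3T)]) = true := by
  decide +kernel

end CfsgLib.Sporadic.Ru
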