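import Cfsg.Agent.Lib.Sporadic.Ru.CertTop0
import Cfsg.Agent.Lib.Sporadic.Ru.CertTop1
import Cfsg.Agent.Lib.Sporadic.Ru.CertTop2
import Cfsg.Agent.Lib.Sporadic.Ru.CertTop3
import Cfsg.Agent.Lib.Sporadic.Ru.CertG
import Cfsg.Agent.Lib.Sporadic.Ru.CertT

/-! The orders of the groups generated by the tabled matrices: 145926144000, 35942400 and
17971200. -/

set_option autoImplicit false

namespace CfsgLib.Sporadic.Ru

/-- The group generated by a list of codes. -/
abbrev grp (gens : List ℕ) : Subgroup GL28 := Subgroup.closure (genSet emb dec gens)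

theorem dec_one : dec one = 1 := by
  rw [dec, show one = oneF2 28 from beq_iff_eq.1 one_eq]
  exact decF2_oneF2

theorem codeMem_top : ∀ c ∈ g0Gens, CodeMem emb dec (⊤ : Subgroup GL28) c := by
  intro c hc
  have hb := g0_ord
  simp only [Bool.and_eq_true, beq_iff_eq, List.all_eq_true, Nat.blt_eq] at hb
  obtain ⟨hlen, hall⟩ := hb
  obtain ⟨i, hi, rfl⟩ := List.getElem_of_mem hc
  have hmem : (g0Gens[i], g0Ord[i]'(hlen ▸ hi)) ∈ List.zip g0Gens g0Ord := by
    rw [List.mem_iff_getElem]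
    exact ⟨i, by simp [List.length_zip, hlen ▸ hi, hi], by simp⟩
  obtain ⟨hpos, heq⟩ := hall _ hmem
  have hpow : dec g0Gens[i] ^ (g0Ord[i]'(hlen ▸ hi)) = 1 := by
    rw [← dec_genWord_replicate dec_one, heq, dec_one]
  exact ⟨Units.ofPowEqOne _ _ hpow hpos.ne', Subgroup.mem_top _, rfl⟩

theorem g0_steps : allFrom 0 (g0Gens.length * 4060)
    (stepOK (mulF2 28) one g0Gens 4060 g0T g0Fac [(2304, g1T), (975, g2T), (16, g3T)]) = true := by
  have h := allFrom_append (allFrom_append (allFrom_append g0_steps0 g0_steps1) g0_steps2) g0_steps3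
  exact h

theorem g0_level : LevelOK 0 one 4060 g0Gens g1Gens g0Vals g0T g0Par g0Fac g0Srt g0Pos g0Inv
    [(2304, g1T), (975, g2T), (16, g3T)] :=
  ⟨by decide, beq_iff_eq.1 g0_zero, g0_parents, g0_steps, g0_images, g0_vals⟩

theorem g1_level : LevelOK 1 one 2304 g1Gens g2Gens g1Vals g1T g1Par g1Fac g1Srt g1Pos g1Inv
    [(975, g2T), (16, g3T)] :=
  ⟨by decide, beq_iff_eq.1 g1_zero, g1_parents, g1_steps, g1_images, g1_vals⟩

theorem g2_level : LevelOK 2 one 975 g2Gens g3Gens g2Vals g2T g2Par g2Fac g2Srt g2Pos g2Inv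
    [(16, g3T)] :=
  ⟨by decide, beq_iff_eq.1 g2_zero, g2_parents, g2_steps, g2_images, g2_vals⟩

theorem t0_level : LevelOK 1 one 2304 t0Gens t1Gens t0Vals t0T t0Par t0Fac t0Srt t0Pos t0Inv
    [(975, t1T), (8, t2T)] :=
  ⟨by decide, beq_iff_eq.1 t0_zero, t0_parents, t0_steps, t0_images, t0_vals⟩

theorem t1_level : LevelOK 2 one 975 t1Gens t2Gens t1Vals t1T t1Par t1Fac t1Srt t1Pos t1Inv
    [(8, t2T)] :=
  ⟨by decide, beq_iff_eq.1 t1_zero, t1_parents, t1_steps, t1_images, t1_vals⟩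

theorem g1_mem : ∀ c ∈ g1Gens, CodeMem emb dec (grp g0Gens) c := fun c hc =>
  ((g0_level.level dec_one codeMem_top).2 c hc).mono inf_le_left

theorem g2_mem : ∀ c ∈ g2Gens, CodeMem emb dec (grp g1Gens) c := fun c hc =>
  ((g1_level.level dec_one g1_mem).2 c hc).mono inf_le_left

theorem g3_mem : ∀ c ∈ g3Gens, CodeMem emb dec (grp g2Gens) c := fun c hc =>
  ((g2_level.level dec_one g2_mem).2 c hc).mono inf_le_left

theorem g3_all : Nat.card (grp g3Gens) = 16 ∧ ∀ i < 16, CodeMem emb dec (grp g3Gens) (g3T.get i) :=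
  card_genSet_eq (emb := emb) (dec := dec) (mul := mulF2 28) (one := one) dec_mul dec_one
    emb_injective (canon := canonF2 28) (fun _ _ => decF2_injOn) g3_mem (by decide)
    (beq_iff_eq.1 g3_zero) g3_parents g3_steps g3_distinct

theorem low3 : ∀ p ∈ [(16, g3T)], 0 < p.1 ∧ ∀ i < p.1, CodeMem emb dec (grp g3Gens) (p.2.get i) :=
  List.forall_mem_singleton.2 ⟨by decide, g3_all.2⟩

theorem low2 : ∀ p ∈ [(975, g2T), (16, g3T)],
    0 < p.1 ∧ ∀ i < p.1, CodeMem emb dec (grp g2Gens) (p.2.get i) :=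
  List.forall_mem_cons.2 ⟨⟨by decide, (g2_level.level dec_one g2_mem).1⟩, fun p hp =>
    ⟨(low3 p hp).1, fun i hi => ((low3 p hp).2 i hi).mono (genSet_closure_le emb_injective g3_mem)⟩⟩

theorem low1 : ∀ p ∈ [(2304, g1T), (975, g2T), (16, g3T)],
    0 < p.1 ∧ ∀ i < p.1, CodeMem emb dec (grp g1Gens) (p.2.get i) :=
  List.forall_mem_cons.2 ⟨⟨by decide, (g1_level.level dec_one g1_mem).1⟩, fun p hp =>
    ⟨(low2 p hp).1, fun i hi => ((low2 p hp).2 i hi).mono (genSet_closure_le emb_injective g2_mem)⟩⟩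

theorem low0 : ∀ p ∈ [(4060, g0T), (2304, g1T), (975, g2T), (16, g3T)],
    0 < p.1 ∧ ∀ i < p.1, CodeMem emb dec (grp g0Gens) (p.2.get i) :=
  List.forall_mem_cons.2 ⟨⟨by decide, (g0_level.level dec_one codeMem_top).1⟩, fun p hp =>
    ⟨(low1 p hp).1, fun i hi => ((low1 p hp).2 i hi).mono (genSet_closure_le emb_injective g1_mem)⟩⟩

theorem card_grp_g1 : Nat.card (grp g1Gens) = 35942400 := by
  rw [g1_level.card_eq dec_one g1_mem low2, g2_level.card_eq dec_one g2_mem low3, g3_all.1]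

theorem card_grp_g0 : Nat.card (grp g0Gens) = 145926144000 := by
  rw [g0_level.card_eq dec_one codeMem_top low1, card_grp_g1]

theorem grp_g1_le : grp g1Gens ≤ grp g0Gens := genSet_closure_le emb_injective g1_mem

theorem t0_mem : ∀ c ∈ t0Gens, CodeMem emb dec (grp g1Gens) c := by
  intro c hc
  rw [beq_iff_eq.1 t_words] at hc
  obtain ⟨v, -, rfl⟩ := List.mem_map.1 hc
  exact wordCode_mem (emb := emb) (dec := dec) (mul := mulF2 28) (one := one) dec_mul dec_one _
    low1 v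

theorem t1_mem : ∀ c ∈ t1Gens, CodeMem emb dec (grp t0Gens) c := fun c hc =>
  ((t0_level.level dec_one t0_mem).2 c hc).mono inf_le_left

theorem t2_mem : ∀ c ∈ t2Gens, CodeMem emb dec (grp t1Gens) c := fun c hc =>
  ((t1_level.level dec_one t1_mem).2 c hc).mono inf_le_left

theorem t2_all : Nat.card (grp t2Gens) = 8 ∧ ∀ i < 8, CodeMem emb dec (grp t2Gens) (t2T.get i) :=
  card_genSet_eq (emb := emb) (dec := dec) (mul := mulF2 28) (one := one) dec_mul dec_one
    emb_injective (canon := canonF2 28) (fun _ _ => decF2_injOn) t2_mem (by decide)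
    (beq_iff_eq.1 t2_zero) t2_parents t2_steps t2_distinct

theorem lowT2 : ∀ p ∈ [(8, t2T)], 0 < p.1 ∧ ∀ i < p.1, CodeMem emb dec (grp t2Gens) (p.2.get i) :=
  List.forall_mem_singleton.2 ⟨by decide, t2_all.2⟩

theorem lowT1 : ∀ p ∈ [(975, t1T), (8, t2T)],
    0 < p.1 ∧ ∀ i < p.1, CodeMem emb dec (grp t1Gens) (p.2.get i) :=
  List.forall_mem_cons.2 ⟨⟨by decide, (t1_level.level dec_one t1_mem).1⟩, fun p hp =>
    ⟨(lowT2 p hp).1, fun i hi => ((lowT2 p hp).2 i hi).mono (genSet_closure_le emb_injective t2_mem)⟩⟩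

theorem lowT0 : ∀ p ∈ [(2304, t0T), (975, t1T), (8, t2T)],
    0 < p.1 ∧ ∀ i < p.1, CodeMem emb dec (grp t0Gens) (p.2.get i) :=
  List.forall_mem_cons.2 ⟨⟨by decide, (t0_level.level dec_one t0_mem).1⟩, fun p hp =>
    ⟨(lowT1 p hp).1, fun i hi => ((lowT1 p hp).2 i hi).mono (genSet_closure_le emb_injective t1_mem)⟩⟩

theorem card_grp_t0 : Nat.card (grp t0Gens) = 17971200 := by
  rw [t0_level.card_eq dec_one t0_mem lowT1, t1_level.card_eq dec_one t1_mem lowT2, t2_all.1]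

theorem grp_t0_le : grp t0Gens ≤ grp g1Gens := genSet_closure_le emb_injective t0_mem

end CfsgLib.Sporadic.Ru
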