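import Cfsg.Agent.Lib.Sporadic.Ru.Chain
import Cfsg.Agent.Lib.Sporadic.Simple

/-! The groups of order 145926144000 and 17971200 generated by the tables are simple. -/

set_option autoImplicit false

namespace CfsgLib.Sporadic.Ru

theorem prime_cases {q : ℕ} (hq : q.Prime) (h : q ∣ 145926144000) : q ∈ [2, 3, 5, 7, 13, 29] := by
  rw [show (145926144000 : ℕ) = 2 ^ 14 * 3 ^ 3 * 5 ^ 3 * 7 * 13 * 29 from by norm_num] at h
  simp only [List.mem_cons, List.not_mem_nil, or_false]
  rcases (Nat.Prime.dvd_mul hq).1 h with h | h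
  · rcases (Nat.Prime.dvd_mul hq).1 h with h | h
    · rcases (Nat.Prime.dvd_mul hq).1 h with h | h
      · rcases (Nat.Prime.dvd_mul hq).1 h with h | h
        · rcases (Nat.Prime.dvd_mul hq).1 h with h | h
          · exact .inl ((Nat.prime_dvd_prime_iff_eq hq (by norm_num)).1 (hq.dvd_of_dvd_pow h))
          · exact .inr (.inl ((Nat.prime_dvd_prime_iff_eq hq (by norm_num)).1 (hq.dvd_of_dvd_pow h)))
        · exact .inr (.inr (.inl ((Nat.prime_dvd_prime_iff_eq hq (by norm_num)).1 (hq.dvd_of_dvd_pow h))))
      · exact .inr (.inr (.inr (.inl ((Nat.prime_dvd_prime_iff_eq hq (by norm_num)).1 h))))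
    · exact .inr (.inr (.inr (.inr (.inl ((Nat.prime_dvd_prime_iff_eq hq (by norm_num)).1 h)))))
  · exact .inr (.inr (.inr (.inr (.inr ((Nat.prime_dvd_prime_iff_eq hq (by norm_num)).1 h)))))

/-- Prime powers dividing `M` are separated modulo `p`, from a finite check. -/
theorem separated {p M : ℕ} (hM : M ∣ 145926144000)
    (hkey : ([2, 3, 5, 7, 13, 29].all fun q => (List.range 15).all fun i => (List.range 15).all fun j =>
      !(M % q ^ i == 0 && M % q ^ j == 0 && !(q ^ i % p == 0) && !(q ^ j % p == 0) &&
        q ^ i % p == q ^ j % p) || i == j) = true)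
    {m : ℕ} (hm : m ∣ M) (hp : ¬ p ∣ m) :
    ∀ q, q.Prime → ∀ i j, q ^ i ∣ m → q ^ j ∣ m → q ^ i ≡ q ^ j [MOD p] → i = j := by
  intro q hq i j hi hj hij
  have key : ∀ q ∈ [2, 3, 5, 7, 13, 29], ∀ i ≤ 14, ∀ j ≤ 14,
      q ^ i ∣ M → q ^ j ∣ M → ¬ p ∣ q ^ i → ¬ p ∣ q ^ j → q ^ i % p = q ^ j % p → i = j := by
    intro q hq i hi j hj h1 h2 h3 h4 h5
    simp only [List.all_eq_true, List.mem_range, Bool.or_eq_true, Bool.not_eq_true',
      beq_iff_eq, Bool.and_eq_false_iff, beq_eq_false_iff_ne, Bool.not_eq_false'] at hkey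
    rcases hkey q hq i (by omega) j (by omega) with ((((h | h) | h) | h) | h) | h
    · exact absurd (Nat.mod_eq_zero_of_dvd h1) h
    · exact absurd (Nat.mod_eq_zero_of_dvd h2) h
    · exact absurd (Nat.dvd_of_mod_eq_zero h) h3
    · exact absurd (Nat.dvd_of_mod_eq_zero h) h4
    · exact absurd h5 h
    · exact h
  have hG : ∀ k, q ^ k ∣ m → k ≤ 14 := by
    intro k hk
    by_contra hlt
    have h15 : q ^ 15 ∣ 145926144000 :=
      (Nat.pow_dvd_pow q (by omega : 15 ≤ k)).trans (hk.trans (hm.trans hM))
    have hne : ∀ a ∈ [2, 3, 5, 7, 13, 29], ¬ a ^ 15 ∣ 145926144000 := by decide +kernel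
    exact hne q (prime_cases hq ((dvd_pow_self q (by norm_num)).trans h15)) h15
  have hmem : ∀ k, 0 < k → q ^ k ∣ m → q ∈ [2, 3, 5, 7, 13, 29] := fun k hk h =>
    prime_cases hq ((dvd_pow_self q hk.ne').trans (h.trans (hm.trans hM)))
  rcases Nat.eq_zero_or_pos i with rfl | hi0
  · rcases Nat.eq_zero_or_pos j with rfl | hj0
    · rfl
    · exact key q (hmem j hj0 hj) 0 (by omega) j (hG j hj) (hi.trans hm) (hj.trans hm)
        (fun h => hp (h.trans hi)) (fun h => hp (h.trans hj)) hij
  · exact key q (hmem i hi0 hi) i (hG i hi) j (hG j hj) (hi.trans hm) (hj.trans hm)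
      (fun h => hp (h.trans hi)) (fun h => hp (h.trans hj)) hij

/-- The group of order 145926144000 is simple. -/
theorem isSimple_g0 : IsSimpleGroup (grp g0Gens) := by
  have hcard := card_grp_g0
  have : Nontrivial (grp g0Gens) := by
    rw [← Finite.one_lt_card_iff_nontrivial, hcard]
    norm_num
  have hp : Nat.Prime 29 := by norm_num
  have := Fact.mk hp
  refine ⟨fun N hN => ?_⟩
  by_cases h : 29 ∣ Nat.card N
  · right
    exact eq_top_of_prime dec_one g0_prime low0 N fun x hx =>
      mem_of_pow_eq_one hp h (by rw [hcard]; norm_num) hx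
  · left
    have hq := separated (p := 29) (M := 145926144000) dvd_rfl (by decide +kernel)
      (hcard ▸ N.card_subgroup_dvd_card) h
    rw [eq_bot_iff]
    intro y hy
    rw [Subgroup.mem_bot]
    have htop := eq_top_of_prime dec_one g0_prime low0 (Subgroup.centralizer {y}) fun x hx =>
      Subgroup.mem_centralizer_singleton_iff.2 (commute_of_pow_eq_one h hq hx y hy)
    refine Subtype.ext (eq_one_of_central g0_level dec_one codeMem_top low1 g0_move g0_span
      (beq_iff_eq.1 g0_span_inv) y.2 fun g hg => ?_)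
    have hc := Subgroup.mem_centralizer_singleton_iff.1
      (htop.symm ▸ Subgroup.mem_top (⟨g, hg⟩ : grp g0Gens))
    simpa only [Subgroup.coe_mul] using congrArg Subtype.val hc

/-- The group of order 17971200 is simple. -/
theorem isSimple_t0 : IsSimpleGroup (grp t0Gens) := by
  have hcard := card_grp_t0
  have : Nontrivial (grp t0Gens) := by
    rw [← Finite.one_lt_card_iff_nontrivial, hcard]
    norm_num
  have hp : Nat.Prime 13 := by norm_num
  have := Fact.mk hp
  refine ⟨fun N hN => ?_⟩
  by_cases h : 13 ∣ Nat.card N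
  · right
    exact eq_top_of_prime dec_one t_prime lowT0 N fun x hx =>
      mem_of_pow_eq_one hp h (by rw [hcard]; norm_num) hx
  by_cases h3 : 27 ∣ Nat.card N
  · right
    refine eq_top_of_prime dec_one t_three lowT0 N fun x hx => ?_
    have hidx : ¬ 3 ∣ N.index := by
      intro hd
      have : 27 * 3 ∣ Nat.card (grp t0Gens) := N.card_mul_index ▸ Nat.mul_dvd_mul h3 hd
      rw [hcard] at this
      norm_num at this
    rw [← QuotientGroup.eq_one_iff]
    have h1 : orderOf (x : grp t0Gens ⧸ N) ∣ 3 := by
      refine orderOf_dvd_of_pow_eq_one ?_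
      rw [← QuotientGroup.mk_pow, hx, QuotientGroup.mk_one]
    have h2 : orderOf (x : grp t0Gens ⧸ N) ∣ N.index := by
      rw [Subgroup.index_eq_card]
      exact orderOf_dvd_natCard _
    rcases (Nat.dvd_prime Nat.prime_three).1 h1 with e | e
    · exact orderOf_eq_one_iff.1 e
    · exact absurd (e ▸ h2) hidx
  · left
    have hdvd : Nat.card N ∣ 17971200 := hcard ▸ N.card_subgroup_dvd_card
    have hq : ∀ q, q.Prime → ∀ i j, q ^ i ∣ Nat.card N → q ^ j ∣ Nat.card N →
        q ^ i ≡ q ^ j [MOD 13] → i = j := by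
      intro q hq i j hi hj hij
      by_cases hq3 : q = 3
      · subst hq3
        have hb : ∀ k, 3 ^ k ∣ Nat.card N → k < 3 := by
          intro k hk
          by_contra hle
          exact h3 ((Nat.pow_dvd_pow 3 (by omega : 3 ≤ k)).trans hk)
        have key : ∀ i < 3, ∀ j < 3, 3 ^ i % 13 = 3 ^ j % 13 → i = j := by decide
        exact key i (hb i hi) j (hb j hj) hij
      · by_cases hq2 : q = 2
        · subst hq2
          have hb : ∀ k, 2 ^ k ∣ Nat.card N → k < 12 := by
            intro k hk
            by_contra hle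
            have h12 : 2 ^ 12 ∣ 17971200 :=
              (Nat.pow_dvd_pow 2 (by omega : 12 ≤ k)).trans (hk.trans hdvd)
            norm_num at h12
          have key : ∀ i < 12, ∀ j < 12, 2 ^ i % 13 = 2 ^ j % 13 → i = j := by decide
          exact key i (hb i hi) j (hb j hj) hij
        · have hmem : ∀ k, 0 < k → q ^ k ∣ Nat.card N → q = 5 ∧ k < 3 := by
            intro k hk hkN
            have hqd : q ∣ Nat.card N := (dvd_pow_self q hk.ne').trans hkN
            have hcases := prime_cases hq (hqd.trans (hdvd.trans (by norm_num)))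
            simp only [List.mem_cons, List.not_mem_nil, or_false] at hcases
            rcases hcases with rfl | rfl | rfl | rfl | rfl | rfl
            · exact absurd rfl hq2
            · exact absurd rfl hq3
            · refine ⟨rfl, ?_⟩
              by_contra hle
              have h53 : 5 ^ 3 ∣ 17971200 :=
                (Nat.pow_dvd_pow 5 (by omega : 3 ≤ k)).trans (hkN.trans hdvd)
              norm_num at h53
            · exact absurd (hqd.trans hdvd) (by norm_num)
            · exact absurd hqd h
            · exact absurd (hqd.trans hdvd) (by norm_num)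
          have key : ∀ i < 3, ∀ j < 3, 5 ^ i % 13 = 5 ^ j % 13 → i = j := by decide
          rcases Nat.eq_zero_or_pos i with rfl | hi0
          · rcases Nat.eq_zero_or_pos j with rfl | hj0
            · rfl
            · obtain ⟨rfl, hb⟩ := hmem j hj0 hj
              exact key 0 (by omega) j hb hij
          · obtain ⟨rfl, hb⟩ := hmem i hi0 hi
            rcases Nat.eq_zero_or_pos j with rfl | hj0
            · exact key i hb 0 (by omega) hij
            · exact key i hb j (hmem j hj0 hj).2 hij
    rw [eq_bot_iff]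
    intro y hy
    rw [Subgroup.mem_bot]
    have htop := eq_top_of_prime dec_one t_prime lowT0 (Subgroup.centralizer {y}) fun x hx =>
      Subgroup.mem_centralizer_singleton_iff.2 (commute_of_pow_eq_one h hq hx y hy)
    refine Subtype.ext (eq_one_of_central t0_level dec_one t0_mem lowT1 t0_move t0_span
      (beq_iff_eq.1 t0_span_inv) y.2 fun g hg => ?_)
    have hc := Subgroup.mem_centralizer_singleton_iff.1
      (htop.symm ▸ Subgroup.mem_top (⟨g, hg⟩ : grp t0Gens))
    simpa only [Subgroup.coe_mul] using congrArg Subtype.val hc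

end CfsgLib.Sporadic.Ru
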