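import Cfsg.Agent.Lib.Sporadic.Chain
import Cfsg.Agent.Lib.Sporadic.BlockRep
import Cfsg.Agent.Lib.Sporadic.GenWord

/-! One level of a stabiliser chain of matrices over `ZMod 2`: the order of the group is the orbit
length times the order of the stabiliser, from kernel checks. -/

set_option autoImplicit false

namespace CfsgLib.Sporadic.Ru

/-- The group of invertible 28 × 28 matrices over `ZMod 2`. -/
abbrev GL28 : Type := GL (Fin 28) (ZMod 2)

/-- The coercion of units into matrices. -/
noncomputable def emb : GL28 →* Matrix (Fin 28) (Fin 28) (ZMod 2) := Units.coeHom _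

/-- A code as a matrix. -/
noncomputable def dec (c : ℕ) : Matrix (Fin 28) (Fin 28) (ZMod 2) := decF2 28 c

theorem emb_injective : Function.Injective emb := Units.coeHom_injective

theorem emb_apply (g : GL28) : emb g = g.1 := rfl

theorem dec_mul (a b : ℕ) : dec (mulF2 28 a b) = dec a * dec b := decF2_mulF2 a b

/-- The image of the `k`th basis vector, packed. -/
noncomputable def img (k c : ℕ) : ℕ := colVec 28 (c >>> k)

theorem decVecF2_img (k : Fin 28) (c : ℕ) : decVecF2 28 (img k c) = fun i => dec c i k := by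
  funext i
  rw [decVecF2, img, testBit_colVec i.2, Nat.testBit_shiftRight, dec, decF2, Matrix.of_apply,
    Nat.add_comm, Nat.mul_comm]

theorem img_lt (k c : ℕ) : img k c < 2 ^ 28 := by
  refine Nat.lt_pow_two_of_testBit _ fun i hi => ?_
  have hzero : ∀ m, ((xorUpto (fun j => (((c >>> k) >>> (28 * j)) % 2) <<< j) m).testBit i) = true →
      i < m := by
    intro m
    induction m with
    | zero => simp [xorUpto]
    | succ m ih =>
      intro h
      change ((xorUpto _ m) ^^^ _).testBit i = true at h
      rw [Nat.testBit_xor] at h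
      by_contra hlt
      have h1 : (xorUpto (fun j => (((c >>> k) >>> (28 * j)) % 2) <<< j) m).testBit i = false :=
        Bool.eq_false_iff.2 fun he => hlt (Nat.lt_succ_of_lt (ih he))
      rw [h1] at h
      simp only [Bool.false_bne, Nat.testBit_shiftLeft, Bool.and_eq_true, decide_eq_true_eq] at h
      have h2 := Nat.testBit_lt_two_pow (x := ((c >>> k) >>> (28 * m)) % 2) (i := i - m)
        (lt_of_lt_of_le (Nat.mod_lt _ two_pos) (le_trans (le_of_eq (pow_one 2).symm)
          (Nat.pow_le_pow_right two_pos (by omega))))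
      rw [h2] at h
      exact Bool.noConfusion h.2
  exact Bool.eq_false_iff.2 fun h => absurd (hzero 28 h) (by omega)

theorem img_eq_iff (k : Fin 28) (a b : ℕ) :
    img k a = img k b ↔ (fun i => dec a i k) = fun i => dec b i k := by
  refine ⟨fun h => by rw [← decVecF2_img, ← decVecF2_img, h], fun h => ?_⟩
  refine Nat.eq_of_testBit_eq fun m => ?_
  rcases Nat.lt_or_ge m 28 with hlt | hge
  · rw [← decVecF2_img, ← decVecF2_img] at h
    have h' := congrFun h ⟨m, hlt⟩
    simp only [decVecF2] at h'
    revert h'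
    cases (img k a).testBit m <;> cases (img k b).testBit m <;> simp
  · rw [Nat.testBit_lt_two_pow ((img_lt k a).trans_le (Nat.pow_le_pow_right two_pos hge)),
      Nat.testBit_lt_two_pow ((img_lt k b).trans_le (Nat.pow_le_pow_right two_pos hge))]

/-- The `k`th basis vector. -/
def bvec (k : Fin 28) : Fin 28 → ZMod 2 := Pi.single k 1

theorem mulVec_bvec (g : GL28) (k : Fin 28) {c : ℕ} (e : emb g = dec c) :
    g.1.mulVec (bvec k) = fun i => dec c i k := by
  funext i
  rw [bvec, Matrix.mulVec_single_one, Matrix.col_apply, ← emb_apply, e]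

/-- The elements fixing a basis vector. -/
def fixer (k : Fin 28) : Subgroup GL28 where
  carrier := {g | g.1.mulVec (bvec k) = bvec k}
  one_mem' := by simp
  mul_mem' := by
    intro a b ha hb
    simp only [Set.mem_ofPred_eq, Units.val_mul, ← Matrix.mulVec_mulVec] at *
    rw [hb, ha]
  inv_mem' := by
    intro a ha
    simp only [Set.mem_ofPred_eq] at *
    conv_lhs => rw [← ha, Matrix.mulVec_mulVec, ← Units.val_mul, inv_mul_cancel, Units.val_one,
      Matrix.one_mulVec]

/-- Images of a table are distinct and listed in increasing order in `srt`. -/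
noncomputable def imgOK (k n : ℕ) (T srt pos inv : Tr) (i : ℕ) : Bool :=
  Nat.blt (pos.get i) n && srt.get (pos.get i) == img k (T.get i) && inv.get (pos.get i) == i &&
    (Nat.ble n (i + 1) || Nat.blt (srt.get i) (srt.get (i + 1)))

theorem img_injective_of_check {k n : ℕ} {T srt pos inv : Tr}
    (h : allFrom 0 n (imgOK k n T srt pos inv) = true) {i j : ℕ} (hi : i < n) (hj : j < n)
    (e : img k (T.get i) = img k (T.get j)) : i = j := by
  have hb : ∀ i < n, pos.get i < n ∧ srt.get (pos.get i) = img k (T.get i) ∧ inv.get (pos.get i) = i ∧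
      (i + 1 < n → srt.get i < srt.get (i + 1)) := by
    intro i hi
    have hb := of_allFrom_zero h hi
    simp only [imgOK, Bool.and_eq_true, Bool.or_eq_true, beq_iff_eq, Nat.blt_eq, Nat.ble_eq] at hb
    refine ⟨hb.1.1.1, hb.1.1.2, hb.1.2, fun hlt => ?_⟩
    rcases hb.2 with h' | h'
    · omega
    · exact h'
  have hmono : ∀ a b, a < b → b < n → srt.get a < srt.get b := by
    intro a b hab hbn
    induction b with
    | zero => omega
    | succ b ih =>
      rcases Nat.lt_or_ge a b with hlt | hge
      · exact (ih hlt (by omega)).trans ((hb b (by omega)).2.2.2 hbn)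
      · obtain rfl : a = b := by omega
        exact (hb a (by omega)).2.2.2 hbn
  obtain ⟨pi, si, vi, -⟩ := hb i hi
  obtain ⟨pj, sj, vj, -⟩ := hb j hj
  have hp : pos.get i = pos.get j := by
    rcases lt_trichotomy (pos.get i) (pos.get j) with hl | hl | hl
    · exact absurd (si.trans (e.trans sj.symm)) (hmono _ _ hl pj).ne
    · exact hl
    · exact absurd (si.trans (e.trans sj.symm)) (hmono _ _ hl pi).ne'
  rw [← vi, ← vj, hp]

/-- Each code is a generator times an entry, divided by the entry of its factorisation, and fixes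
the basis vector. -/
noncomputable def valsOK (k one n : ℕ) (gens : List ℕ) (T fac : Tr) (kgens vals : List ℕ) : Bool :=
  kgens.length == vals.length && (List.zip kgens vals).all fun cv =>
    Nat.blt cv.2 (gens.length * n) && img k cv.1 == img k one &&
    mulF2 28 (T.get (fac.get cv.2 % n)) cv.1 ==
      mulF2 28 (gens.getD (cv.2 / n) one) (T.get (cv.2 % n))

variable {one : ℕ}

theorem codeMem_of_vals {k : Fin 28} {n : ℕ} (hn : 0 < n) (hone : dec one = 1) {gens kgens vals : List ℕ}
    {T fac : Tr} {H : Subgroup GL28} (hgens : ∀ c ∈ gens, CodeMem emb dec H c)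
    (hT : ∀ i < n, CodeMem emb dec H (T.get i))
    (h : valsOK k one n gens T fac kgens vals = true) :
    ∀ c ∈ kgens, CodeMem emb dec (H ⊓ fixer k) c := by
  intro c hc
  simp only [valsOK, Bool.and_eq_true, beq_iff_eq, List.all_eq_true, Nat.blt_eq] at h
  obtain ⟨hlen, hall⟩ := h
  obtain ⟨i, hi, rfl⟩ := List.getElem_of_mem hc
  have hmem : (kgens[i], vals[i]'(hlen ▸ hi)) ∈ List.zip kgens vals := by
    rw [List.mem_iff_getElem]
    exact ⟨i, by simp [List.length_zip, hlen ▸ hi, hi], by simp⟩
  obtain ⟨⟨hv, hfix⟩, heq⟩ := hall _ hmem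
  have hlt : vals[i]'(hlen ▸ hi) / n < gens.length := (Nat.div_lt_iff_lt_mul hn).2 hv
  obtain ⟨a, ha, ea⟩ := hT _ (Nat.mod_lt (fac.get (vals[i]'(hlen ▸ hi))) hn)
  obtain ⟨b, hb, eb⟩ : CodeMem emb dec H (mulF2 28 (gens.getD (vals[i]'(hlen ▸ hi) / n) one)
      (T.get (vals[i]'(hlen ▸ hi) % n))) := by
    refine CodeMem.mul (emb := emb) (dec := dec) (mul := mulF2 28) dec_mul ?_ (hT _ (Nat.mod_lt _ hn))
    rw [List.getD_eq_getElem _ _ hlt]
    exact hgens _ (List.getElem_mem hlt)
  have e : emb (a⁻¹ * b) = dec kgens[i] := by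
    rw [map_mul, eb, ← heq, dec_mul, ← ea, ← mul_assoc, ← map_mul, inv_mul_cancel, map_one, one_mul]
  refine ⟨a⁻¹ * b, Subgroup.mem_inf.2 ⟨H.mul_mem (H.inv_mem ha) hb, ?_⟩, e⟩
  show (a⁻¹ * b).1.mulVec (bvec k) = bvec k
  rw [mulVec_bvec _ k e, (img_eq_iff k _ _).1 hfix, hone]
  funext j
  rw [bvec, Matrix.one_apply, Pi.single_apply]

/-- The checks at one level. -/
structure LevelOK (k : Fin 28) (one n : ℕ) (gens kgens vals : List ℕ) (T par fac srt pos inv : Tr)
    (lower : List (ℕ × Tr)) : Prop where
  npos : 0 < n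
  zero : T.get 0 = one
  parents : allFrom 0 n (parentOK (mulF2 28) one gens n T par) = true
  steps : allFrom 0 (gens.length * n) (stepOK (mulF2 28) one gens n T fac lower) = true
  images : allFrom 0 n (imgOK k n T srt pos inv) = true
  vals : valsOK k one n gens T fac kgens vals = true

theorem LevelOK.level {k : Fin 28} {n : ℕ} {gens kgens vals : List ℕ} {T par fac srt pos inv : Tr}
    {lower : List (ℕ × Tr)} (h : LevelOK k one n gens kgens vals T par fac srt pos inv lower)
    (hone : dec one = 1) {H : Subgroup GL28} (hgens : ∀ c ∈ gens, CodeMem emb dec H c) :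
    (∀ i < n, CodeMem emb dec (Subgroup.closure (genSet emb dec gens)) (T.get i)) ∧
    (∀ c ∈ kgens, CodeMem emb dec (Subgroup.closure (genSet emb dec gens) ⊓ fixer k) c) := by
  have hT := table_mem (emb := emb) (dec := dec) (mul := mulF2 28) (one := one) dec_mul hone
    (codeMem_genSet hgens) h.parents
  exact ⟨hT, codeMem_of_vals h.npos hone (codeMem_genSet hgens) hT h.vals⟩

/-- The order at one level. -/
theorem LevelOK.card_eq {k : Fin 28} {n : ℕ} {gens kgens vals : List ℕ} {T par fac srt pos inv : Tr}
    {lower : List (ℕ × Tr)} (h : LevelOK k one n gens kgens vals T par fac srt pos inv lower)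
    (hone : dec one = 1) {H : Subgroup GL28} (hgens : ∀ c ∈ gens, CodeMem emb dec H c)
    (hlower : ∀ p ∈ lower, 0 < p.1 ∧
      ∀ i < p.1, CodeMem emb dec (Subgroup.closure (genSet emb dec kgens)) (p.2.get i)) :
    Nat.card (Subgroup.closure (genSet emb dec gens)) =
      n * Nat.card (Subgroup.closure (genSet emb dec kgens)) := by
  obtain ⟨hT, hk⟩ := h.level hone hgens
  have hle : Subgroup.closure (genSet emb dec kgens) ≤
      Subgroup.closure (genSet emb dec gens) ⊓ fixer k :=
    genSet_closure_le emb_injective hk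
  refine le_antisymm (card_le_of_checks (emb := emb) (dec := dec) (mul := mulF2 28) (one := one)
    dec_mul hone emb_injective h.npos h.zero (fun s hs => hs) hlower h.steps) ?_
  choose g hgH hg using fun i : Fin n => hT i i.2
  have hfix : ∀ (x : GL28), x ∈ Subgroup.closure (genSet emb dec kgens) → ∀ (i : Fin n),
      (g i * x).1.mulVec (bvec k) = fun j => dec (T.get i) j k := fun x hx i => by
    rw [Units.val_mul, ← Matrix.mulVec_mulVec, show x.1.mulVec (bvec k) = bvec k from (hle hx).2,
      mulVec_bvec _ k (hg i)]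
  obtain ⟨f, hfdef⟩ : ∃ f : Fin n × Subgroup.closure (genSet emb dec kgens) →
      Subgroup.closure (genSet emb dec gens), ∀ p, (f p : GL28) = g p.1 * (p.2 : GL28) :=
    ⟨fun p => ⟨g p.1 * (p.2 : GL28), mul_mem (hgH p.1) (hle p.2.2).1⟩, fun _ => rfl⟩
  have hf : Function.Injective f := by
    rintro ⟨i, x, hx⟩ ⟨j, y, hy⟩ hxy
    have h1 : g i * x = g j * y := by
      have h0 := congrArg Subtype.val hxy
      rw [hfdef, hfdef] at h0
      exact h0
    have hij : i = j := by
      have he : img (k : ℕ) (T.get i) = img (k : ℕ) (T.get j) := by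
        rw [img_eq_iff, ← hfix x hx i, ← hfix y hy j, h1]
      have him := h.images
      exact Fin.ext (img_injective_of_check him i.2 j.2 he)
    subst hij
    exact Prod.ext rfl (Subtype.ext (mul_left_cancel h1))
  have h2 := Nat.card_le_card_of_injective f hf
  rwa [Nat.card_prod, Nat.card_fin] at h2

/-- Some generator moves the image of the basis vector under each entry but the first. -/
noncomputable def moveOK (k : ℕ) (kgens : List ℕ) (T : Tr) (i : ℕ) : Bool :=
  i == 0 || kgens.any fun c => !(img k (mulF2 28 c (T.get i)) == img k (T.get i))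

/-- An element commuting with a group fixes the basis vector when the stabiliser fixes only it in
the orbit and the element lies in the group. -/
theorem fix_of_central {k : Fin 28} {n : ℕ} {gens kgens vals : List ℕ} {T par fac srt pos inv : Tr}
    {lower : List (ℕ × Tr)} (h : LevelOK k one n gens kgens vals T par fac srt pos inv lower)
    (hone : dec one = 1) {H : Subgroup GL28} (hgens : ∀ c ∈ gens, CodeMem emb dec H c)
    (hlower : ∀ p ∈ lower, 0 < p.1 ∧
      ∀ i < p.1, CodeMem emb dec (Subgroup.closure (genSet emb dec kgens)) (p.2.get i))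
    (hmove : allFrom 0 n (moveOK k kgens T) = true) {z : GL28}
    (hz : z ∈ Subgroup.closure (genSet emb dec gens))
    (hc : ∀ g ∈ Subgroup.closure (genSet emb dec gens), g * z = z * g) :
    z.1.mulVec (bvec k) = bvec k := by
  obtain ⟨hT, hk⟩ := h.level hone hgens
  obtain ⟨t, ⟨i, hi, et⟩, x, hx, rfl⟩ := exists_factor (emb := emb) (dec := dec) (mul := mulF2 28)
    (one := one) dec_mul hone h.npos h.zero (fun s hs => hs) hlower h.steps hz
  have hxfix : x.1.mulVec (bvec k) = bvec k :=
    (genSet_closure_le emb_injective hk hx).2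
  have him : (t * x).1.mulVec (bvec k) = fun j => dec (T.get i) j k := by
    rw [Units.val_mul, ← Matrix.mulVec_mulVec, hxfix, mulVec_bvec _ k et]
  rcases Nat.eq_zero_or_pos i with rfl | hpos
  · rw [him, h.zero, hone]
    funext j
    rw [bvec, Matrix.one_apply, Pi.single_apply]
  · exfalso
    have hb := of_allFrom_zero hmove hi
    simp only [moveOK, Bool.or_eq_true, beq_iff_eq, List.any_eq_true, Bool.not_eq_true',
      beq_eq_false_iff_ne] at hb
    obtain ⟨c, hck, hne⟩ := hb.resolve_left (by omega)
    obtain ⟨u, ⟨huG, hufix⟩, eu⟩ := hk c hck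
    apply hne
    rw [img_eq_iff, ← him]
    have h1 : (u * (t * x)).1.mulVec (bvec k) = (t * x).1.mulVec (bvec k) := by
      rw [hc u huG, Units.val_mul (t * x) u, ← Matrix.mulVec_mulVec,
        show u.1.mulVec (bvec k) = bvec k from hufix]
    rw [← h1, Units.val_mul u, ← Matrix.mulVec_mulVec, him, ← emb_apply u, eu, dec_mul]
    funext j
    simp only [Matrix.mul_apply, Matrix.mulVec, dotProduct]

/-- Positions giving a basis from the orbit. -/
noncomputable def spanOK (k : ℕ) (n : ℕ) (T : Tr) (idx : List ℕ) (mat : ℕ) (j : ℕ) : Bool :=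
  Nat.blt (idx.getD j 0) n && img j mat == img k (T.get (idx.getD j 0))

/-- A central element is trivial. -/
theorem eq_one_of_central {k : Fin 28} {n : ℕ} {gens kgens vals : List ℕ} {T par fac srt pos inv : Tr}
    {lower : List (ℕ × Tr)} (h : LevelOK k one n gens kgens vals T par fac srt pos inv lower)
    (hone : dec one = 1) {H : Subgroup GL28} (hgens : ∀ c ∈ gens, CodeMem emb dec H c)
    (hlower : ∀ p ∈ lower, 0 < p.1 ∧
      ∀ i < p.1, CodeMem emb dec (Subgroup.closure (genSet emb dec kgens)) (p.2.get i))
    (hmove : allFrom 0 n (moveOK k kgens T) = true)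
    {idx : List ℕ} {mat matInv : ℕ} (hspan : allFrom 0 28 (spanOK k n T idx mat) = true)
    (hinv : mulF2 28 mat matInv = one) {z : GL28}
    (hz : z ∈ Subgroup.closure (genSet emb dec gens))
    (hc : ∀ g ∈ Subgroup.closure (genSet emb dec gens), g * z = z * g) : z = 1 := by
  have hfix := fix_of_central h hone hgens hlower hmove hz hc
  obtain ⟨hT, -⟩ := h.level hone hgens
  have hcol : ∀ j : Fin 28, z.1.mulVec (fun i => dec mat i j) = fun i => dec mat i j := by
    intro j
    have hb := of_allFrom_zero hspan j.2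
    simp only [spanOK, Bool.and_eq_true, beq_iff_eq, Nat.blt_eq] at hb
    obtain ⟨g, hg, e⟩ := hT _ hb.1
    have hge : (fun i => dec mat i j) = g.1.mulVec (bvec k) := by
      rw [mulVec_bvec _ k e, ← decVecF2_img, ← decVecF2_img, hb.2]
    rw [hge, Matrix.mulVec_mulVec, ← Units.val_mul, ← hc g hg, Units.val_mul, ← Matrix.mulVec_mulVec,
      hfix]
  have hzP : z.1 * dec mat = dec mat := by
    ext i j
    exact congrFun (hcol j) i
  refine Units.ext ?_
  calc z.1 = z.1 * (dec mat * dec matInv) := by rw [← dec_mul, hinv, hone, mul_one]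
    _ = 1 := by rw [← mul_assoc, hzP, ← dec_mul, hinv, hone]

/-- A prime factor list: each generator is a product of entries with order dividing `p`. -/
noncomputable def primeOK (p one : ℕ) (gens : List ℕ) (chain : List (ℕ × Tr))
    (data : List (List (ℕ × ℕ))) : Bool :=
  data.map (fun pr => genWord (mulF2 28) one (pr.map Prod.fst) (List.range pr.length)) == gens &&
    data.all fun pr => pr.all fun cv => wordCode (mulF2 28) one chain cv.2 == cv.1 &&
      genWord (mulF2 28) one [cv.1] (List.replicate p 0) == one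

theorem dec_genWord_replicate (hone : dec one = 1) (c : ℕ) : ∀ k, dec (genWord (mulF2 28) one [c]
    (List.replicate k 0)) = dec c ^ k
  | 0 => by rw [pow_zero]; exact hone
  | k + 1 => by
    rw [List.replicate_succ, CfsgLib.Sporadic.genWord_cons, dec_mul, dec_genWord_replicate hone c k, pow_succ']
    rfl

/-- A subgroup holding all elements with trivial `p`th power is everything. -/
theorem eq_top_of_prime {gens : List ℕ} {p : ℕ} {chain : List (ℕ × Tr)}
    {data : List (List (ℕ × ℕ))} (hone : dec one = 1)
    (hok : primeOK p one gens chain data = true)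
    (hchain : ∀ q ∈ chain, 0 < q.1 ∧
      ∀ i < q.1, CodeMem emb dec (Subgroup.closure (genSet emb dec gens)) (q.2.get i))
    (S : Subgroup (Subgroup.closure (genSet emb dec gens)))
    (hS : ∀ x : Subgroup.closure (genSet emb dec gens), x ^ p = 1 → x ∈ S) : S = ⊤ := by
  simp only [primeOK, Bool.and_eq_true, beq_iff_eq, List.all_eq_true] at hok
  obtain ⟨hmap, hall⟩ := hok
  have hmem : ∀ c ∈ gens, CodeMem emb dec (S.map (Subgroup.closure (genSet emb dec gens)).subtype) c := by
    intro c hc
    have hc' : c ∈ data.map fun pr => genWord (mulF2 28) one (pr.map Prod.fst) (List.range pr.length) :=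
      hmap.symm ▸ hc
    obtain ⟨pr, hpr, rfl⟩ := List.mem_map.1 hc'
    refine codeMem_genWord (emb := emb) (dec := dec) (mul := mulF2 28) (one := one)
      dec_mul hone ?_ _
    intro c hc
    obtain ⟨cv, hcv, rfl⟩ := List.mem_map.1 hc
    obtain ⟨hw, hp⟩ := hall pr hpr cv hcv
    obtain ⟨x, hx, e⟩ : CodeMem emb dec (Subgroup.closure (genSet emb dec gens)) cv.1 := hw ▸ wordCode_mem (emb := emb) (dec := dec)
      (mul := mulF2 28) (one := one) dec_mul hone chain hchain cv.2
    refine ⟨x, ⟨⟨x, hx⟩, hS _ (Subtype.ext (emb_injective ?_)), rfl⟩, e⟩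
    rw [SubmonoidClass.coe_pow, OneMemClass.coe_one, map_pow, e, ← dec_genWord_replicate hone, hp,
      hone, map_one]
  rw [eq_top_iff]
  intro x _
  obtain ⟨y, hy, e⟩ := (genSet_closure_le emb_injective hmem) x.2
  rwa [← Subtype.ext e]

end CfsgLib.Sporadic.Ru
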