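import Cfsg.Agent.Lib.Sporadic.Ru.OutBasic

/-! Kernel evaluation of a quarter of the centraliser checks for the element of order 14. -/

set_option autoImplicit false

namespace CfsgLib.Sporadic.Ru.Out

theorem checkB3a : allFrom 3045 508 (locOK bTab bTab bSqTab centB hintBOne hintBTwo) = true := by
  decide +kernel

theorem checkB3b : allFrom 3553 507 (locOK bTab bTab bSqTab centB hintBOne hintBTwo) = true := by
  decide +kernel

end CfsgLib.Sporadic.Ru.Out
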