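import Cfsg.Agent.Lib.Sporadic.Ru.OutCheckA
import Cfsg.Agent.Lib.Sporadic.Ru.OutCheckB0
import Cfsg.Agent.Lib.Sporadic.Ru.OutCheckB1
import Cfsg.Agent.Lib.Sporadic.Ru.OutCheckB2
import Cfsg.Agent.Lib.Sporadic.Ru.OutCheckB3
import Cfsg.Agent.Lib.Schur.OutRigid

/-! The group of order 145926144000 of 28 × 28 matrices has no outer automorphism: it is generated
by an element of order 29, an element of order 14 normalising it and an involution inverting the
latter, and both centralisers are known from kernel checks. -/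

set_option autoImplicit false
set_option maxRecDepth 100000
set_option maxHeartbeats 2000000

namespace CfsgLib.Sporadic.Ru.Out

open CfsgLib.Schur

/-- The power of a code. -/
noncomputable def powC (a n : ℕ) : ℕ := Nat.rec one (fun _ r => mulF2 28 a r) n

theorem dec_powC (a : ℕ) : ∀ n, dec (powC a n) = dec a ^ n
  | 0 => by rw [pow_zero]; exact dec_one
  | n + 1 => by
    show dec (mulF2 28 a (powC a n)) = _
    rw [dec_mul, dec_powC a n, pow_succ']

/-- The sum of the listed powers of a code. -/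
noncomputable def polyC (a : ℕ) (L : List ℕ) : ℕ := L.foldr (fun i r => powC a i ^^^ r) 0

theorem powC_commute {a : ℕ} {M : Matrix (Fin 28) (Fin 28) (ZMod 2)} (h : M * dec a = dec a * M) :
    ∀ n, M * dec (powC a n) = dec (powC a n) * M
  | 0 => by rw [dec_powC, pow_zero, mul_one, one_mul]
  | n + 1 => by
    rw [dec_powC, pow_succ', ← dec_powC, ← mul_assoc, h, mul_assoc, powC_commute h n, mul_assoc]

theorem polyC_commute {a : ℕ} {M : Matrix (Fin 28) (Fin 28) (ZMod 2)} (h : M * dec a = dec a * M) :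
    ∀ L, M * dec (polyC a L) = dec (polyC a L) * M
  | [] => by simp only [polyC, List.foldr_nil, dec, decF2_zero, mul_zero, zero_mul]
  | i :: L => by
    have hx : dec (polyC a (i :: L)) = dec (powC a i) + dec (polyC a L) := by
      simp only [polyC, List.foldr_cons, dec, decF2_xor]
    rw [hx, mul_add, add_mul, polyC_commute h L, powC_commute h i]

/-- The code of a word in three codes. -/
noncomputable def evalC (a b c : ℕ) : List ℕ → ℕ
  | [] => one
  | i :: w => mulF2 28 ([a, b, c].getD i one) (evalC a b c w)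

theorem dec_evalC (a b c : ℕ) : ∀ w, dec (evalC a b c w) = evalThree (dec a) (dec b) (dec c) w
  | [] => dec_one
  | i :: w => by
    rw [evalC, evalThree, dec_mul, dec_evalC a b c w]
    congr 1
    rcases i with _ | _ | _ | i <;> simp [dec_one]

/-- The relations separating the candidates. -/
def relList : List (List ℕ × ℕ) := [([0, 2], 8), ([0, 0, 2], 20)]

/-- A relation fails at the assignment. -/
noncomputable def failsOK (a b c : ℕ) : Bool :=
  relList.any fun r => (canonF2 28 (powC (evalC a b c r.1) r.2) && canonF2 28 one) &&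
    !(powC (evalC a b c r.1) r.2 == one)

/-- Each product is the product of two earlier values. -/
noncomputable def slpOK (k : ℕ) : Bool :=
  (Nat.blt k 3 && genVals.get k == [aTab, bTab, cTab].getD k one) ||
    (Nat.ble 3 k && (Nat.blt (genProg.getD (k - 3) (0, 0)).1 k && Nat.blt (genProg.getD (k - 3) (0, 0)).2 k) &&
      genVals.get k == mulF2 28 (genVals.get (genProg.getD (k - 3) (0, 0)).1)
        (genVals.get (genProg.getD (k - 3) (0, 0)).2))

theorem abc_check : (abcWords.map (wordCode (mulF2 28) one [(4060, g0T), (2304, g1T), (975, g2T), (16, g3T)]) ==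
    [aTab, bTab, cTab]) = true := by decide +kernel

theorem base_check : (powC aTab 29 == one && (canonF2 28 aTab && canonF2 28 one) && !(aTab == one) &&
    mulF2 28 bTab aTab == mulF2 28 (powC aTab 4) bTab &&
    mulF2 28 cTab bTab == mulF2 28 (powC bTab 13) cTab &&
    relList.all (fun r => powC (evalC aTab bTab cTab r.1) r.2 == one)) = true := by decide +kernel

theorem col_check : (polyC aTab qOne == qOneTab && polyC aTab qTwo == qTwoTab &&
    powC bTab 2 == bSqTab && img 0 qOneTab == img 1 one && img 0 qTwoTab == img 2 one &&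
    img 0 bTab == img 1 one && img 0 bSqTab == img 2 one) = true := by decide +kernel

theorem centA_check : (centA.all fun h => (List.range 29).any fun i => h == powC aTab i) = true := by
  decide +kernel

theorem surv_check : ([1, 2].all fun j => centB.all fun h =>
    (j == 1 && h == one) || failsOK (powC aTab j) bTab (mulF2 28 cTab h)) = true := by decide +kernel

theorem slp_check : (allFrom 0 (3 + genProg.length) slpOK &&
    (genPos.all fun p => Nat.blt p (3 + genProg.length)) &&
    genPos.map (fun p => genVals.get p) == g0Gens) = true := by decide +kernel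

theorem checkA : allFrom 0 4060 (locOK aTab qOneTab qTwoTab centA hintAOne hintATwo) = true := by
  have h := allFrom_append (allFrom_append (allFrom_append checkA0 checkA1) checkA2) checkA3
  exact h

theorem checkB : allFrom 0 4060 (locOK bTab bTab bSqTab centB hintBOne hintBTwo) = true := by
  have h := allFrom_append (allFrom_append (allFrom_append (allFrom_append checkB0a checkB0b)
    (allFrom_append checkB1a checkB1b)) (allFrom_append checkB2a checkB2b))
    (allFrom_append checkB3a checkB3b)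
  exact h

theorem col_mulVec {c : ℕ} {k : Fin 28} (h : img (0 : Fin 28) c = img k one) :
    (dec c).mulVec (bvec 0) = bvec k := by
  have h1 := (img_eq_iff (0 : Fin 28) c c).1 rfl
  have h2 : (fun i => dec c i 0) = fun i => dec one i k := by
    rw [← decVecF2_img, ← decVecF2_img, h]
  rw [bvec, Matrix.mulVec_single_one]
  funext i
  rw [Matrix.col_apply, congrFun h2 i, dec_one, bvec, Matrix.one_apply, Pi.single_apply]

/-- Commuting with a matrix that moves the first basis vector determines the image of its image. -/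
theorem mulVec_of_commute {x : GL28} {M : Matrix (Fin 28) (Fin 28) (ZMod 2)} {k : Fin 28}
    (hM : M.mulVec (bvec 0) = bvec k) (h : x.1 * M = M * x.1) :
    x.1.mulVec (bvec k) = M.mulVec (x.1.mulVec (bvec 0)) := by
  rw [← hM, Matrix.mulVec_mulVec, Matrix.mulVec_mulVec, h]

theorem card_out_grp_g0 : Nat.card (Cfsg.Out (grp g0Gens)) = 1 := by
  classical
  have hw : ∀ n, CodeMem emb dec (grp g0Gens)
      (wordCode (mulF2 28) one [(4060, g0T), (2304, g1T), (975, g2T), (16, g3T)] n) :=
    wordCode_mem (emb := emb) (dec := dec) (mul := mulF2 28) (one := one) dec_mul dec_one _ low0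
  have habc := beq_iff_eq.1 abc_check
  simp only [abcWords, List.map_cons, List.map_nil, List.cons.injEq, and_true] at habc
  obtain ⟨ga, hga, ea⟩ := habc.1 ▸ hw 11007707233
  obtain ⟨gb, hgb, eb⟩ := habc.2.1 ▸ hw 1199152637
  obtain ⟨gc, hgc, ec⟩ := habc.2.2 ▸ hw 5116560786
  have hbase := base_check
  simp only [Bool.and_eq_true, beq_iff_eq, Bool.not_eq_true', beq_eq_false_iff_ne, List.all_eq_true] at hbase
  obtain ⟨⟨⟨⟨⟨hp29, hca, hc1⟩, hne1⟩, hba⟩, hcb⟩, hrel⟩ := hbase
  have hcol := col_check
  simp only [Bool.and_eq_true, beq_iff_eq] at hcol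
  obtain ⟨⟨⟨⟨⟨⟨hq1, hq2⟩, hb2⟩, hi1⟩, hi2⟩, hj1⟩, hj2⟩ := hcol
  have hpow : ∀ {g : GL28} {t : ℕ} (n : ℕ), emb g = dec t → emb (g ^ n) = dec (powC t n) := fun n e => by
    rw [map_pow, e, dec_powC]
  have hgA : ga ^ 29 = 1 := emb_injective (by rw [hpow _ ea, hp29, dec_one, map_one])
  obtain ⟨a, rfl⟩ : ∃ a : grp g0Gens, a.1 = ga := ⟨⟨ga, hga⟩, rfl⟩
  obtain ⟨b, rfl⟩ : ∃ b : grp g0Gens, b.1 = gb := ⟨⟨gb, hgb⟩, rfl⟩
  obtain ⟨c, rfl⟩ : ∃ c : grp g0Gens, c.1 = gc := ⟨⟨gc, hgc⟩, rfl⟩
  have : Fact (Nat.Prime 29) := ⟨by norm_num⟩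
  have ha1 : a ≠ 1 := fun h => hne1 (decF2_injOn hca hc1 (by
    show dec _ = dec _
    rw [← ea, h, Subgroup.coe_one, map_one, dec_one]))
  have hord : orderOf a = 29 := orderOf_eq_prime (Subtype.ext (by rw [SubmonoidClass.coe_pow, hgA, Subgroup.coe_one])) ha1
  have hb : b * a * b⁻¹ = a ^ 4 := mul_inv_eq_iff_eq_mul.2 (Subtype.ext (emb_injective (by
    rw [Subgroup.coe_mul, Subgroup.coe_mul, SubmonoidClass.coe_pow, map_mul, map_mul, eb, ea, hpow _ ea, ← dec_mul, ← dec_mul, hba])))
  have hc : c * b * c⁻¹ = b ^ 13 := mul_inv_eq_iff_eq_mul.2 (Subtype.ext (emb_injective (by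
    rw [Subgroup.coe_mul, Subgroup.coe_mul, SubmonoidClass.coe_pow, map_mul, map_mul, eb, ec, hpow _ eb, ← dec_mul, ← dec_mul, hcb])))
  have hC : ∀ x : grp g0Gens, x * a * x⁻¹ = a → ∃ i : ℕ, x = a ^ i := by
    intro x hx
    have hxa : (x : GL28) * a.1 = a.1 * x := by
      rw [← Subgroup.coe_mul, ← Subgroup.coe_mul, mul_inv_eq_iff_eq_mul.1 hx]
    have hM : x.1.1 * dec aTab = dec aTab * x.1.1 := by
      rw [← ea, emb_apply, ← Units.val_mul, ← Units.val_mul, hxa]
    obtain ⟨h, hh, eh⟩ := mem_of_locOK checkA x.2 ea hxa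
      (mulVec_of_commute (col_mulVec hi1) (hq1 ▸ polyC_commute hM qOne))
      (mulVec_of_commute (col_mulVec hi2) (hq2 ▸ polyC_commute hM qTwo))
    have hcheck := centA_check
    simp only [List.all_eq_true, List.any_eq_true, beq_iff_eq, List.mem_range] at hcheck
    obtain ⟨i, -, hi⟩ := hcheck h hh
    exact ⟨i, Subtype.ext (emb_injective (by rw [SubmonoidClass.coe_pow, eh, hi, hpow i ea]))⟩
  set Lc : List (grp g0Gens) := ((Set.toFinite
    {x : grp g0Gens | ∃ h ∈ centB, emb x.1 = dec (mulF2 28 cTab h)}).toFinset).toList with hLcdef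
  have hLc : ∀ x : grp g0Gens, x * b * x⁻¹ = b ^ 13 → x ∈ Lc := by
    intro x hx
    have hy : (c⁻¹ * x) * b * (c⁻¹ * x)⁻¹ = b := by
      calc (c⁻¹ * x) * b * (c⁻¹ * x)⁻¹ = c⁻¹ * (x * b * x⁻¹) * c := by group
        _ = c⁻¹ * (c * b * c⁻¹) * c := by rw [hx, hc]
        _ = b := by group
    have hyb : (c.1⁻¹ * x.1) * b.1 = b.1 * (c.1⁻¹ * x.1) := by
      simp only [← Subgroup.coe_inv, ← Subgroup.coe_mul, mul_inv_eq_iff_eq_mul.1 hy]
    have hM : (c.1⁻¹ * x.1).1 * dec bTab = dec bTab * (c.1⁻¹ * x.1).1 := by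
      rw [← eb, emb_apply, ← Units.val_mul, ← Units.val_mul, hyb]
    have hM2 : (c.1⁻¹ * x.1).1 * dec bSqTab = dec bSqTab * (c.1⁻¹ * x.1).1 := by
      rw [← hb2]
      exact powC_commute hM 2
    obtain ⟨h, hh, eh⟩ := mem_of_locOK checkB (x := c.1⁻¹ * x.1) ((grp g0Gens).mul_mem ((grp g0Gens).inv_mem hgc) x.2) eb
      hyb (mulVec_of_commute (col_mulVec hj1) hM) (mulVec_of_commute (col_mulVec hj2) hM2)
    rw [hLcdef, Finset.mem_toList, Set.Finite.mem_toFinset]
    exact ⟨h, hh, by rw [dec_mul, ← ec, ← eh, ← map_mul, mul_inv_cancel_left]⟩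
  have hgen : Subgroup.closure {a, b, c} = ⊤ := by
    have hs := slp_check
    simp only [Bool.and_eq_true, beq_iff_eq, List.all_eq_true, Nat.blt_eq] at hs
    obtain ⟨⟨hall, hpos⟩, hmap⟩ := hs
    have hS : ∀ k, k < 3 + genProg.length →
        CodeMem emb dec (Subgroup.closure {a.1, b.1, c.1}) (genVals.get k) := by
      intro k
      induction k using Nat.strong_induction_on with
      | _ k ih =>
        intro hk
        have hb' := of_allFrom_zero hall hk
        simp only [slpOK, Bool.or_eq_true, Bool.and_eq_true, beq_iff_eq, Nat.blt_eq, Nat.ble_eq] at hb'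
        rcases hb' with ⟨hlt, e⟩ | ⟨⟨-, hi, hj⟩, e⟩
        · rw [e]
          obtain rfl | rfl | rfl : k = 0 ∨ k = 1 ∨ k = 2 := by omega
          · exact ⟨a.1, Subgroup.subset_closure (Set.mem_insert _ _), ea⟩
          · exact ⟨b.1, Subgroup.subset_closure (Set.mem_insert_of_mem _ (Set.mem_insert _ _)), eb⟩
          · exact ⟨c.1, Subgroup.subset_closure
              (Set.mem_insert_of_mem _ (Set.mem_insert_of_mem _ rfl)), ec⟩
        · rw [e]
          exact CodeMem.mul (emb := emb) (dec := dec) (mul := mulF2 28) dec_mul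
            (ih _ hi (by omega)) (ih _ hj (by omega))
    have hle : grp g0Gens ≤ Subgroup.closure {a.1, b.1, c.1} := genSet_closure_le emb_injective (by
      intro t ht
      have ht' : t ∈ List.map (fun p => genVals.get p) genPos := by rw [hmap]; exact ht
      obtain ⟨p, hp, rfl⟩ := List.mem_map.1 ht'
      exact hS p (hpos p hp))
    rw [eq_top_iff]
    intro x _
    have hx : x.1 ∈ (Subgroup.closure {a, b, c}).map (grp g0Gens).subtype := by
      rw [MonoidHom.map_closure]
      simp only [Set.image_insert_eq, Set.image_singleton, Subgroup.coe_subtype]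
      exact hle x.2
    obtain ⟨y, hy, e⟩ := hx
    rwa [← Subtype.ext e]
  have hR : ∀ r ∈ relList, evalThree a b c r.1 ^ r.2 = 1 := by
    intro r hr
    refine Subtype.ext (emb_injective ?_)
    show (emb.comp (grp g0Gens).subtype) (evalThree a b c r.1 ^ r.2) = emb 1
    rw [map_pow, evalThree_map, map_one]
    show evalThree (emb a.1) (emb b.1) (emb c.1) r.1 ^ r.2 = 1
    rw [ea, eb, ec, ← dec_evalC, ← dec_powC, hrel r hr, dec_one]
  refine card_out_eq_one (le_of_le_of_eq (card_out_le a b c 29 4 13 hord ?_ hC hb (by norm_num)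
    [1, 2] ?_ hc Lc hLc hgen relList hR [(1, c)] ?_) rfl)
  · rw [card_grp_g0]; norm_num
  · have h : ∀ j < 29, j ≠ 0 → ∃ i < 14, j * 4 ^ i % 29 ∈ [1, 2] := by decide
    exact fun j hj h0 => (h j hj h0).imp fun i hi => hi.2
  · intro j hj x hx hrels
    rw [hLcdef, Finset.mem_toList, Set.Finite.mem_toFinset] at hx
    obtain ⟨h, hh, ex⟩ := hx
    have hs := surv_check
    simp only [List.all_eq_true, Bool.or_eq_true, Bool.and_eq_true, beq_iff_eq, failsOK,
      List.any_eq_true, Bool.not_eq_true', beq_eq_false_iff_ne] at hs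
    rcases hs j hj h hh with ⟨rfl, rfl⟩ | ⟨r, hr, ⟨c1, c2⟩, hne⟩
    · rw [List.mem_singleton]
      refine Prod.ext rfl (Subtype.ext (emb_injective ?_))
      rw [ex, dec_mul, dec_one, mul_one, ← ec]
    · refine absurd (decF2_injOn c1 c2 ?_) hne
      show dec _ = dec _
      have he := congrArg (emb.comp (grp g0Gens).subtype) (hrels r hr)
      rw [map_pow, evalThree_map, map_one] at he
      replace he : evalThree (emb (a.1 ^ j)) (emb b.1) (emb x.1) r.1 ^ r.2 = 1 := he
      rw [hpow j ea, eb, ex, ← dec_evalC, ← dec_powC] at he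
      rw [he, dec_one]

end CfsgLib.Sporadic.Ru.Out
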