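import Cfsg.Agent.Lib.Sporadic.Chain

/-! Generated tables: three elements of the group of order 145926144000 and their centralisers. -/

set_option autoImplicit false
set_option maxRecDepth 20000

namespace CfsgLib.Sporadic.Ru.Out

/-- The element of order 29. -/
def aTab : ℕ := 0x257918f163df8a395941502853e19030492f44309cd773196d579f24303fc8a7b061610514c6490b4b0584db493f48300d3e58691ac52d0430c11c6fc5849cb3071e9ff8d6864976b246a430d63267bb49db93711f9cf118a9e5d387d2b390260d7b

/-- The element of order 14 normalising it. -/
def bTab : ℕ := 0xe1b736c305c9681178e147ddea744bdf94439081e4d858748d7cad24cf302043c79f909c9b550575d92c00731ccb4bbc7c35625708d05d40f721774e7f6c687bbdfa450b66b477b039cb2e55408a4b53c932e3c82b687acd07e2224da43551235528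

/-- An involution inverting the element of order 14. -/
def cTab : ℕ := 0x9fe5f2e607fce45b8d312eaa88a8c8fd668d5f54c2ee417c138b2e38577a834ada79e3753a1af5b7957f43def8c0c22434fbd2d2fcd881976e68c9b4f35456bf997e30406c3b81ead7c8596fbef0174f878405b6eca02795486b32a2087a8c5a708b

/-- The positions of the three elements in the transversals. -/
def abcWords : List ℕ :=
  [11007707233, 1199152637, 5116560786]

/-- The exponents of the polynomial in the element of order 29 sending the first basis vector to the second. -/
def qOne : List ℕ :=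
  [0, 2, 3, 4, 5, 6, 7, 8, 10, 11, 13, 14, 16, 18, 19, 20, 25, 26]

/-- The same for the third basis vector. -/
def qTwo : List ℕ :=
  [0, 1, 2, 4, 8, 10, 11, 12, 16, 17, 24, 27]

/-- Part of `hintAOne`. -/
def hintAOne_p0000 : Tr := .node (.node (.node (.node (.node (.node (.node (.node (.leaf 8192) (.leaf 598958507230)) (.node (.leaf 934643111841) (.leaf 753615611422))) (.node (.node (.leaf 364473369356) (.leaf 404735095648)) (.node (.leaf 943521408941) (.leaf 882424698650)))) (.node (.node (.node (.leaf 319688069801) (.leaf 731268494837)) (.node (.leaf 271006462535) (.leaf 834191656635))) (.node (.node (.leaf 560611488916) (.leaf 353885151987)) (.node (.leaf 964070406118) (.leaf 714495063509))))) (.node (.node (.node (.node (.leaf 647471805762) (.leaf 179927060881)) (.node (.leaf 141941838149) (.leaf 826639890096))) (.node (.node (.leaf 795797620339) (.leaf 536665994350)) (.node (.leaf 509552284739) (.leaf 63247458455)))) (.node (.node (.node (.leaf 920437053312) (.leaf 678316496247)) (.node (.leaf 931761301402) (.leaf 836998457024))) (.node (.node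 (.leaf 859196569328) (.leaf 978788505620)) (.node (.leaf 862541772532) (.leaf 488563356693)))))) (.node (.node (.node (.node (.node (.leaf 877437376271) (.leaf 927013865359)) (.node (.leaf 25148170315) (.leaf 87927828692))) (.node (.node (.leaf 144071180617) (.leaf 446175859645)) (.node (.leaf 398312563540) (.leaf 955174025172)))) (.node (.node (.node (.leaf 283010966114) (.leaf 826884949680)) (.node (.leaf 326839853754) (.leaf 532208751716))) (.node (.node (.leaf 86477738192) (.leaf 607067768046)) (.node (.leaf 340689240792) (.leaf 541529560181))))) (.node (.node (.node (.node (.leaf 397442732883) (.leaf 357740253947)) (.node (.leaf 850447304406) (.leaf 583323309253))) (.node (.node (.leaf 313359774365) (.leaf 984167958550)) (.node (.leaf 237020279301) (.leaf 86786031825)))) (.node (.node (.node (.leaf 528804955229) (.leaf 416044389240)) (.node (.leaf 304214971015) (.leaf 503172551740))) (.node (.node (.leaf 928401221521) (.leaf 672184403304)) (.node (.leaf 762244412980) (.leaf 37184213089))))))) (.node (.node (.node (.node (.node (.node (.leaf 385868305212)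 (.leaf 22565072963)) (.node (.leaf 1060246964407) (.leaf 746642105878))) (.node (.node (.leaf 122120704283) (.leaf 392816493388)) (.node (.leaf 435828503460) (.leaf 37370019937)))) (.node (.node (.node (.leaf 638078285111) (.leaf 66096017567)) (.node (.leaf 765771736636) (.leaf 382863762224))) (.node (.node (.leaf 106169344243) (.leaf 655947027788)) (.node (.leaf 374948123424) (.leaf 926606624653))))) (.node (.node (.node (.node (.leaf 860752819952) (.leaf 230235726331)) (.node (.leaf 37950718051) (.leaf 16351092793))) (.node (.node (.leaf 107365900533) (.leaf 255730815526)) (.node (.leaf 908157495127) (.leaf 10006638626)))) (.node (.node (.node (.leaf 404499747680) (.leaf 1039987202182)) (.node (.leaf 923317983109) (.leaf 485134525455))) (.node (.node (.leaf 1078648793308) (.leaf 1025962506334)) (.node (.leaf 409534378858) (.leaf 886151616292)))))) (.node (.node (.node (.node (.node (.leaf 629591303461) (.leaf 853983856353)) (.node (.leaf 203535929799) (.leaf 674967500142))) (.node (.node (.leaf 33610596444) (.leaf 918319179641)) (.node (.leaf 411188188014)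 (.leaf 415920665463)))) (.node (.node (.node (.leaf 470317695971) (.leaf 963109980130)) (.node (.leaf 577851380924) (.leaf 386347348796))) (.node (.node (.leaf 715613709781) (.leaf 112641216771)) (.node (.leaf 182720725398) (.leaf 541529969781))))) (.node (.node (.node (.node (.leaf 949639788484) (.leaf 359718130432)) (.node (.leaf 904603420497) (.leaf 1021409564756))) (.node (.node (.leaf 1069290244300) (.leaf 831894324918)) (.node (.leaf 390451749702) (.leaf 837786207936)))) (.node (.node (.node (.leaf 247987835423) (.leaf 731037439476)) (.node (.leaf 857358776044) (.leaf 806124672651))) (.node (.node (.leaf 584719676616) (.leaf 531071198307)) (.node (.leaf 174696333703) (.leaf 0)))))))) (.node (.node (.node (.node (.node (.node (.node (.leaf 738529236482) (.leaf 422665274250)) (.node (.leaf 400486540118) (.leaf 944643344305))) (.node (.node (.leaf 602108302561) (.leaf 993221892135)) (.node (.leaf 306741854860) (.leaf 365872907024)))) (.node (.node (.node (.leaf 79414956222) (.leaf 55341097089)) (.node (.leaf 768575649348) (.leaf 34114555996))) (.node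 (.node (.leaf 188095181221) (.leaf 147906314578)) (.node (.leaf 427299718041) (.leaf 832011675318))))) (.node (.node (.node (.node (.leaf 52223062139) (.leaf 685501752715)) (.node (.leaf 256309223976) (.leaf 647780500802))) (.node (.node (.leaf 793577268849) (.leaf 76953735354)) (.node (.leaf 13839618097) (.leaf 31263424598)))) (.node (.node (.node (.leaf 635253617968) (.leaf 715459093973)) (.node (.leaf 833273820857) (.leaf 40399224933))) (.node (.node (.leaf 857671747308) (.leaf 1031398893676)) (.node (.leaf 842411562700) (.leaf 502461285434)))))) (.node (.node (.node (.node (.node (.leaf 288038756979) (.leaf 684454303110)) (.node (.leaf 490465854488) (.leaf 467883713504))) (.node (.node (.leaf 34355982428) (.leaf 118876266772)) (.node (.leaf 264292221491) (.leaf 912851273575)))) (.node (.node (.node (.leaf 537331106927) (.leaf 463674381272)) (.node (.leaf 52758634619) (.leaf 37490651233))) (.node (.node (.leaf 671208949092) (.leaf 132863631669)) (.node (.leaf 501064438838) (.leaf 164115755376))))) (.node (.node (.node (.node (.leaf 585667732684)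 (.leaf 488955343895)) (.node (.leaf 1058368690354) (.leaf 181304107412))) (.node (.node (.leaf 704749589958) (.leaf 453539918797)) (.node (.leaf 702790157763) (.leaf 1084724938986)))) (.node (.node (.node (.leaf 700027282872) (.leaf 783181104735)) (.node (.leaf 484234634251) (.leaf 964132091878))) (.node (.node (.leaf 715428566485) (.leaf 833126426297)) (.node (.leaf 993789495335) (.leaf 873739900683))))))) (.node (.node (.node (.node (.node (.node (.leaf 327405052604) (.leaf 718146844120)) (.node (.leaf 46470144115) (.leaf 728992568813))) (.node (.node (.leaf 184501465500) (.leaf 219176464869)) (.node (.leaf 700480157113) (.leaf 873861306123)))) (.node (.node (.node (.leaf 677532669302) (.leaf 249311871519)) (.node (.leaf 1067571808450) (.leaf 781451732572))) (.node (.node (.leaf 273723359824) (.leaf 546028303484)) (.node (.leaf 1007189223485) (.leaf 721778615772))))) (.node (.node (.node (.node (.leaf 719858628058) (.leaf 230817358332)) (.node (.leaf 934201620384) (.leaf 341013811928))) (.node (.node (.leaf 208456389073) (.leaf 626751313182)) (.node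 (.leaf 37297184865) (.leaf 525858133084)))) (.node (.node (.node (.leaf 333919552201) (.leaf 430372860828)) (.node (.leaf 656687052109) (.leaf 1087008319725))) (.node (.node (.leaf 133387333942) (.leaf 551737017476)) (.node (.leaf 284605035107) (.leaf 121768923417)))))) (.node (.node (.node (.node (.node (.leaf 257542996522) (.leaf 613083460863)) (.node (.leaf 989297817637) (.leaf 581319062723))) (.node (.node (.leaf 1045461551252) (.leaf 1079707191520)) (.node (.leaf 967676364781) (.leaf 64880304283)))) (.node (.node (.node (.leaf 910498539358) (.leaf 119876452628)) (.node (.leaf 815410054816) (.leaf 650704057670))) (.node (.node (.leaf 1001712465971) (.leaf 504038409278)) (.node (.leaf 884065568541) (.leaf 1088002185455))))) (.node (.node (.node (.node (.leaf 633456928046) (.leaf 668478698848)) (.node (.leaf 21076590658) (.leaf 902752085838))) (.node (.node (.leaf 56438890628) (.leaf 496741930028)) (.node (.leaf 902160045900) (.leaf 693904430500)))) (.node (.node (.node (.leaf 1005719734330) (.leaf 829932803765)) (.node (.leaf 395797807952) (.leaf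 713282262481))) (.node (.node (.leaf 855252584164) (.leaf 183212282264)) (.node (.leaf 513318696012) (.leaf 0))))))))

/-- Part of `hintAOne`. -/
def hintAOne_p0001 : Tr := .node (.node (.node (.node (.node (.node (.node (.node (.leaf 25334558795) (.leaf 58114830473)) (.node (.leaf 851251209) (.leaf 592701764825))) (.node (.node (.leaf 128257315110) (.leaf 935791683489)) (.node (.leaf 56485232773) (.leaf 574634382520)))) (.node (.node (.node (.leaf 524565849180) (.leaf 1061857417400)) (.node (.leaf 274014855760) (.leaf 807278028429))) (.node (.node (.leaf 349108552424) (.leaf 648698393922)) (.node (.leaf 932972521375) (.leaf 312273302171))))) (.node (.node (.node (.node (.leaf 581126907075) (.leaf 48416284789)) (.node (.leaf 449872212936) (.leaf 463812101080))) (.node (.node (.leaf 1026649184351) (.leaf 176377405833)) (.node (.leaf 1064016595131) (.leaf 757542331944)))) (.node (.node (.node (.leaf 531848004708) (.leaf 261899538990)) (.node (.leaf 1047591205016) (.leaf 916760389492))) (.node (.node (.leaf 830505572022) (.leaf 964383533030)) (.node (.leaf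 5983830043) (.leaf 684332303749)))))) (.node (.node (.node (.node (.node (.leaf 219103400421) (.leaf 341039456984)) (.node (.leaf 624167105816) (.leaf 593089680601))) (.node (.node (.leaf 524647380060) (.leaf 807026005645)) (.node (.leaf 857846269676) (.leaf 209783513554)))) (.node (.node (.node (.leaf 328005137084) (.leaf 77189046458)) (.node (.leaf 238037037574) (.leaf 208148152784))) (.node (.node (.leaf 729589106157) (.leaf 747822229016)) (.node (.leaf 733661197816) (.leaf 156896883039))))) (.node (.node (.node (.node (.leaf 714168350164) (.leaf 437924877227)) (.node (.leaf 6316949532) (.leaf 86688710865))) (.node (.node (.leaf 884679903009) (.leaf 361433858820)) (.node (.leaf 861852391154) (.leaf 11789750315)))) (.node (.node (.node (.leaf 13641330736) (.leaf 70888784040)) (.node (.leaf 668024530272) (.leaf 707022783944))) (.node (.node (.leaf 315909247648) (.leaf 290088653433)) (.node (.leaf 613664847103) (.leaf 419789742978))))))) (.node (.node (.node (.node (.node (.node (.leaf 558186632337) (.leaf 743058978318)) (.node (.leaf 730397365745)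 (.leaf 1334530058))) (.node (.node (.leaf 741316302348) (.leaf 60852371599)) (.node (.leaf 961267455967) (.leaf 254471152164)))) (.node (.node (.node (.leaf 580200764611) (.leaf 733390521847)) (.node (.leaf 961955960800) (.leaf 235499434499))) (.node (.node (.leaf 1045969995924) (.leaf 1089223645424)) (.node (.leaf 1092769327350) (.leaf 514506921038))))) (.node (.node (.node (.node (.leaf 692546332065) (.leaf 598947869918)) (.node (.leaf 600121238750) (.leaf 335484609228))) (.node (.node (.leaf 846545336018) (.leaf 131249733936)) (.node (.leaf 489052935191) (.leaf 979983058964)))) (.node (.node (.node (.leaf 1088707959023) (.leaf 95652577504)) (.node (.leaf 138584711489) (.leaf 621337740559))) (.node (.node (.leaf 401824707420) (.leaf 429543642012)) (.node (.leaf 771802740301) (.leaf 520792527959)))))) (.node (.node (.node (.node (.node (.leaf 988446734370) (.leaf 479677809665)) (.node (.leaf 736856516093) (.leaf 822721910443))) (.node (.node (.leaf 749717689883) (.leaf 1004380973113)) (.node (.leaf 257660105258) (.leaf 190660809133)))) (.node (.node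 (.node (.leaf 821691721386) (.leaf 647419422018)) (.node (.leaf 297575215746) (.leaf 677653931382))) (.node (.node (.leaf 129956471082) (.leaf 190844903853)) (.node (.leaf 525383402588) (.leaf 792865748592))))) (.node (.node (.node (.node (.leaf 896621164349) (.leaf 1036782450813)) (.node (.leaf 346949202656) (.leaf 264542687795))) (.node (.node (.leaf 525145232476) (.leaf 729006343661)) (.node (.leaf 214013637078) (.leaf 767996524098)))) (.node (.node (.node (.leaf 36405456992) (.leaf 890317113134)) (.node (.leaf 931141588888) (.leaf 334501061322))) (.node (.node (.leaf 568047723684) (.leaf 725285180900)) (.node (.leaf 1013090248775) (.leaf 0)))))))) (.node (.node (.node (.node (.node (.node (.node (.leaf 773799913042) (.leaf 804801222277)) (.node (.leaf 829156095667) (.leaf 707615843784))) (.node (.node (.leaf 1051840329889) (.leaf 945281767347)) (.node (.leaf 1048939374745) (.leaf 587890148563)))) (.node (.node (.node (.leaf 897355523901) (.leaf 68917940388)) (.node (.leaf 1025756833886) (.leaf 155411689820))) (.node (.node (.leaf 317695816359) (.leaf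 368509195028)) (.node (.leaf 25846919246) (.leaf 1039181891717))))) (.node (.node (.node (.node (.leaf 470281323491) (.leaf 123494936861)) (.node (.leaf 990808066085) (.leaf 907809494870))) (.node (.node (.leaf 649806771525) (.leaf 389509985091)) (.node (.leaf 267708834365) (.leaf 589101909204)))) (.node (.node (.node (.leaf 370512327447) (.leaf 302856327813)) (.node (.leaf 411188630382) (.leaf 391444366153))) (.node (.node (.leaf 424719176592) (.leaf 377425081124)) (.node (.leaf 104926257393) (.leaf 917852743542)))))) (.node (.node (.node (.node (.node (.leaf 903735875408) (.leaf 951975892941)) (.node (.leaf 325495497398) (.leaf 29227040850))) (.node (.node (.leaf 342132474587) (.leaf 518630069332)) (.node (.leaf 11625599018) (.leaf 733948073464)))) (.node (.node (.node (.leaf 692519400865) (.leaf 207702024653)) (.node (.leaf 959408703452) (.leaf 856880711399))) (.node (.node (.leaf 319680328361) (.leaf 804974438023)) (.node (.leaf 587750618323) (.leaf 379961910058))))) (.node (.node (.node (.node (.leaf 185484808605) (.leaf 606216148204)) (.node (.leaf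 809891792534) (.leaf 1069671942348))) (.node (.node (.leaf 20973326402) (.leaf 301913076355)) (.node (.leaf 152739955033) (.leaf 447687726017)))) (.node (.node (.node (.leaf 784779228769) (.leaf 336886674126)) (.node (.leaf 187093823904) (.leaf 27588755536))) (.node (.node (.leaf 1039841486982) (.leaf 498588423218)) (.node (.leaf 690834752925) (.leaf 344901141214))))))) (.node (.node (.node (.node (.node (.node (.leaf 204032995785) (.leaf 812812469916)) (.node (.leaf 169863074173) (.leaf 215064113624))) (.node (.node (.leaf 951796766669) (.leaf 933934675872)) (.node (.leaf 890765293360) (.leaf 814737225375)))) (.node (.node (.node (.leaf 983453480982) (.leaf 260730978861)) (.node (.leaf 29749887060) (.leaf 651662640455))) (.node (.node (.leaf 993493055527) (.leaf 522796938332)) (.node (.leaf 36126330976) (.leaf 408258741093))))) (.node (.node (.node (.node (.leaf 153642758490) (.leaf 234878161410)) (.node (.leaf 912997021543) (.leaf 646976107842))) (.node (.node (.leaf 124131393823) (.leaf 1058340681906)) (.node (.leaf 1070501882060) (.leaf 863373952756))))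 (.node (.node (.node (.leaf 679225243000) (.leaf 194252267957)) (.node (.leaf 536489837678) (.leaf 390116737861))) (.node (.node (.leaf 1066552137919) (.leaf 486312870929)) (.node (.leaf 515968971856) (.leaf 298851451523)))))) (.node (.node (.node (.node (.node (.leaf 541323748469) (.leaf 809155905171)) (.node (.leaf 876338398990) (.leaf 966663501801))) (.node (.node (.leaf 611913696507) (.leaf 377662792484)) (.node (.leaf 635471459632) (.leaf 927692666768)))) (.node (.node (.node (.leaf 728126019052) (.leaf 831055693494)) (.node (.leaf 751719106077) (.leaf 286034416232))) (.node (.node (.leaf 1017988433999) (.leaf 751557662237)) (.node (.leaf 766191892028) (.leaf 464810341338))))) (.node (.node (.node (.node (.leaf 1062860249272) (.leaf 68592648356)) (.node (.leaf 769565455943) (.leaf 113942216966))) (.node (.node (.leaf 358243398397) (.leaf 252452643363)) (.node (.leaf 1079226136797) (.leaf 1001868703796)))) (.node (.node (.node (.leaf 526201721948) (.leaf 1026077960286)) (.node (.leaf 224508625391) (.leaf 855072638691))) (.node (.node (.leaf 149163135316)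 (.leaf 424949310352)) (.node (.leaf 283428315746) (.leaf 0))))))))

/-- Part of `hintAOne`. -/
def hintAOne_p0010 : Tr := .node (.node (.node (.node (.node (.node (.node (.node (.leaf 825372886704) (.leaf 715287545301)) (.node (.leaf 38767186019) (.leaf 1063011743928))) (.node (.node (.leaf 562829325465) (.leaf 334286467786)) (.node (.leaf 982255577110) (.leaf 571802932397)))) (.node (.node (.node (.leaf 383605314354) (.leaf 137390276928)) (.node (.leaf 751761593885) (.leaf 1010081073219))) (.node (.node (.leaf 1011648038981) (.leaf 498260075568)) (.node (.leaf 251296215587) (.leaf 1055438469292))))) (.node (.node (.node (.node (.leaf 549378303103) (.leaf 362545099529)) (.node (.leaf 302829573) (.leaf 254347854372))) (.node (.node (.leaf 81274228931) (.leaf 623087359255)) (.node (.leaf 1036362041468) (.leaf 693682967971)))) (.node (.node (.node (.leaf 354229207795) (.leaf 856266073829)) (.node (.leaf 489849771031) (.leaf 138740093249))) (.node (.node (.leaf 1091409225973) (.leaf 1062217980088)) (.node (.leaf 450130101193) (.leaf 1006684182588))))))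 (.node (.node (.node (.node (.node (.leaf 953567791057) (.leaf 137184424256)) (.node (.leaf 140331159876) (.leaf 768575960644))) (.node (.node (.leaf 592394228952) (.leaf 1065984743615)) (.node (.leaf 591840031959) (.leaf 1076944378076)))) (.node (.node (.node (.leaf 769100555846) (.leaf 565556405408)) (.node (.leaf 972202858489) (.leaf 365123773198))) (.node (.node (.leaf 587224466641) (.leaf 1005388818490)) (.node (.leaf 366261048080) (.leaf 1023799056472))))) (.node (.node (.node (.node (.leaf 740924589579) (.leaf 738499548673)) (.node (.leaf 767240816193) (.leaf 316702257828))) (.node (.node (.leaf 132055707957) (.leaf 170368512382)) (.node (.leaf 330705289925) (.leaf 239350559245)))) (.node (.node (.node (.leaf 517008213073) (.leaf 788618712681)) (.node (.leaf 17298735164) (.leaf 85336936654))) (.node (.node (.leaf 546600150141) (.leaf 195748975031)) (.node (.leaf 771133339210) (.leaf 926614103949))))))) (.node (.node (.node (.node (.node (.node (.leaf 587902608595) (.leaf 914827413356)) (.node (.leaf 206259233228) (.leaf 297837187714))) (.node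 (.node (.leaf 20883415106) (.leaf 43032510574)) (.node (.leaf 581918307524) (.leaf 682511664514)))) (.node (.node (.node (.leaf 361461273348) (.leaf 275428991568)) (.node (.leaf 226610577906) (.leaf 614843852032))) (.node (.node (.leaf 352369468142) (.leaf 669410547043)) (.node (.leaf 975423412226) (.leaf 472266195941))))) (.node (.node (.node (.node (.leaf 803195774592) (.leaf 587821982931)) (.node (.leaf 1096827934973) (.leaf 558120342673))) (.node (.node (.leaf 107457339637) (.leaf 660907693394)) (.node (.leaf 1020594600018) (.leaf 395784446800)))) (.node (.node (.node (.leaf 194760163765) (.leaf 152361996632)) (.node (.leaf 1041141872779) (.leaf 459696473043))) (.node (.node (.leaf 972112418809) (.leaf 106928144629)) (.node (.leaf 610883552504) (.leaf 485340836879)))))) (.node (.node (.node (.node (.node (.leaf 1090022738162) (.leaf 161053290855)) (.node (.leaf 485162828815) (.leaf 266627637819))) (.node (.node (.leaf 998332827695) (.leaf 526705632348)) (.node (.leaf 941277521829) (.leaf 816415237794)))) (.node (.node (.node (.leaf 901924931404)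 (.leaf 162497900907)) (.node (.leaf 430643299230) (.leaf 1084578048234))) (.node (.node (.leaf 560442770580) (.leaf 552256832644)) (.node (.leaf 196509188539) (.leaf 597787661534))))) (.node (.node (.node (.node (.leaf 630320334119) (.leaf 848702011093)) (.node (.leaf 745950721558) (.leaf 249760363039))) (.node (.node (.leaf 872774940425) (.leaf 391425680201)) (.node (.leaf 59580915852) (.leaf 275127308880)))) (.node (.node (.node (.leaf 142179701061) (.leaf 509764301891)) (.node (.leaf 531884495972) (.leaf 177209909642))) (.node (.node (.leaf 305713451657) (.leaf 890448516910)) (.node (.leaf 377591771940) (.leaf 0)))))))) (.node (.node (.node (.node (.node (.node (.node (.leaf 583719638215) (.leaf 106454151413)) (.node (.leaf 639091369271) (.leaf 760068302381))) (.node (.node (.leaf 668281165152) (.leaf 246286705178)) (.node (.leaf 312135492251) (.leaf 428950799260)))) (.node (.node (.node (.leaf 354911552246) (.leaf 288227910260)) (.node (.leaf 819779462821) (.leaf 797861140085))) (.node (.node (.leaf 489567245335) (.leaf 518129968211)) (.node (.leaf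 782679471708) (.leaf 971309795318))))) (.node (.node (.node (.node (.leaf 104288096496) (.leaf 63671570583)) (.node (.leaf 15878520886) (.leaf 818310448805))) (.node (.node (.leaf 384542139191) (.leaf 218709742053)) (.node (.leaf 176861389193) (.leaf 288691356278)))) (.node (.node (.node (.leaf 994188728359) (.leaf 65009664155)) (.node (.leaf 131246530864) (.leaf 577618830524))) (.node (.node (.leaf 945635616693) (.leaf 542252074104)) (.node (.leaf 852621649630) (.leaf 781477828188)))))) (.node (.node (.node (.node (.node (.leaf 181238702484) (.leaf 871732438791)) (.node (.leaf 937574852515) (.leaf 146451419472))) (.node (.node (.leaf 1002482346038) (.leaf 1049973524639)) (.node (.leaf 146394251600) (.leaf 927081793423)))) (.node (.node (.node (.leaf 232137605629) (.leaf 357694128891)) (.node (.leaf 734220432888) (.leaf 500172653620))) (.node (.node (.leaf 558955898003) (.leaf 575584429241)) (.node (.leaf 167294226805) (.leaf 888722106154))))) (.node (.node (.node (.node (.leaf 299528159875) (.leaf 711916238287)) (.node (.leaf 432606802848) (.leaf 272975360589)))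 (.node (.node (.leaf 7613083678) (.leaf 482894341126)) (.node (.leaf 509768229955) (.leaf 701815612861)))) (.node (.node (.node (.leaf 422422860681) (.leaf 531301811299)) (.node (.leaf 832062391990) (.leaf 253914866212))) (.node (.node (.leaf 6805135388) (.leaf 401934467932)) (.node (.leaf 537131091055) (.leaf 517267608657))))))) (.node (.node (.node (.node (.node (.node (.leaf 779427935832) (.leaf 718778283482)) (.node (.leaf 831016650422) (.leaf 815724107424))) (.node (.node (.leaf 1039159392389) (.leaf 314924003999)) (.node (.leaf 53983158398) (.leaf 172065743234)))) (.node (.node (.node (.leaf 909869848413) (.leaf 610042627318)) (.node (.leaf 519958107222) (.leaf 262215238192))) (.node (.node (.leaf 446782616512) (.leaf 828846487219)) (.node (.leaf 1044243011731) (.leaf 562775966873))))) (.node (.node (.node (.node (.leaf 138485567809) (.leaf 71239704745)) (.node (.leaf 1056395659441) (.leaf 1082359671012))) (.node (.node (.leaf 171140850048) (.leaf 92217704665)) (.node (.leaf 686212507021) (.leaf 268193894973)))) (.node (.node (.node (.leaf 716326827478)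 (.leaf 517008680017)) (.node (.leaf 10174345250) (.leaf 284534686307))) (.node (.node (.leaf 421502583685) (.leaf 455742260177)) (.node (.leaf 136096321853) (.leaf 277527167574)))))) (.node (.node (.node (.node (.node (.leaf 52021006459) (.leaf 778264512087)) (.node (.leaf 327884522172) (.leaf 686020482445))) (.node (.node (.leaf 608774415603) (.leaf 712749868497)) (.node (.leaf 830814226102) (.leaf 288066269811)))) (.node (.node (.node (.leaf 168233955704) (.leaf 512706982986)) (.node (.leaf 867527714558) (.leaf 111680545025))) (.node (.node (.leaf 10591346725) (.leaf 1015062358093)) (.node (.leaf 1011799935045) (.leaf 816495777442))))) (.node (.node (.node (.node (.leaf 289194639990) (.leaf 661960459602)) (.node (.leaf 922062542723) (.leaf 379947594538))) (.node (.node (.leaf 111593550081) (.leaf 970573211637)) (.node (.leaf 167492776310) (.leaf 240766702096)))) (.node (.node (.node (.leaf 566529045667) (.leaf 232230687229)) (.node (.leaf 709394335177) (.leaf 400372798294))) (.node (.node (.leaf 658858079568) (.leaf 272230675018)) (.node (.leaf 727253456361)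 (.leaf 0))))))))

/-- Part of `hintAOne`. -/
def hintAOne_p0011 : Tr := .node (.node (.node (.node (.node (.node (.node (.node (.leaf 778568226391) (.leaf 1081243162850)) (.node (.leaf 736017405435) (.leaf 260138426923))) (.node (.node (.leaf 227024904691) (.leaf 850899310294)) (.node (.leaf 360506331905) (.leaf 862395819764)))) (.node (.node (.node (.leaf 418011616125) (.leaf 656008234316)) (.node (.leaf 137117352255) (.leaf 622124147989))) (.node (.node (.leaf 667138811230) (.leaf 602816754915)) (.node (.leaf 657427428685) (.leaf 143859929416))))) (.node (.node (.node (.node (.leaf 417013244794) (.leaf 865795270392)) (.node (.leaf 888677402410) (.leaf 596364842204))) (.node (.node (.leaf 1048348154008) (.leaf 269101089344)) (.node (.leaf 1087900268783) (.leaf 466537227230)))) (.node (.node (.node (.leaf 632412681516) (.leaf 1098015668477)) (.node (.leaf 145862000973) (.leaf 987881560097))) (.node (.node (.leaf 21342064706) (.leaf 88112505044)) (.node (.leaf 1022400813143) (.leaf 1037841152127)))))) (.node (.node (.node (.node (.node (.leaf 592283907288)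 (.leaf 631685866795)) (.node (.leaf 91568365785) (.leaf 1079900109025))) (.node (.node (.leaf 769310717511) (.leaf 15610863670)) (.node (.leaf 807827207822) (.leaf 239633973774)))) (.node (.node (.node (.leaf 238316806663) (.leaf 148946932051)) (.node (.leaf 823585474221) (.leaf 829915936437))) (.node (.node (.leaf 278836257368) (.leaf 622338585877)) (.node (.leaf 1008296486978) (.leaf 229181821430))))) (.node (.node (.node (.node (.leaf 106649272565) (.leaf 456742650833)) (.node (.leaf 392504087371) (.leaf 1007860631617))) (.node (.node (.leaf 53669802110) (.leaf 90218688728)) (.node (.leaf 378765546279) (.leaf 577480324284)))) (.node (.node (.node (.leaf 148943524179) (.leaf 43466754)) (.node (.leaf 542338397304) (.leaf 734908794361))) (.node (.node (.leaf 1081380366562) (.leaf 720005015002)) (.node (.leaf 358662382334) (.leaf 57546457224))))))) (.node (.node (.node (.node (.node (.node (.leaf 902013097804) (.leaf 401413993304)) (.node (.leaf 224208613871) (.leaf 1058881558707))) (.node (.node (.leaf 1084059445479) (.leaf 205475787211)) (.node (.leaf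 981368227861) (.leaf 683113002370)))) (.node (.node (.node (.leaf 1074225998039) (.leaf 1062004115640)) (.node (.leaf 1039209031813) (.leaf 1022779783255))) (.node (.node (.leaf 541985854582) (.leaf 499555435571)) (.node (.leaf 978742032404) (.leaf 507962295362))))) (.node (.node (.node (.node (.leaf 654764148042) (.leaf 951907235789)) (.node (.leaf 624390489369) (.leaf 241015071249))) (.node (.node (.leaf 495298126890) (.leaf 172573110658)) (.node (.leaf 712372389329) (.leaf 368597590804)))) (.node (.node (.node (.leaf 1011853748294) (.leaf 547776029822)) (.node (.leaf 637370168630) (.leaf 599104345310))) (.node (.node (.leaf 323108131507) (.leaf 367995077396)) (.node (.leaf 578059048124) (.leaf 777253008983)))))) (.node (.node (.node (.node (.node (.leaf 221373706728) (.leaf 590930158806)) (.node (.leaf 848851879637) (.leaf 285633139303))) (.node (.node (.leaf 97069269219) (.leaf 886732207910)) (.node (.leaf 806686021261) (.leaf 108208656630)))) (.node (.node (.node (.leaf 120677011733) (.leaf 672606279016)) (.node (.leaf 621509145872) (.leaf 576914744507)))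 (.node (.node (.leaf 53083914364) (.leaf 801606555260)) (.node (.leaf 567478588580) (.leaf 751862773277))))) (.node (.node (.node (.node (.leaf 721453360603) (.leaf 293365895807)) (.node (.leaf 752383424029) (.leaf 954891130834))) (.node (.node (.leaf 125814948128) (.leaf 606218638572)) (.node (.leaf 651590509894) (.leaf 51163107447)))) (.node (.node (.node (.leaf 452484793292) (.leaf 403775542111)) (.node (.leaf 7195111453) (.leaf 125022310688))) (.node (.node (.leaf 185081741725) (.leaf 360737125122)) (.node (.leaf 790915450476) (.leaf 0)))))))) (.node (.node (.node (.node (.node (.node (.node (.leaf 126761472290) (.leaf 716052260310)) (.node (.leaf 1069251954891) (.leaf 26217611342))) (.node (.node (.leaf 202953798087) (.leaf 390967518023)) (.node (.leaf 318283207335) (.leaf 546217514109)))) (.node (.node (.node (.leaf 678979310968) (.leaf 695838647724)) (.node (.leaf 751617488413) (.leaf 460570670036))) (.node (.node (.leaf 317003674276) (.leaf 477286196215)) (.node (.leaf 229961032185) (.leaf 1003768834104))))) (.node (.node (.node (.node (.leaf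 896455673661) (.leaf 752088122909)) (.node (.leaf 494804497449) (.leaf 438234698667))) (.node (.node (.leaf 66143387807) (.leaf 496036500523)) (.node (.leaf 178130907530) (.leaf 849137583829)))) (.node (.node (.node (.leaf 791725463149) (.leaf 130368135467)) (.node (.leaf 587493864658) (.leaf 92219089113))) (.node (.node (.leaf 986622044189) (.leaf 297127420546)) (.node (.leaf 292377002622) (.leaf 1064038635707)))))) (.node (.node (.node (.node (.node (.leaf 968128837614) (.leaf 387282191166)) (.node (.leaf 194942169525) (.leaf 513665295437))) (.node (.node (.leaf 679615964539) (.leaf 1038382917762)) (.node (.leaf 837719975616) (.leaf 10935271461)))) (.node (.node (.node (.leaf 807250417293) (.leaf 1036813379709)) (.node (.leaf 726652941797) (.leaf 511412622408))) (.node (.node (.leaf 229894345209) (.leaf 983112513558)) (.node (.leaf 464941990875) (.leaf 784463967841))))) (.node (.node (.node (.node (.leaf 517730608210) (.leaf 893163226931)) (.node (.leaf 144992895309) (.leaf 658441598288))) (.node (.node (.leaf 570958443690) (.leaf 831278372534)) (.node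 (.leaf 761753503279) (.leaf 486207034384)))) (.node (.node (.node (.leaf 260718518829) (.leaf 60459561103)) (.node (.leaf 548877333631) (.leaf 480897758212))) (.node (.node (.leaf 275787805264) (.leaf 582860989637)) (.node (.leaf 155631251804) (.leaf 0))))))) (.node (.node (.node (.node (.node (.node (.leaf 470750028771) (.leaf 835362277052)) (.node (.leaf 440889586609) (.leaf 740952712715))) (.node (.node (.leaf 270334587458) (.leaf 545380557947)) (.node (.leaf 964206274534) (.leaf 53636595838)))) (.node (.node (.node (.leaf 766900495935) (.leaf 68733427876)) (.node (.leaf 298576642691) (.leaf 163728249197))) (.node (.node (.leaf 768486184516) (.leaf 446401266622)) (.node (.leaf 356206568185) (.leaf 977907210257))))) (.node (.node (.node (.node (.leaf 31663849559) (.leaf 563136734361)) (.node (.leaf 217290699235) (.leaf 8649560097))) (.node (.node (.leaf 245531300377) (.leaf 282852622945)) (.node (.leaf 741899925006) (.leaf 290779144827)))) (.node (.node (.node (.leaf 59825131661) (.leaf 1035096123510)) (.node (.leaf 462746309592) (.leaf 813668828831)))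 (.node (.node (.leaf 550259491968) (.leaf 770890159689)) (.node (.leaf 453735945165) (.leaf 733566871032)))))) (.node (.node (.node (.node (.node (.leaf 815150868127) (.leaf 963383777252)) (.node (.leaf 1072411891920) (.leaf 1098187200765))) (.node (.node (.leaf 428629754780) (.leaf 751419135517)) (.node (.leaf 132991160630) (.leaf 781553587804)))) (.node (.node (.node (.leaf 837559969472) (.leaf 665313961305)) (.node (.leaf 910631384926) (.leaf 687815300500))) (.node (.node (.leaf 93343068378) (.leaf 685499049355)) (.node (.leaf 143084843336) (.leaf 108544737528))))) (.node (.node (.node (.node (.leaf 475795436530) (.leaf 484898714639)) (.node (.leaf 684095571333) (.leaf 619982578959))) (.node (.node (.leaf 443159303094) (.leaf 740876215819)) (.node (.leaf 754451809823) (.leaf 595209319642)))) (.node (.node (.node (.leaf 961310332895) (.leaf 201084244421)) (.node (.leaf 941772842920) (.leaf 823916947117))) (.node (.node (.leaf 647432136002) (.leaf 393413088077)) (.node (.leaf 610760602871) (.leaf 0))))))))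

/-- Part of `hintAOne`. -/
def hintAOne_p0100 : Tr := .node (.node (.node (.node (.node (.node (.node (.node (.leaf 979563546644) (.leaf 126038823200)) (.node (.leaf 195982500280) (.leaf 957559211993))) (.node (.node (.leaf 1089017845999) (.leaf 175269994887)) (.node (.leaf 323862364852) (.leaf 100110479592)))) (.node (.node (.node (.leaf 1096784648445) (.leaf 765178328636)) (.node (.leaf 412002902896) (.leaf 903976499024))) (.node (.node (.leaf 10664910885) (.leaf 104711237873)) (.node (.leaf 86748070097) (.leaf 512219640906))))) (.node (.node (.node (.node (.leaf 10439700516) (.leaf 725716448741)) (.node (.leaf 737342498302) (.leaf 1095530838269))) (.node (.node (.leaf 943855572911) (.leaf 737912919551)) (.node (.leaf 933679544223) (.leaf 673849394540)))) (.node (.node (.node (.leaf 638017570103) (.leaf 14294290483)) (.node (.leaf 133513584951) (.leaf 336370442957))) (.node (.node (.leaf 578449876158) (.leaf 1095309719804)) (.node (.leaf 701378500029) (.leaf 1075395762394)))))) (.node (.node (.node (.node (.node (.leaf 588785513684) (.leaf 645613360450))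 (.node (.leaf 890412648238) (.leaf 866356561657))) (.node (.node (.leaf 1031516252268) (.leaf 982698321942)) (.node (.leaf 800179983992) (.leaf 712184223184)))) (.node (.node (.node (.leaf 295762428545) (.leaf 474311189483)) (.node (.leaf 647655306562) (.leaf 555629515913))) (.node (.node (.leaf 397809275732) (.leaf 345136743134)) (.node (.leaf 578333410494) (.leaf 380916011820))))) (.node (.node (.node (.node (.leaf 657912448334) (.leaf 601925723361)) (.node (.leaf 175281402247) (.leaf 250796278306))) (.node (.node (.leaf 560668103828) (.leaf 945396742067)) (.node (.leaf 291391283835) (.leaf 1023902488665)))) (.node (.node (.node (.leaf 320173736619) (.leaf 1086270462188)) (.node (.leaf 590829618390) (.leaf 492802970656))) (.node (.node (.leaf 1965473804) (.leaf 458568496082)) (.node (.leaf 490072310807) (.leaf 413807539058))))))) (.node (.node (.node (.node (.node (.node (.leaf 404161364831) (.leaf 918405736314)) (.node (.leaf 779905574489) (.leaf 291485278843))) (.node (.node (.leaf 814051743391) (.leaf 804600563332)) (.node (.leaf 147061121361)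 (.leaf 920695527296)))) (.node (.node (.node (.leaf 1043606657168) (.leaf 839455246020)) (.node (.leaf 158372421984) (.leaf 151642808663))) (.node (.node (.leaf 272271110730) (.leaf 58635116681)) (.node (.leaf 227330187764) (.leaf 410375746412))))) (.node (.node (.node (.node (.leaf 420297581442) (.leaf 368008102676)) (.node (.leaf 952193828814) (.leaf 38471966819))) (.node (.node (.leaf 314369061535) (.leaf 879112738577)) (.node (.leaf 171527713152) (.leaf 817635063459)))) (.node (.node (.node (.leaf 1025487632477) (.leaf 13356314669)) (.node (.leaf 971751987192) (.leaf 44251189361))) (.node (.node (.leaf 407273378658) (.leaf 275644797520)) (.node (.leaf 201887896005) (.leaf 88341070036)))))) (.node (.node (.node (.node (.node (.leaf 82279493832) (.leaf 262895591984)) (.node (.leaf 748985423385) (.leaf 316917957284))) (.node (.node (.leaf 514021524558) (.leaf 499249738803)) (.node (.leaf 536086103148) (.leaf 1018810751055)))) (.node (.node (.node (.leaf 916889118581) (.leaf 786352363109)) (.node (.leaf 815244924575) (.leaf 403143664478))) (.node (.node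 (.leaf 490262299671) (.leaf 1086150478060)) (.node (.leaf 103249981676) (.leaf 701491840445))))) (.node (.node (.node (.node (.leaf 228498641398) (.leaf 167859913078)) (.node (.leaf 221039641063) (.leaf 530779214947))) (.node (.node (.leaf 547426096254) (.leaf 805817550475)) (.node (.leaf 379342705447) (.leaf 931714971546)))) (.node (.node (.node (.leaf 611741955322) (.leaf 630191199527)) (.node (.leaf 187814637988) (.leaf 802451015294))) (.node (.node (.leaf 643293324605) (.leaf 907467671382)) (.node (.leaf 461796910037) (.leaf 0)))))))) (.node (.node (.node (.node (.node (.node (.node (.leaf 20510507074) (.leaf 149574836564)) (.node (.leaf 559433806995) (.leaf 1063271639224))) (.node (.node (.leaf 1016278587470) (.leaf 308300980879)) (.node (.leaf 919355017085) (.leaf 497271161902)))) (.node (.node (.node (.leaf 186698535326) (.leaf 732743738871)) (.node (.leaf 932795475871) (.leaf 559920383124))) (.node (.node (.leaf 316905587364) (.leaf 743134447119)) (.node (.leaf 610668049655) (.leaf 300505461379))))) (.node (.node (.node (.node (.leaf 1080749426914)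 (.leaf 304274526855)) (.node (.leaf 1093429012729) (.leaf 483087586310))) (.node (.node (.leaf 1082873186533) (.leaf 755068458531)) (.node (.leaf 729210590701) (.leaf 506106475586)))) (.node (.node (.node (.leaf 760045254189) (.leaf 1021942970454)) (.node (.leaf 710538204619) (.leaf 801845405309))) (.node (.node (.leaf 902139799372) (.leaf 564265706654)) (.node (.leaf 770601698887) (.leaf 393426068301)))))) (.node (.node (.node (.node (.node (.leaf 688270792086) (.leaf 214061339094)) (.node (.leaf 974856435713) (.leaf 231275520508))) (.node (.node (.leaf 1024304003161) (.leaf 168998154618)) (.node (.leaf 625739425053) (.leaf 226666930674)))) (.node (.node (.node (.leaf 650385491270) (.leaf 936792950689)) (.node (.leaf 32048316504) (.leaf 345982943966))) (.node (.node (.leaf 363491648266) (.leaf 795353343603)) (.node (.leaf 704702281158) (.leaf 458469753810))))) (.node (.node (.node (.node (.leaf 683463705988) (.leaf 600815650016)) (.node (.leaf 974026168318) (.leaf 989508302885))) (.node (.node (.leaf 1023455094872) (.leaf 531386741860)) (.node (.leaf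 161963512168) (.leaf 946376087477)))) (.node (.node (.node (.leaf 609333757172) (.leaf 486502110226)) (.node (.leaf 568526861477) (.leaf 936218306465))) (.node (.node (.leaf 736962242046) (.leaf 341546173145)) (.node (.leaf 280883205) (.leaf 514888500303))))))) (.node (.node (.node (.node (.node (.node (.leaf 513368650828) (.leaf 449730454472)) (.node (.leaf 720607761883) (.leaf 1043999266961))) (.node (.node (.leaf 754812552739) (.leaf 787308992103)) (.node (.leaf 815791941280) (.leaf 786556880486)))) (.node (.node (.node (.leaf 699438282165) (.leaf 660529915218)) (.node (.leaf 594103497945) (.leaf 949325723586))) (.node (.node (.leaf 273106661965) (.leaf 652068652360)) (.node (.leaf 640244548920) (.leaf 521812571225))))) (.node (.node (.node (.node (.leaf 371963720476) (.leaf 976952682505)) (.node (.leaf 254844949029) (.leaf 235700167171))) (.node (.node (.leaf 819659314853) (.leaf 103930425584)) (.node (.leaf 1048427194520) (.leaf 660441716050)))) (.node (.node (.node (.leaf 676488590705) (.leaf 343701451484)) (.node (.leaf 758945740330) (.leaf 597363619036)))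 (.node (.node (.leaf 1016226109518) (.leaf 1008707745859)) (.node (.leaf 244564353558) (.leaf 285768094311)))))) (.node (.node (.node (.node (.node (.leaf 523453088860) (.leaf 581071803587)) (.node (.leaf 585474782412) (.leaf 29676052564))) (.node (.node (.leaf 990763178021) (.leaf 950437156805)) (.node (.leaf 95143264480) (.leaf 378016998180)))) (.node (.node (.node (.leaf 730219382255) (.leaf 979091355668)) (.node (.leaf 496188163115) (.leaf 485572187151))) (.node (.node (.leaf 1050657699999) (.leaf 783778014816)) (.node (.leaf 530302612579) (.leaf 442501997492))))) (.node (.node (.node (.node (.leaf 925036353415) (.leaf 72530485424)) (.node (.leaf 133799842103) (.leaf 740268836361))) (.node (.node (.leaf 232388403709) (.leaf 410962461550)) (.node (.leaf 826864060080) (.leaf 988479191074)))) (.node (.node (.node (.leaf 21702000706) (.leaf 122775908636)) (.node (.leaf 14798188596) (.leaf 695764399532))) (.node (.node (.leaf 540241851507) (.leaf 343985992412)) (.node (.leaf 661887350098) (.leaf 0))))))))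

/-- Part of `hintAOne`. -/
def hintAOne_p0101 : Tr := .node (.node (.node (.node (.node (.node (.node (.node (.leaf 767563449921) (.leaf 711461430735)) (.node (.leaf 477760488439) (.leaf 356561416954))) (.node (.node (.leaf 393704538957) (.leaf 711069702)) (.node (.leaf 334186279625) (.leaf 362120667910)))) (.node (.node (.node (.leaf 1063710415034) (.leaf 280311222874)) (.node (.leaf 1059932432566) (.leaf 627939538208))) (.node (.node (.leaf 1062648838328) (.leaf 433554244512)) (.node (.leaf 323149996723) (.leaf 322283291312))))) (.node (.node (.node (.node (.leaf 867665528574) (.leaf 1065792035007)) (.node (.leaf 576278615226) (.leaf 996994238509))) (.node (.node (.leaf 748084774424) (.leaf 535102710891)) (.node (.leaf 869393643265) (.leaf 229946552825)))) (.node (.node (.node (.leaf 786309973605) (.leaf 491015111707)) (.node (.leaf 862746175220) (.leaf 442781639605))) (.node (.node (.leaf 532561855588) (.leaf 1042187647116)) (.node (.leaf 459695297491) (.leaf 902423119693)))))) (.node (.node (.node (.node (.node (.leaf 82469486793) (.leaf 93800247516))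 (.node (.leaf 998403647535) (.leaf 266309141050))) (.node (.node (.leaf 954825353170) (.leaf 111913328897)) (.node (.leaf 816636642978) (.leaf 804473489026)))) (.node (.node (.node (.leaf 1076557162716) (.leaf 335851270860)) (.node (.leaf 724208489954) (.leaf 802830091903))) (.node (.node (.leaf 139249791299) (.leaf 13454823469)) (.node (.leaf 342817125083) (.leaf 477190693879))))) (.node (.node (.node (.node (.leaf 278012998232) (.leaf 1043669887120)) (.node (.leaf 770389517895) (.leaf 860698719984))) (.node (.node (.leaf 608152773873) (.leaf 571815486637)) (.node (.leaf 126283694369) (.leaf 121787904281)))) (.node (.node (.node (.leaf 127129747748) (.leaf 424165565327)) (.node (.leaf 67785498786) (.leaf 215211602393))) (.node (.node (.leaf 976652122119) (.leaf 562389587094)) (.node (.leaf 739773785609) (.leaf 752274183709))))))) (.node (.node (.node (.node (.node (.node (.leaf 782543074908) (.leaf 653547844937)) (.node (.leaf 601367192800) (.leaf 671685752167))) (.node (.node (.leaf 921178863490) (.leaf 37824966753)) (.node (.leaf 512178271306) (.leaf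 143924117832)))) (.node (.node (.node (.leaf 662562100564) (.leaf 651930785096)) (.node (.leaf 357512155898) (.leaf 276522615379))) (.node (.node (.leaf 104824701169) (.leaf 493692961826)) (.node (.leaf 590684202198) (.leaf 915633821552))))) (.node (.node (.node (.node (.leaf 627528021280) (.leaf 1056962623665)) (.node (.leaf 752476337693) (.leaf 294271918720))) (.node (.node (.leaf 346467513056) (.leaf 772414293585)) (.node (.leaf 982870231062) (.leaf 263773397555)))) (.node (.node (.node (.leaf 541798208629) (.leaf 563953427612)) (.node (.leaf 489763697687) (.leaf 280531976794))) (.node (.node (.leaf 78038601915) (.leaf 596738086108)) (.node (.leaf 212508549590) (.leaf 531096073315)))))) (.node (.node (.node (.node (.node (.leaf 996049389612) (.leaf 1060298553527)) (.node (.leaf 473640186856) (.leaf 262427628080))) (.node (.node (.leaf 465307255773) (.leaf 176387494281)) (.node (.leaf 498389136433) (.leaf 747197269526)))) (.node (.node (.node (.leaf 505982506050) (.leaf 654600664393)) (.node (.leaf 376719000355) (.leaf 663765423446))) (.node (.node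 (.leaf 100295016680) (.leaf 49188671606)) (.node (.leaf 21011943490) (.leaf 56105431171))))) (.node (.node (.node (.node (.leaf 827726599858) (.leaf 920216733568)) (.node (.leaf 1080540817634) (.leaf 409732174699))) (.node (.node (.leaf 1032739522675) (.leaf 793473373809)) (.node (.leaf 424549897104) (.leaf 356047975160)))) (.node (.node (.node (.leaf 527077340252) (.leaf 595514983644)) (.node (.leaf 838429832897) (.leaf 421935002503))) (.node (.node (.leaf 275134947920) (.leaf 920433215360)) (.node (.leaf 177743413642) (.leaf 0)))))))) (.node (.node (.node (.node (.node (.node (.node (.leaf 365555766030) (.leaf 1012444993606)) (.node (.leaf 556841972877) (.leaf 780278679130))) (.node (.node (.leaf 813912958623) (.leaf 1049516996765)) (.node (.leaf 1079279442142) (.leaf 753722431006)))) (.node (.node (.node (.leaf 1046366660757) (.leaf 366037230352)) (.node (.leaf 143855034696) (.leaf 1016033167437))) (.node (.node (.leaf 1060750235831) (.leaf 177713185162)) (.node (.leaf 374330340127) (.leaf 604003710183))))) (.node (.node (.node (.node (.leaf 367407330066)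 (.leaf 260610769453)) (.node (.leaf 839790261957) (.leaf 1043738228880))) (.node (.node (.leaf 135741260092) (.leaf 910195062622)) (.node (.leaf 730116802031) (.leaf 837290694336)))) (.node (.node (.node (.leaf 67058569377) (.leaf 627498915104)) (.node (.leaf 348753253094) (.leaf 919577667453))) (.node (.node (.leaf 992939001895) (.leaf 349101208296)) (.node (.leaf 599514232030) (.leaf 1076641327324)))))) (.node (.node (.node (.node (.node (.leaf 684236043653) (.leaf 1032979818611)) (.node (.leaf 1012700678215) (.leaf 666872976733))) (.node (.node (.leaf 434823496610) (.leaf 299031466627)) (.node (.leaf 1055378430124) (.leaf 241173660177)))) (.node (.node (.node (.leaf 682684564866) (.leaf 42852982894)) (.node (.leaf 498323133488) (.leaf 448726492103))) (.node (.node (.leaf 156719128927) (.leaf 368404124436)) (.node (.leaf 952581408719) (.leaf 23800610888))))) (.node (.node (.node (.node (.leaf 310441845398) (.leaf 320680817323)) (.node (.leaf 83798884556) (.leaf 283344810594))) (.node (.node (.leaf 254982865445) (.leaf 61909151891)) (.node (.leaf 502079816761)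 (.leaf 290625561210)))) (.node (.node (.node (.leaf 301861700227) (.leaf 856221284069)) (.node (.leaf 175333204359) (.leaf 1028279543910))) (.node (.node (.leaf 448830165959) (.leaf 903713904464)) (.node (.leaf 307400716941) (.leaf 217238847971))))))) (.node (.node (.node (.node (.node (.node (.leaf 336444408525) (.leaf 453476008909)) (.node (.leaf 201659032005) (.leaf 314823832223))) (.node (.node (.leaf 195083645365) (.leaf 432070214560)) (.node (.leaf 684260492677) (.leaf 140389708100)))) (.node (.node (.node (.leaf 919796832126) (.leaf 288954614390)) (.node (.leaf 1086877284589) (.leaf 682897155458))) (.node (.node (.leaf 892767606579) (.leaf 320009454250)) (.node (.leaf 688872179095) (.leaf 541962769526))))) (.node (.node (.node (.node (.leaf 82483425481) (.leaf 599446533342)) (.node (.leaf 314225160863) (.leaf 937757013923))) (.node (.node (.leaf 63360290967) (.leaf 102309511404)) (.node (.leaf 225417208306) (.leaf 385343206203)))) (.node (.node (.node (.leaf 372774953758) (.leaf 254022398500)) (.node (.leaf 184431309212) (.leaf 639921108280)))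 (.node (.node (.leaf 370164605719) (.leaf 777416947287)) (.node (.leaf 126597624097) (.leaf 967905114094)))))) (.node (.node (.node (.node (.node (.leaf 115879055627) (.leaf 74996273335)) (.node (.leaf 255142175269) (.leaf 964194519014))) (.node (.node (.leaf 793289987696) (.leaf 964817795047)) (.node (.leaf 760841311790) (.leaf 1005016139834)))) (.node (.node (.node (.leaf 103387373805) (.leaf 481839748101)) (.node (.leaf 1057552308401) (.leaf 540875023477))) (.node (.node (.leaf 641446094136) (.leaf 523884082268)) (.node (.leaf 575585563833) (.leaf 1041286834315))))) (.node (.node (.node (.node (.leaf 572624667825) (.leaf 695678285228)) (.node (.leaf 966334916585) (.leaf 448775545799))) (.node (.node (.leaf 889351096110) (.leaf 438979814317)) (.node (.leaf 1005687072826) (.leaf 416028332920)))) (.node (.node (.node (.leaf 94123643100) (.leaf 565700863137)) (.node (.leaf 905949153108) (.leaf 251873305123))) (.node (.node (.leaf 646583887170) (.leaf 691681576351)) (.node (.leaf 939096913828) (.leaf 0))))))))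

/-- Part of `hintAOne`. -/
def hintAOne_p0110 : Tr := .node (.node (.node (.node (.node (.node (.node (.node (.leaf 779691734617) (.leaf 941039761317)) (.node (.leaf 603651118310) (.leaf 706468017607))) (.node (.node (.leaf 555734561929) (.leaf 249764565535)) (.node (.leaf 573707236533) (.leaf 782965319261)))) (.node (.node (.node (.leaf 161511367015) (.leaf 1055556077741)) (.node (.leaf 851447174871) (.leaf 529689728098))) (.node (.node (.leaf 726275458533) (.leaf 530748646499)) (.node (.leaf 658378704208) (.leaf 254801256997))))) (.node (.node (.node (.node (.leaf 322591171251) (.leaf 493466608673)) (.node (.leaf 158378615136) (.leaf 57784168584))) (.node (.node (.leaf 650746631494) (.leaf 390696461126)) (.node (.leaf 93459177691) (.leaf 462873322456)))) (.node (.node (.node (.leaf 244251415062) (.leaf 955229845460)) (.node (.leaf 1047027562646) (.leaf 419901551490))) (.node (.node (.leaf 72203862191) (.leaf 129632776490)) (.node (.leaf 522521556059) (.leaf 883583227676)))))) (.node (.node (.node (.node (.node (.leaf 118678647059) (.leaf 488044352531))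 (.node (.leaf 851620873944) (.leaf 709261727177))) (.node (.node (.leaf 544612889722) (.leaf 773023647314)) (.node (.leaf 18338025535) (.leaf 158056542560)))) (.node (.node (.node (.leaf 276591231571) (.leaf 1087068821741)) (.node (.leaf 601697600737) (.leaf 852364588764))) (.node (.node (.leaf 1016563951695) (.leaf 1003839957048)) (.node (.leaf 624628401434) (.leaf 61147648145))))) (.node (.node (.node (.node (.leaf 964959160295) (.leaf 347619148515)) (.node (.leaf 121829118234) (.leaf 1039099054212))) (.node (.node (.leaf 883315697436) (.leaf 651336037702)) (.node (.leaf 998600542255) (.leaf 286613676653)))) (.node (.node (.node (.leaf 468832007137) (.leaf 507092415554)) (.node (.leaf 257957667370) (.leaf 274511577680))) (.node (.node (.leaf 376691577635) (.leaf 207299895756)) (.node (.leaf 124613722400) (.leaf 197521523133))))))) (.node (.node (.node (.node (.node (.node (.leaf 295213093505) (.leaf 31688659031)) (.node (.leaf 67555557538) (.leaf 1013447567432))) (.node (.node (.leaf 908957325144) (.leaf 10957316133)) (.node (.leaf 809331242644) (.leaf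 706519279047)))) (.node (.node (.node (.leaf 492044002334) (.leaf 185481998749)) (.node (.leaf 655414850892) (.leaf 502359733305))) (.node (.node (.leaf 291004928635) (.leaf 538792584305)) (.node (.leaf 527055729756) (.leaf 707804669384))))) (.node (.node (.node (.node (.leaf 1006304663611) (.leaf 545274397819)) (.node (.leaf 307854959246) (.leaf 289991676537))) (.node (.node (.leaf 754873239075) (.leaf 474755077101)) (.node (.leaf 807473624718) (.leaf 126580371745)))) (.node (.node (.node (.leaf 615779058950) (.leaf 572185859246)) (.node (.leaf 308157403791) (.leaf 632547702060))) (.node (.node (.leaf 496633123884) (.leaf 183254958488)) (.node (.leaf 243481379349) (.leaf 37131325537)))))) (.node (.node (.node (.node (.node (.leaf 427071513496) (.leaf 88770740437)) (.node (.leaf 337884168913) (.leaf 936627787681))) (.node (.node (.leaf 22396801091) (.leaf 817052858018)) (.node (.leaf 1050311755935) (.leaf 182971503000)))) (.node (.node (.node (.leaf 418429768575) (.leaf 88342745300)) (.node (.leaf 133120459062) (.leaf 40615506021))) (.node (.node (.leaf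 518497993812) (.leaf 115928006923)) (.node (.leaf 298152997507) (.leaf 719210919386))))) (.node (.node (.node (.node (.leaf 124234252575) (.leaf 403148940126)) (.node (.leaf 1032704796787) (.leaf 842164848331))) (.node (.node (.leaf 460959241172) (.leaf 162493469035)) (.node (.leaf 361928549126) (.leaf 229904667129)))) (.node (.node (.node (.leaf 413365068658) (.leaf 768568284740)) (.node (.leaf 262984106544) (.leaf 353727935218))) (.node (.node (.leaf 924526692230) (.leaf 404482175839)) (.node (.leaf 96065200355) (.leaf 0)))))))) (.node (.node (.node (.node (.node (.node (.node (.leaf 820459214504) (.leaf 1064911677627)) (.node (.leaf 738569504258) (.leaf 1085503129835))) (.node (.node (.leaf 436796584874) (.leaf 985623820312)) (.node (.leaf 748934067737) (.leaf 776131552852)))) (.node (.node (.node (.leaf 611593078010) (.leaf 15124676661)) (.node (.leaf 616711869702) (.leaf 504997712962))) (.node (.node (.leaf 269684986434) (.leaf 731441153525)) (.node (.leaf 1007260297277) (.leaf 929417664405))))) (.node (.node (.node (.node (.leaf 1028434114662)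 (.leaf 783748253280)) (.node (.leaf 798722672246) (.leaf 166557032820))) (.node (.node (.leaf 217816064483) (.leaf 758202095144)) (.node (.leaf 187058291103) (.leaf 197202256315)))) (.node (.node (.node (.leaf 874647652107) (.leaf 845720442577)) (.node (.leaf 238816277003) (.leaf 620932252943))) (.node (.node (.leaf 601189438688) (.leaf 281501221470)) (.node (.leaf 165796733299) (.leaf 598449370334)))))) (.node (.node (.node (.node (.node (.leaf 490339529752) (.leaf 681233331583)) (.node (.leaf 659553240400) (.leaf 895683245881))) (.node (.node (.leaf 19454574657) (.leaf 261344514606)) (.node (.leaf 15098765364) (.leaf 466183443422)))) (.node (.node (.node (.leaf 564006159516) (.leaf 1019794708562)) (.node (.leaf 479462028289) (.leaf 399149695829))) (.node (.node (.leaf 565065630879) (.leaf 497767711791)) (.node (.leaf 517127873617) (.leaf 1054769150121))))) (.node (.node (.node (.node (.leaf 733250844151) (.leaf 886618146598)) (.node (.leaf 775888754260) (.leaf 838289921729))) (.node (.node (.leaf 537368474735) (.leaf 261581783598)) (.node (.leaf 832038590134)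 (.leaf 574655939769)))) (.node (.node (.node (.leaf 274372403792) (.leaf 568578749605)) (.node (.leaf 35904680031) (.leaf 37232050273))) (.node (.node (.leaf 19926065217) (.leaf 995700127787)) (.node (.leaf 134239088951) (.leaf 302428623491))))))) (.node (.node (.node (.node (.node (.node (.leaf 1097539086589) (.leaf 1093690145018)) (.node (.leaf 345778655966) (.leaf 505743987778))) (.node (.node (.leaf 1058902853811) (.leaf 1017572603983)) (.node (.leaf 269724652098) (.leaf 633662588206)))) (.node (.node (.node (.leaf 284783264355) (.leaf 728819897837)) (.node (.leaf 126301516065) (.leaf 470757430243))) (.node (.node (.leaf 1046176438421) (.leaf 106461208821)) (.node (.leaf 503760864316) (.leaf 436629177256))))) (.node (.node (.node (.node (.leaf 1056311363761) (.leaf 90816217305)) (.node (.leaf 397517632340) (.leaf 83494830282))) (.node (.node (.leaf 597864834270) (.leaf 307315720845)) (.node (.leaf 13385601069) (.leaf 939688384420)))) (.node (.node (.node (.leaf 861446805234) (.leaf 52214816891)) (.node (.leaf 545274049659) (.leaf 775846327892)))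 (.node (.node (.leaf 1035456788599) (.leaf 785144608354)) (.node (.leaf 759513966125) (.leaf 52352925819)))))) (.node (.node (.node (.node (.node (.leaf 366511919888) (.leaf 887745906472)) (.node (.leaf 1073813067991) (.leaf 293461860991))) (.node (.node (.leaf 179275903377) (.leaf 493931967523)) (.node (.leaf 227572576756) (.leaf 814672148127)))) (.node (.node (.node (.leaf 59354845324) (.leaf 291625374332)) (.node (.leaf 419497141121) (.leaf 922358187907))) (.node (.node (.leaf 983834032150) (.leaf 484628931598)) (.node (.leaf 544255902842) (.leaf 850775938774))))) (.node (.node (.node (.node (.leaf 901213280075) (.leaf 167279141237)) (.node (.leaf 697098315182) (.leaf 359032980222))) (.node (.node (.leaf 1096000628989) (.leaf 591860450519)) (.node (.leaf 414875538290) (.leaf 1025202681948)))) (.node (.node (.node (.leaf 987223603230) (.leaf 421611438981)) (.node (.leaf 840666846919) (.leaf 184631779740))) (.node (.node (.leaf 644102317374) (.leaf 1038448478338)) (.node (.leaf 775084062291) (.leaf 0))))))))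

/-- Part of `hintAOne`. -/
def hintAOne_p0111 : Tr := .node (.node (.node (.node (.node (.node (.node (.node (.leaf 87639929044) (.leaf 34151448668)) (.node (.leaf 1048633366681) (.leaf 44774690930))) (.node (.node (.leaf 515067266128) (.leaf 54149333118)) (.node (.leaf 125006074144) (.leaf 732668540407)))) (.node (.node (.node (.leaf 337291260623) (.leaf 629674689829)) (.node (.leaf 239119593996) (.leaf 35938910303))) (.node (.node (.leaf 893514508084) (.leaf 111929065729)) (.node (.leaf 820500027048) (.leaf 213861028310))))) (.node (.node (.node (.node (.leaf 400028255062) (.leaf 955273390036)) (.node (.leaf 158959157601) (.leaf 956120745942))) (.node (.node (.leaf 748003685912) (.leaf 821394765482)) (.node (.leaf 39519658083) (.leaf 838739777219)))) (.node (.node (.node (.leaf 137146413376) (.leaf 688925574551)) (.node (.leaf 325360800438) (.leaf 974083205118))) (.node (.node (.leaf 867886876414) (.leaf 1004040828985)) (.node (.leaf 359513871103) (.leaf 650102261061)))))) (.node (.node (.node (.node (.node (.leaf 182581928341) (.leaf 900678928202))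 (.node (.leaf 982533789718) (.leaf 933197629343))) (.node (.node (.leaf 388644631360) (.leaf 1013894060105)) (.node (.leaf 388725445441) (.leaf 833807926971)))) (.node (.node (.node (.leaf 1014823413836) (.leaf 232368755197)) (.node (.leaf 1019548559441) (.leaf 674118468974))) (.node (.node (.leaf 697403786674) (.leaf 566010700963)) (.node (.leaf 815117887135) (.leaf 675346204014))))) (.node (.node (.node (.node (.leaf 878479222544) (.leaf 683911615876)) (.node (.leaf 243467203093) (.leaf 92255863001))) (.node (.node (.leaf 901867898700) (.leaf 255474004517)) (.node (.leaf 292439573118) (.leaf 921385256834)))) (.node (.node (.node (.leaf 1051131603103) (.leaf 450750399433)) (.node (.leaf 507044426818) (.leaf 202409857478))) (.node (.node (.leaf 929750701974) (.leaf 522996790364)) (.node (.leaf 62611275925) (.leaf 314392461983))))))) (.node (.node (.node (.node (.node (.node (.leaf 819549873829) (.leaf 572018349230)) (.node (.leaf 502111507513) (.leaf 702596027842))) (.node (.node (.leaf 1004140173369) (.leaf 885273724705)) (.node (.leaf 707350930888)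 (.leaf 676289033584)))) (.node (.node (.node (.leaf 280651465307) (.leaf 463728755672)) (.node (.leaf 42826264686) (.leaf 307852067470))) (.node (.node (.leaf 793275045488) (.leaf 438158275499)) (.node (.leaf 912647264103) (.leaf 826643703472))))) (.node (.node (.node (.node (.leaf 269711884866) (.leaf 792045205101)) (.node (.leaf 760818730542) (.leaf 300424491651))) (.node (.node (.leaf 668675261793) (.leaf 520723776599)) (.node (.leaf 2980601871) (.leaf 778643596887)))) (.node (.node (.node (.leaf 201547739589) (.leaf 62097035413)) (.node (.leaf 1094578194684) (.leaf 684109804933))) (.node (.node (.leaf 538470896751) (.leaf 808810305169)) (.node (.leaf 314629927583) (.leaf 161822425448)))))) (.node (.node (.node (.node (.node (.leaf 566610957475) (.leaf 605376439531)) (.node (.leaf 60340023439) (.leaf 385230263099))) (.node (.node (.leaf 91258482905) (.leaf 1015633143885)) (.node (.leaf 989531400229) (.leaf 961259399135)))) (.node (.node (.node (.leaf 1021963921494) (.leaf 753803429406)) (.node (.leaf 685023331719) (.leaf 998441392175))) (.node (.node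 (.leaf 953785092050) (.leaf 129303773480)) (.node (.leaf 947079411638) (.leaf 945568020404))))) (.node (.node (.node (.node (.leaf 702195549630) (.leaf 780957128282)) (.node (.leaf 1012296558662) (.leaf 229134324214))) (.node (.node (.leaf 113466814724) (.leaf 650825876806)) (.node (.leaf 674964579694) (.leaf 263305060913)))) (.node (.node (.node (.leaf 669207401826) (.leaf 440527713200)) (.node (.leaf 451618579401) (.leaf 1010151598147))) (.node (.node (.leaf 550749856897) (.leaf 112437801218)) (.node (.leaf 1001281247283) (.leaf 0)))))))) (.node (.node (.node (.node (.node (.node (.node (.leaf 650828870982) (.leaf 78709657788)) (.node (.leaf 743253820943) (.leaf 49291698295))) (.node (.node (.leaf 199956283842) (.leaf 433634907040)) (.node (.leaf 187758240164) (.leaf 404154774367)))) (.node (.node (.node (.leaf 238334784007) (.leaf 983123519510)) (.node (.leaf 837186238144) (.leaf 203550208455))) (.node (.node (.leaf 779549558360) (.leaf 54931640448)) (.node (.leaf 623151858967) (.leaf 939985086373))))) (.node (.node (.node (.node (.leaf 768141690435)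 (.leaf 592010335448)) (.node (.leaf 1092602910966) (.leaf 105843048691))) (.node (.node (.leaf 863319410420) (.leaf 840767932103)) (.node (.leaf 883088516891) (.leaf 147303072081)))) (.node (.node (.node (.leaf 563884000412) (.leaf 368357770004)) (.node (.leaf 551788221572) (.leaf 495072232489))) (.node (.node (.leaf 934743447457) (.leaf 1013485602888)) (.node (.leaf 1060603639991) (.leaf 292035166846)))))) (.node (.node (.node (.node (.node (.leaf 276103848529) (.leaf 786233722469)) (.node (.leaf 291876835966) (.leaf 898758743873))) (.node (.node (.leaf 498461905969) (.leaf 431880721312)) (.node (.leaf 399360545622) (.leaf 10341625890)))) (.node (.node (.node (.leaf 658461623632) (.leaf 785337521762)) (.node (.leaf 411294511983) (.leaf 296391139969))) (.node (.node (.leaf 47988809845) (.leaf 555854255241)) (.node (.leaf 653753603401) (.leaf 255868650023))))) (.node (.node (.node (.node (.leaf 595512403163) (.leaf 8563740703)) (.node (.leaf 470816318435) (.leaf 314998604447))) (.node (.node (.leaf 949831907269) (.leaf 268793864768)) (.node (.leaf 346398450400)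 (.leaf 818218313380)))) (.node (.node (.node (.leaf 750218020379) (.leaf 998455687215)) (.node (.leaf 378208547621) (.leaf 1021451790420))) (.node (.node (.leaf 572581680304) (.leaf 435200373667)) (.node (.leaf 605440853227) (.leaf 0))))))) (.node (.node (.node (.node (.node (.node (.leaf 1047265753239) (.leaf 213313003990)) (.node (.leaf 258719949354) (.leaf 267878289981))) (.node (.node (.leaf 9042563105) (.leaf 928531912594)) (.node (.leaf 294072816256) (.leaf 93213749466)))) (.node (.node (.node (.leaf 372319441694) (.leaf 70332190888)) (.node (.leaf 553111389317) (.leaf 390606353222))) (.node (.node (.leaf 792522069615) (.leaf 93175541978)) (.node (.leaf 414549824370) (.leaf 936691197857))))) (.node (.node (.node (.node (.leaf 50623361143) (.leaf 1009635551299)) (.node (.leaf 689187739032) (.leaf 162763653483))) (.node (.node (.leaf 83177578698) (.leaf 326945546938)) (.node (.leaf 804723234437) (.leaf 315988652705)))) (.node (.node (.node (.leaf 901927384908) (.leaf 120042995988)) (.node (.leaf 25554325582) (.leaf 935724627873))) (.node (.node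 (.leaf 406488159073) (.leaf 1042283604109)) (.node (.leaf 865708623608) (.leaf 593417762009)))))) (.node (.node (.node (.node (.node (.leaf 613214852351) (.leaf 56234127491)) (.node (.leaf 922907846531) (.leaf 55606734977))) (.node (.node (.leaf 135917412669) (.leaf 256882938409)) (.node (.leaf 1085144717547) (.leaf 1044499286163)))) (.node (.node (.node (.leaf 405977260896) (.leaf 394979038030)) (.node (.leaf 959427491804) (.leaf 744645285394))) (.node (.node (.leaf 7840280606) (.leaf 1038239647874)) (.node (.leaf 827785475763) (.leaf 598434366686))))) (.node (.node (.node (.node (.leaf 415562494837) (.leaf 943721830318)) (.node (.leaf 1065397270718) (.leaf 471755633637))) (.node (.node (.leaf 114517328136) (.leaf 931679094682)) (.node (.leaf 427233305496) (.leaf 561967416469)))) (.node (.node (.node (.leaf 169599615356) (.leaf 734728361465)) (.node (.leaf 224784417265) (.leaf 345353138910))) (.node (.node (.leaf 19532955713) (.leaf 561451955349)) (.node (.leaf 535935366252) (.leaf 0))))))))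

/-- Part of `hintAOne`. -/
def hintAOne_p1000 : Tr := .node (.node (.node (.node (.node (.node (.node (.node (.leaf 815216785055) (.leaf 534077760616)) (.node (.leaf 805990065803) (.leaf 302902735493))) (.node (.node (.leaf 741701236238) (.leaf 496153564203)) (.node (.leaf 927983331216) (.leaf 440039506864)))) (.node (.node (.node (.leaf 247094858270) (.leaf 438118364075)) (.node (.leaf 28747923538) (.leaf 646649099586))) (.node (.node (.leaf 581183382723) (.leaf 211146969556)) (.node (.leaf 710856697292) (.leaf 851992491737))))) (.node (.node (.node (.node (.leaf 913688495978) (.leaf 378722628391)) (.node (.leaf 14633435188) (.leaf 825280464560))) (.node (.node (.leaf 261755310638) (.leaf 665930626397)) (.node (.leaf 675257116014) (.leaf 447465968577)))) (.node (.node (.node (.leaf 491498132508) (.leaf 703060551107)) (.node (.leaf 410857878381) (.leaf 786215200357))) (.node (.node (.leaf 883139983132) (.leaf 527040271452)) (.node (.leaf 1064684132539) (.leaf 644048364862)))))) (.node (.node (.node (.node (.node (.leaf 860265137904) (.leaf 386791609149))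 (.node (.leaf 642843526460) (.leaf 84775399629))) (.node (.node (.leaf 458337166290) (.leaf 613514274047)) (.node (.leaf 809266894483) (.leaf 904493483856)))) (.node (.node (.node (.leaf 946840762294) (.leaf 210303062482)) (.node (.leaf 210326475218) (.leaf 130604114220))) (.node (.node (.leaf 176744120713) (.leaf 107759214837)) (.node (.leaf 1043690227856) (.leaf 638254634295))))) (.node (.node (.node (.node (.leaf 755032716835) (.leaf 867515066110)) (.node (.leaf 837123258048) (.leaf 912417269606))) (.node (.node (.leaf 454388868047) (.leaf 89751384278)) (.node (.leaf 438395741099) (.leaf 655826584908)))) (.node (.node (.node (.leaf 965588174823) (.leaf 16260542521)) (.node (.leaf 734329427448) (.leaf 929616291733))) (.node (.node (.leaf 624180716824) (.leaf 600715883744)) (.node (.leaf 1003475281976) (.leaf 198262952384))))))) (.node (.node (.node (.node (.node (.node (.leaf 168676561273) (.leaf 649818785093)) (.node (.leaf 884450789151) (.leaf 916938585973))) (.node (.node (.leaf 893321201459) (.leaf 571211068587)) (.node (.leaf 1032097589358) (.leaf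 714496034261)))) (.node (.node (.node (.leaf 1018091690063) (.leaf 576685212859)) (.node (.leaf 332179534536) (.leaf 671393285479))) (.node (.node (.leaf 983038654486) (.leaf 356026663672)) (.node (.leaf 303961502343) (.leaf 581875500228))))) (.node (.node (.node (.node (.leaf 566429263011) (.leaf 18693050431)) (.node (.leaf 890343282478) (.leaf 606883198190))) (.node (.node (.leaf 626480133406) (.leaf 466866213854)) (.node (.leaf 437542577067) (.leaf 233542443520)))) (.node (.node (.node (.leaf 1073579845846) (.leaf 334232093386)) (.node (.leaf 829657056948) (.leaf 901264787276))) (.node (.node (.leaf 495341261866) (.leaf 135434182971)) (.node (.leaf 896067397435) (.leaf 182107398548)))))) (.node (.node (.node (.node (.node (.leaf 804187440768) (.leaf 818834425509)) (.node (.leaf 507357213762) (.leaf 53880602750))) (.node (.node (.leaf 1021349304404) (.leaf 691855865248)) (.node (.leaf 798293513846) (.leaf 634061641006)))) (.node (.node (.node (.leaf 1005278689338) (.leaf 664660243800)) (.node (.leaf 324011905717) (.leaf 396784644944))) (.node (.node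 (.leaf 526872921180) (.leaf 578916091073)) (.node (.leaf 572034307246) (.leaf 1011407951941))))) (.node (.node (.node (.node (.leaf 208104047055) (.leaf 71889432747)) (.node (.leaf 578001585340) (.leaf 880917845781))) (.node (.node (.leaf 892701304627) (.leaf 601166357728)) (.node (.leaf 65097429147) (.leaf 650023310661)))) (.node (.node (.node (.leaf 669689247076) (.leaf 924762478471)) (.node (.leaf 801811281533) (.leaf 1036859922557))) (.node (.node (.leaf 384354698037) (.leaf 328241246911)) (.node (.leaf 312969573021) (.leaf 0)))))))) (.node (.node (.node (.node (.node (.node (.node (.leaf 364009284363) (.leaf 640556487992)) (.node (.leaf 176138879369) (.leaf 696933266862))) (.node (.node (.leaf 145685791053) (.leaf 51868917882)) (.node (.leaf 574413796534) (.leaf 253862449699)))) (.node (.node (.node (.leaf 657897964878) (.leaf 386719879996)) (.node (.leaf 664842790233) (.leaf 173475893634))) (.node (.node (.leaf 67208106145) (.leaf 352151102187)) (.node (.leaf 794232366706) (.leaf 214905946584))))) (.node (.node (.node (.node (.leaf 311574016666)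 (.leaf 724729112035)) (.node (.leaf 589157680340) (.leaf 196492816827))) (.node (.node (.leaf 270080373314) (.leaf 546821973118)) (.node (.leaf 903962470224) (.leaf 452244083660)))) (.node (.node (.node (.leaf 266498294330) (.leaf 931141080984)) (.node (.leaf 939203434404) (.leaf 656837829965))) (.node (.node (.leaf 604176098536) (.leaf 512175604810)) (.node (.leaf 742470571534) (.leaf 539385549939)))))) (.node (.node (.node (.node (.node (.leaf 502947750972) (.leaf 134376657207)) (.node (.leaf 94388969693) (.leaf 500575462452))) (.node (.node (.leaf 842940974796) (.leaf 124760191264)) (.node (.leaf 338556429010) (.leaf 82003906759)))) (.node (.node (.node (.leaf 162008330600) (.leaf 754927343139)) (.node (.leaf 908325455703) (.leaf 46570455155))) (.node (.node (.leaf 737791706623) (.leaf 441963062196)) (.node (.leaf 647692436802) (.leaf 537590686831))))) (.node (.node (.node (.node (.leaf 363915227914) (.leaf 426344264598)) (.node (.leaf 525722285148) (.leaf 21884227650))) (.node (.node (.leaf 269410185793) (.leaf 113431466244)) (.node (.leaf 349421081320)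 (.leaf 106604683509)))) (.node (.node (.node (.leaf 425165001617) (.leaf 727070647781)) (.node (.leaf 720764089819) (.leaf 898238052161))) (.node (.node (.leaf 467904287712) (.leaf 570144208042)) (.node (.leaf 730567788018) (.leaf 729173501421))))))) (.node (.node (.node (.node (.node (.node (.leaf 1012888119367) (.leaf 139425677635)) (.node (.leaf 576845833403) (.leaf 951725524941))) (.node (.node (.leaf 624585852186) (.leaf 541123261557)) (.node (.leaf 1039742068870) (.leaf 577437594811)))) (.node (.node (.node (.leaf 654189622601) (.leaf 731844830710)) (.node (.leaf 726851601893) (.leaf 569637041321))) (.node (.node (.leaf 725807310309) (.leaf 173467509122)) (.node (.leaf 553127707781) (.leaf 493193741345))))) (.node (.node (.node (.node (.leaf 500703585333) (.leaf 237748138502)) (.node (.leaf 856654378726) (.leaf 239255421452))) (.node (.node (.leaf 820987672232) (.leaf 234851557890)) (.node (.leaf 127458849061) (.leaf 116974579983)))) (.node (.node (.node (.leaf 735118870009) (.leaf 56488345733)) (.node (.leaf 858816825072) (.leaf 304754868872)))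 (.node (.node (.leaf 80263012544) (.leaf 944061515696)) (.node (.leaf 1043688659088) (.leaf 1029174839399)))))) (.node (.node (.node (.node (.node (.leaf 63617212567) (.leaf 778283206231)) (.node (.leaf 213036847574) (.leaf 394581889870))) (.node (.node (.leaf 422716699530) (.leaf 167262151029)) (.node (.leaf 112518209794) (.leaf 675615044974)))) (.node (.node (.node (.leaf 1019193956431) (.leaf 832131598007)) (.node (.leaf 1012058171462) (.leaf 984478967830))) (.node (.node (.leaf 899347769156) (.leaf 807996397198)) (.node (.leaf 896355678012) (.leaf 435406496675))))) (.node (.node (.node (.node (.leaf 79459332286) (.leaf 339961926358)) (.node (.leaf 397488198483) (.leaf 251371147811))) (.node (.node (.leaf 473313072104) (.leaf 1025650309214)) (.node (.leaf 731460003317) (.leaf 593560622297)))) (.node (.node (.node (.leaf 538921510003) (.leaf 887540897575)) (.node (.leaf 939242358692) (.leaf 222664065517))) (.node (.node (.leaf 697296111024) (.leaf 143991308617)) (.node (.leaf 779088074327) (.leaf 0))))))))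

/-- Part of `hintAOne`. -/
def hintAOne_p1001 : Tr := .node (.node (.node (.node (.node (.node (.node (.node (.leaf 251845456419) (.leaf 368460227348)) (.node (.leaf 758872659498) (.leaf 790141654636))) (.node (.node (.leaf 471723062244) (.leaf 729503303149)) (.node (.leaf 130653221165) (.leaf 74781163703)))) (.node (.node (.node (.leaf 396201857872) (.leaf 210512380371)) (.node (.leaf 177549574538) (.leaf 1019537332305))) (.node (.node (.leaf 460466066388) (.leaf 37709664353)) (.node (.leaf 895075051320) (.leaf 397767242580))))) (.node (.node (.node (.node (.leaf 94758011101) (.leaf 223846371823)) (.node (.leaf 865665726200) (.leaf 496885675053))) (.node (.node (.leaf 685500245387) (.leaf 164982907248)) (.node (.leaf 793317205616) (.leaf 33465405532)))) (.node (.node (.node (.leaf 578383156414) (.leaf 877575448335)) (.node (.leaf 773269042770) (.leaf 461292372948))) (.node (.node (.leaf 957608216537) (.leaf 540911776885)) (.node (.leaf 383527740209) (.leaf 258760921642)))))) (.node (.node (.node (.node (.node (.leaf 960661882846) (.leaf 768225683011))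 (.node (.leaf 289938272888) (.leaf 1014840457292))) (.node (.node (.leaf 77151006906) (.leaf 478375523324)) (.node (.leaf 905590904658) (.leaf 704864527814)))) (.node (.node (.node (.leaf 790432421484) (.leaf 724280100322)) (.node (.leaf 325966774968) (.leaf 875558110989))) (.node (.node (.leaf 629874242854) (.leaf 885663831841)) (.node (.leaf 640924972344) (.leaf 805441091210))))) (.node (.node (.node (.node (.leaf 147305419089) (.leaf 666194326877)) (.node (.leaf 967018010601) (.leaf 392006796106))) (.node (.node (.leaf 836582659776) (.leaf 948697397182)) (.node (.leaf 862720145140) (.leaf 351124341482)))) (.node (.node (.node (.leaf 99925803240) (.leaf 396342182736)) (.node (.leaf 1060638296247) (.leaf 401297843031))) (.node (.node (.leaf 160346554726) (.leaf 385611195196)) (.node (.leaf 708980057545) (.leaf 976875653128))))))) (.node (.node (.node (.node (.node (.node (.leaf 444392981433) (.leaf 265162273335)) (.node (.leaf 1045707589780) (.leaf 1016028264525))) (.node (.node (.leaf 514337584206) (.leaf 563698906267)) (.node (.leaf 784256480865)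 (.leaf 645610964290)))) (.node (.node (.node (.leaf 819191883429) (.leaf 883139987228)) (.node (.leaf 774318798418) (.leaf 812654397084))) (.node (.node (.leaf 875636119309) (.leaf 473454523368)) (.node (.leaf 534302499945) (.leaf 476440839157))))) (.node (.node (.node (.node (.leaf 499745379379) (.leaf 293636711039)) (.node (.leaf 1075929614556) (.leaf 229108998646))) (.node (.node (.leaf 772614399570) (.leaf 808608368272)) (.node (.leaf 853748446944) (.leaf 964305700838)))) (.node (.node (.node (.leaf 586747581647) (.leaf 816166872737)) (.node (.leaf 959809005532) (.leaf 888184108841))) (.node (.node (.leaf 432178660256) (.leaf 985000794135)) (.node (.leaf 722563044830) (.leaf 62090797205)))))) (.node (.node (.node (.node (.node (.leaf 229023400438) (.leaf 305803317897)) (.node (.leaf 751915808285) (.leaf 446731051968))) (.node (.node (.leaf 1028519729254) (.leaf 1032686033011)) (.node (.leaf 2137202701) (.leaf 123067527452)))) (.node (.node (.node (.leaf 1021097703508) (.leaf 861786498802)) (.node (.leaf 380166435626) (.leaf 713122600401))) (.node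 (.node (.leaf 968929523697) (.leaf 837319485120)) (.node (.leaf 737871865343) (.leaf 164241166704))))) (.node (.node (.node (.node (.leaf 878875113233) (.leaf 730081678831)) (.node (.leaf 940823390117) (.leaf 1086425446636))) (.node (.node (.leaf 1006749796412) (.leaf 889665828654)) (.node (.leaf 360903959298) (.leaf 388923331393)))) (.node (.node (.node (.leaf 164122665328) (.leaf 1016262576206)) (.node (.leaf 846675470034) (.leaf 640440661304))) (.node (.node (.leaf 341614375642) (.leaf 748954035737)) (.node (.leaf 182714548630) (.leaf 0)))))))) (.node (.node (.node (.node (.node (.node (.node (.leaf 755737859619) (.leaf 866989410045)) (.node (.leaf 927852898192) (.leaf 1088254793967))) (.node (.node (.leaf 471424300004) (.leaf 987878455329)) (.node (.leaf 1062882060472) (.leaf 408917848934)))) (.node (.node (.node (.leaf 804174624384) (.leaf 267020067387)) (.node (.leaf 785074439777) (.leaf 703430137283))) (.node (.node (.leaf 999640389682) (.leaf 740776551947)) (.node (.leaf 444538323897) (.leaf 655715341644))))) (.node (.node (.node (.node (.leaf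 587474879698) (.leaf 151173103959)) (.node (.leaf 945989203893) (.leaf 1072962889938))) (.node (.node (.leaf 41251246184) (.leaf 76297621690)) (.node (.leaf 186525290910) (.leaf 724426548706)))) (.node (.node (.node (.leaf 580319311043) (.leaf 194521080245)) (.node (.leaf 1058515863730) (.leaf 201522504133))) (.node (.node (.leaf 1058758858931) (.leaf 628255261986)) (.node (.leaf 113061777668) (.leaf 710271346122)))))) (.node (.node (.node (.node (.node (.leaf 901264774988) (.leaf 340107125462)) (.node (.leaf 581236769987) (.leaf 244851028502))) (.node (.node (.leaf 635314566448) (.leaf 45834326130)) (.node (.leaf 747655607831) (.leaf 99360501991)))) (.node (.node (.node (.leaf 718284920280) (.leaf 583539426502)) (.node (.leaf 451730633674) (.leaf 937274230690))) (.node (.node (.leaf 513814905933) (.leaf 437145281451)) (.node (.leaf 965561894887) (.leaf 594479793370))))) (.node (.node (.node (.node (.leaf 179688378769) (.leaf 1087098800365)) (.node (.leaf 835960940222) (.leaf 25109557323))) (.node (.node (.leaf 900041332551) (.leaf 494914589737)) (.node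 (.leaf 221612610024) (.leaf 159383118179)))) (.node (.node (.node (.leaf 222612074989) (.leaf 296489063041)) (.node (.leaf 861803165426) (.leaf 426285400981))) (.node (.node (.leaf 322009768624) (.leaf 352778851055)) (.node (.leaf 166628315508) (.leaf 947737991099))))))) (.node (.node (.node (.node (.node (.node (.leaf 352436794094) (.leaf 963346540516)) (.node (.leaf 591253132502) (.leaf 268938969664))) (.node (.node (.leaf 736087254523) (.leaf 733831648760)) (.node (.leaf 1088967047407) (.leaf 231640908284)))) (.node (.node (.node (.leaf 482642822150) (.leaf 281874080352)) (.node (.leaf 293197238911) (.leaf 274642534992))) (.node (.node (.leaf 1065600653503) (.leaf 341277688536)) (.node (.leaf 428686136220) (.leaf 69184487588))))) (.node (.node (.node (.node (.leaf 340397437654) (.leaf 486287676433)) (.node (.leaf 410416497517) (.leaf 293033820799))) (.node (.node (.leaf 1045586733204) (.leaf 968454260718)) (.node (.leaf 625190835483) (.leaf 618617894156)))) (.node (.node (.node (.leaf 692505863585) (.leaf 151104639319)) (.node (.leaf 658234078544)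 (.leaf 343478596315))) (.node (.node (.leaf 857771349740) (.leaf 337041236687)) (.node (.leaf 392253514571) (.leaf 727692281323)))))) (.node (.node (.node (.node (.node (.leaf 721208415707) (.leaf 886060939044)) (.node (.leaf 281503973982) (.leaf 714018776532))) (.node (.node (.leaf 333542920905) (.leaf 1063225772216)) (.node (.leaf 444935287738) (.leaf 989056591908)))) (.node (.node (.node (.leaf 165285978482) (.leaf 940901869477)) (.node (.leaf 198244921792) (.leaf 1028803676263))) (.node (.node (.leaf 289682694775) (.leaf 518674912340)) (.node (.leaf 540080460915) (.leaf 75133554872))))) (.node (.node (.node (.node (.leaf 982276339734) (.leaf 68107636900)) (.node (.leaf 314024964765) (.leaf 186691940766))) (.node (.node (.leaf 967796033518) (.leaf 15109681204)) (.node (.leaf 351681958634) (.leaf 711862138319)))) (.node (.node (.node (.leaf 801862084221) (.leaf 400973161303)) (.node (.leaf 573300864180) (.leaf 96916467939))) (.node (.node (.leaf 240098943502) (.leaf 844956427984)) (.node (.leaf 738985739783) (.leaf 0))))))))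

/-- Part of `hintAOne`. -/
def hintAOne_p1010 : Tr := .node (.node (.node (.node (.node (.node (.node (.node (.leaf 49520156791) (.leaf 1022371461207)) (.node (.leaf 855283197668) (.leaf 410542551917))) (.node (.node (.leaf 754328581663) (.leaf 169176482171)) (.node (.leaf 545251116154) (.leaf 168327442809)))) (.node (.node (.node (.leaf 363289858825) (.leaf 221753491945)) (.node (.leaf 451898999755) (.leaf 240434541072))) (.node (.node (.leaf 259012104746) (.leaf 789959083628)) (.node (.leaf 922901055363) (.leaf 336083493580))))) (.node (.node (.node (.node (.leaf 795448972915) (.leaf 402669003614)) (.node (.leaf 1026574612575) (.leaf 377701253924))) (.node (.node (.leaf 614299649279) (.leaf 538712745071)) (.node (.leaf 386942116669) (.leaf 431717188512)))) (.node (.node (.node (.leaf 331940688584) (.leaf 625326322971)) (.node (.leaf 420458333058) (.leaf 166140318067))) (.node (.node (.leaf 18139435070) (.leaf 406088979296)) (.node (.leaf 1024033511513) (.leaf 785220929122)))))) (.node (.node (.node (.node (.node (.leaf 698444457395) (.leaf 1068333312197))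 (.node (.leaf 949577607108) (.leaf 884067485469))) (.node (.node (.leaf 65340211356) (.leaf 328814944961)) (.node (.leaf 16239464505) (.leaf 310986240663)))) (.node (.node (.node (.leaf 501034624054) (.leaf 82407887049)) (.node (.leaf 14945890356) (.leaf 985352591383))) (.node (.node (.leaf 279000072792) (.leaf 63804924057)) (.node (.leaf 517420213329) (.leaf 1033929459829))))) (.node (.node (.node (.node (.leaf 243140891155) (.leaf 883764754204)) (.node (.leaf 967396812779) (.leaf 200330465731))) (.node (.node (.leaf 560678962324) (.leaf 657983296846)) (.node (.leaf 437316076459) (.leaf 369292960532)))) (.node (.node (.node (.leaf 1068700731590) (.leaf 428188906395)) (.node (.leaf 249555735071) (.leaf 1072159111374))) (.node (.node (.leaf 388838650689) (.leaf 473626706920)) (.node (.leaf 456705463249) (.leaf 160460419430))))))) (.node (.node (.node (.node (.node (.node (.leaf 972025481209) (.leaf 168166949240)) (.node (.leaf 772659398226) (.leaf 265323065912))) (.node (.node (.leaf 15749963830) (.leaf 844748711632)) (.node (.leaf 756340315684) (.leaf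 553936594053)))) (.node (.node (.node (.leaf 777264219735) (.leaf 576993617083)) (.node (.leaf 245866914329) (.leaf 605940581611))) (.node (.node (.leaf 225941983730) (.leaf 371860828956)) (.node (.leaf 1017824553039) (.leaf 284808835683))))) (.node (.node (.node (.node (.leaf 431342097311) (.leaf 120226767124)) (.node (.leaf 238861386251) (.leaf 499029586994))) (.node (.node (.leaf 1005321697338) (.leaf 630300034343)) (.node (.leaf 518638470228) (.leaf 362684965641)))) (.node (.node (.node (.leaf 269307101761) (.leaf 916632237940)) (.node (.leaf 1000403859507) (.leaf 570519733418))) (.node (.node (.leaf 528720901213) (.leaf 668768765281)) (.node (.leaf 373083321118) (.leaf 982917003286)))))) (.node (.node (.node (.node (.node (.leaf 353818583795) (.leaf 671588078951)) (.node (.leaf 723897050593) (.leaf 437136602027))) (.node (.node (.leaf 735013586425) (.leaf 742589675022)) (.node (.leaf 803572606592) (.leaf 834190153403)))) (.node (.node (.node (.leaf 395135767374) (.leaf 39094792291)) (.node (.leaf 655786472780) (.leaf 857987745516))) (.node (.node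 (.leaf 261539058222) (.leaf 587985929427)) (.node (.leaf 642557875515) (.leaf 289292612214))))) (.node (.node (.node (.node (.leaf 306651947660) (.leaf 992892643366)) (.node (.leaf 754117195295) (.leaf 572409410735))) (.node (.node (.leaf 412349072240) (.leaf 775333312084)) (.node (.leaf 385119793979) (.leaf 995474970666)))) (.node (.node (.node (.leaf 882634213146) (.leaf 932406912927)) (.node (.leaf 912795527015) (.leaf 548801545343))) (.node (.node (.leaf 975930546179) (.leaf 260706124333)) (.node (.leaf 463818474456) (.leaf 0)))))))) (.node (.node (.node (.node (.node (.node (.node (.leaf 523133236316) (.leaf 674864756078)) (.node (.leaf 283433534050) (.leaf 510563750981))) (.node (.node (.leaf 939619833764) (.leaf 450895336393)) (.node (.leaf 359121920766) (.leaf 625598473501)))) (.node (.node (.node (.leaf 19531903041) (.leaf 121122103575)) (.node (.leaf 597005092060) (.leaf 875561252621))) (.node (.node (.leaf 209620627922) (.leaf 832934778553)) (.node (.leaf 608933754099) (.leaf 910341248862))))) (.node (.node (.node (.node (.leaf 256202404392)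 (.leaf 848162764501)) (.node (.leaf 50818670711) (.leaf 849075234517))) (.node (.node (.leaf 841623602890) (.leaf 581320934595)) (.node (.leaf 254926197285) (.leaf 563350082715)))) (.node (.node (.node (.leaf 998987802672) (.leaf 367274472210)) (.node (.leaf 1072564639952) (.leaf 568560751781))) (.node (.node (.leaf 1065139447996) (.leaf 872265545479)) (.node (.leaf 547853390974) (.leaf 503384867900)))))) (.node (.node (.node (.node (.node (.leaf 927451989904) (.leaf 604082279656)) (.node (.leaf 856685848294) (.leaf 991927662630))) (.node (.node (.leaf 520876541016) (.leaf 1010520877123)) (.node (.leaf 242541597202) (.leaf 257806377514)))) (.node (.node (.node (.leaf 224903627249) (.leaf 113358217476)) (.node (.leaf 90084843736) (.leaf 649316762949))) (.node (.node (.leaf 237614719494) (.leaf 461293106132)) (.node (.leaf 698976535987) (.leaf 987937642529))))) (.node (.node (.node (.node (.leaf 720906941915) (.leaf 211683480020)) (.node (.leaf 1080780441826) (.leaf 618890241293))) (.node (.node (.leaf 47028494451) (.leaf 1047118334102)) (.node (.leaf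 940682819493) (.leaf 245236556313)))) (.node (.node (.node (.leaf 371535168282) (.leaf 696807826862)) (.node (.leaf 353997169395) (.leaf 48496435317))) (.node (.node (.leaf 358382830333) (.leaf 137833091392)) (.node (.leaf 105215222001) (.leaf 914784601964))))))) (.node (.node (.node (.node (.node (.node (.leaf 175048749447) (.leaf 320014361258)) (.node (.leaf 58465386633) (.leaf 148453622098))) (.node (.node (.leaf 1026640566367) (.leaf 100745511145)) (.node (.leaf 566154826915) (.leaf 533165806693)))) (.node (.node (.node (.leaf 888162875177) (.leaf 1097318590717)) (.node (.leaf 914941151084) (.leaf 407507870563))) (.node (.node (.leaf 692555462049) (.leaf 790801069676)) (.node (.leaf 651989878088) (.leaf 1025083111516))))) (.node (.node (.node (.node (.leaf 456459736017) (.leaf 386492592956)) (.node (.leaf 511083062342) (.leaf 439005475758))) (.node (.node (.leaf 585400870091) (.leaf 198201639359)) (.node (.leaf 856596182758) (.leaf 844222502607)))) (.node (.node (.node (.leaf 1004999047226) (.leaf 675795416430)) (.node (.leaf 133709504823) (.leaf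 513812259917))) (.node (.node (.leaf 175457284487) (.leaf 310567166615)) (.node (.leaf 982375389206) (.leaf 606446417134)))))) (.node (.node (.node (.node (.node (.leaf 29489975378) (.leaf 928658466708)) (.node (.leaf 604281906408) (.leaf 239484871182))) (.node (.node (.leaf 329951847108) (.leaf 389776884548)) (.node (.leaf 705935721926) (.leaf 363214996233)))) (.node (.node (.node (.leaf 487202157586) (.leaf 124279271711)) (.node (.leaf 546899817598) (.leaf 1051192719519))) (.node (.node (.leaf 959441692636) (.leaf 539819267187)) (.node (.leaf 758611854890) (.leaf 877166810894))))) (.node (.node (.node (.node (.leaf 90733301977) (.leaf 640394806584)) (.node (.leaf 495000478761) (.leaf 516971205713))) (.node (.node (.leaf 13990871089) (.leaf 1079399024863)) (.node (.leaf 730759845363) (.leaf 1029496232041)))) (.node (.node (.node (.leaf 1012019705926) (.leaf 392870138700)) (.node (.leaf 894166501173) (.leaf 1069534988492))) (.node (.node (.leaf 1091715623158) (.leaf 255721529894)) (.node (.leaf 445101151163) (.leaf 0))))))))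

/-- Part of `hintAOne`. -/
def hintAOne_p1011 : Tr := .node (.node (.node (.node (.node (.node (.node (.node (.leaf 342452257499) (.leaf 834133276347)) (.node (.leaf 758475228714) (.leaf 33540960348))) (.node (.node (.leaf 30523002964) (.leaf 987547224095)) (.node (.leaf 742431196686) (.leaf 460723712980)))) (.node (.node (.node (.leaf 196305002938) (.leaf 950793033672)) (.node (.leaf 1014130034761) (.leaf 176608715145))) (.node (.node (.leaf 893980100405) (.leaf 796144547443)) (.node (.leaf 198900761024) (.leaf 1088845965551))))) (.node (.node (.node (.node (.leaf 3753312273) (.leaf 904442787664)) (.node (.leaf 933890164640) (.leaf 436247929765))) (.node (.node (.leaf 291443700347) (.leaf 218312774117)) (.node (.leaf 518938510421) (.leaf 413726086002)))) (.node (.node (.node (.leaf 488344040468) (.leaf 41466630250)) (.node (.leaf 12223840299) (.leaf 501847426105))) (.node (.node (.leaf 621856613650) (.leaf 554775782534)) (.node (.leaf 402781389662) (.leaf 636974007604)))))) (.node (.node (.node (.node (.node (.leaf 45183271026) (.leaf 954668193746))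 (.node (.leaf 955407828948) (.leaf 258553487914))) (.node (.node (.leaf 382797017904) (.leaf 621771863313)) (.node (.leaf 508113110082) (.leaf 242482741778)))) (.node (.node (.node (.leaf 156025885020) (.leaf 559267972243)) (.node (.leaf 9374924833) (.leaf 728369706476))) (.node (.node (.leaf 523742512220) (.leaf 656322106700)) (.node (.leaf 987675752479) (.leaf 184623247772))))) (.node (.node (.node (.node (.leaf 1091908253942) (.leaf 47922454644)) (.node (.leaf 178535027086) (.leaf 351899894506))) (.node (.node (.leaf 445402096571) (.leaf 985020938263)) (.node (.leaf 1061374830776) (.leaf 57449005192)))) (.node (.node (.node (.leaf 364489786124) (.leaf 787111515751)) (.node (.leaf 1095440582909) (.leaf 260592640557))) (.node (.node (.leaf 931830425499) (.leaf 687175460240)) (.node (.leaf 591205151958) (.leaf 798010726005))))))) (.node (.node (.node (.node (.node (.node (.leaf 13506494509) (.leaf 131320897840)) (.node (.leaf 248029360671) (.leaf 366733890321))) (.node (.node (.leaf 907880392534) (.leaf 34520162397)) (.node (.leaf 1092457478390) (.leaf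 334827537098)))) (.node (.node (.node (.leaf 611258860793) (.leaf 750728427036)) (.node (.leaf 356356199162) (.leaf 729123661293))) (.node (.node (.leaf 612976497918) (.leaf 431521801119)) (.node (.leaf 459461272531) (.leaf 469804757987))))) (.node (.node (.node (.node (.leaf 435054732195) (.leaf 946201692085)) (.node (.leaf 939034408868) (.leaf 20109844545))) (.node (.node (.leaf 696343496109) (.leaf 352052843243)) (.node (.leaf 113181495556) (.leaf 440518079408)))) (.node (.node (.node (.leaf 1012178946118) (.leaf 962478716898)) (.node (.leaf 924035491717) (.leaf 912907585383))) (.node (.node (.leaf 1067485444289) (.leaf 140963701060)) (.node (.leaf 663409472853) (.leaf 445926978493)))))) (.node (.node (.node (.node (.node (.leaf 818838619813) (.leaf 25965088846)) (.node (.leaf 268694000191) (.leaf 242821374483))) (.node (.node (.leaf 396589241168) (.leaf 644433618238)) (.node (.leaf 506025624642) (.leaf 272338461258)))) (.node (.node (.node (.leaf 618958906637) (.leaf 861118781169)) (.node (.leaf 1058074794162) (.leaf 893993735989))) (.node (.node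 (.leaf 414102422386) (.leaf 692630455713)) (.node (.leaf 695485801899) (.leaf 168011792758))))) (.node (.node (.node (.node (.leaf 161626411367) (.leaf 220167033318)) (.node (.leaf 337307878095) (.leaf 107253711093))) (.node (.node (.leaf 154908746075) (.leaf 934070753184)) (.node (.leaf 770832774727) (.leaf 982244599830)))) (.node (.node (.node (.leaf 77690892475) (.leaf 405064704864)) (.node (.leaf 1069064550600) (.leaf 1080529041634))) (.node (.node (.leaf 1096564984061) (.leaf 267796558397)) (.node (.leaf 789074413164) (.leaf 0)))))))) (.node (.node (.node (.node (.node (.node (.node (.leaf 57652031624) (.leaf 946153539509)) (.node (.leaf 577926014140) (.leaf 669055612258))) (.node (.node (.leaf 254665937444) (.leaf 124242673951)) (.node (.leaf 290136228473) (.leaf 1060627749047)))) (.node (.node (.node (.leaf 333083988681) (.leaf 267951993405)) (.node (.leaf 80773136578) (.leaf 74283966643))) (.node (.node (.leaf 73231364274) (.leaf 836525147840)) (.node (.leaf 289186947702) (.leaf 611672429818))))) (.node (.node (.node (.node (.leaf 606538036462)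 (.leaf 805100308104)) (.node (.leaf 672505750888) (.leaf 971087951862))) (.node (.node (.leaf 15304110133) (.leaf 898589275969)) (.node (.leaf 828327921331) (.leaf 272973754957)))) (.node (.node (.node (.leaf 565099070624) (.leaf 629137016101)) (.node (.leaf 1033290426485) (.leaf 121139679511))) (.node (.node (.leaf 414693274482) (.leaf 615673341189)) (.node (.leaf 1037394905214) (.leaf 359897096960)))))) (.node (.node (.node (.node (.node (.leaf 133013246262) (.leaf 694564902313)) (.node (.leaf 434908476322) (.leaf 348850410215))) (.node (.node (.leaf 818113554084) (.leaf 560662414484)) (.node (.leaf 403848618847) (.leaf 135369748794)))) (.node (.node (.node (.leaf 810571007640) (.leaf 530913944675)) (.node (.leaf 305741574793) (.leaf 794835908211))) (.node (.node (.leaf 68554608804) (.leaf 788374156905)) (.node (.leaf 487531439123) (.leaf 65742438559))))) (.node (.node (.node (.node (.leaf 33232904284) (.leaf 110723088638)) (.node (.leaf 374746469152) (.leaf 858234926828))) (.node (.node (.leaf 1022706092119) (.leaf 765451458108)) (.node (.leaf 45192245362)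 (.leaf 999972448307)))) (.node (.node (.node (.leaf 556257686668) (.leaf 165226479986)) (.node (.leaf 135689388348) (.leaf 442078876596))) (.node (.node (.leaf 99575521511) (.leaf 305983881866)) (.node (.leaf 9638850594) (.leaf 0))))))) (.node (.node (.node (.node (.node (.node (.leaf 859943220976) (.leaf 189902602666)) (.node (.leaf 416437564280) (.leaf 471266866148))) (.node (.node (.leaf 220316451303) (.leaf 345523311326)) (.node (.leaf 378321609509) (.leaf 798874580598)))) (.node (.node (.node (.leaf 65769648287) (.leaf 627980743968)) (.node (.leaf 71128010920) (.leaf 508440937538))) (.node (.node (.leaf 1038264338562) (.leaf 713706747347)) (.node (.leaf 283703657058) (.leaf 767015114305))))) (.node (.node (.node (.node (.leaf 297974067842) (.leaf 691771041183)) (.node (.leaf 808487548560) (.leaf 1084154456296))) (.node (.node (.leaf 835670415037) (.leaf 609366160628)) (.node (.leaf 258253488682) (.leaf 298783322755)))) (.node (.node (.node (.leaf 528857027678) (.leaf 492741518368)) (.node (.leaf 491985142814) (.leaf 83245359306))) (.node (.node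 (.leaf 740158793225) (.leaf 63616094359)) (.node (.leaf 409571119979) (.leaf 232551793149)))))) (.node (.node (.node (.node (.node (.leaf 678820603256) (.leaf 847037466323)) (.node (.leaf 1011497498693) (.leaf 574423327926))) (.node (.node (.leaf 193737712053) (.leaf 708430788041)) (.node (.leaf 811041617561) (.leaf 700382598584)))) (.node (.node (.node (.leaf 532717909093) (.leaf 1008605059139)) (.node (.leaf 634287899951) (.leaf 758769477162))) (.node (.node (.leaf 752976172573) (.leaf 559624389780)) (.node (.leaf 991726819366) (.leaf 194465436085))))) (.node (.node (.node (.node (.leaf 167182672245) (.leaf 445035643835)) (.node (.leaf 138410258753) (.leaf 912905557863))) (.node (.node (.leaf 472903853031) (.leaf 539367183475)) (.node (.leaf 79994482879) (.leaf 558112494737)))) (.node (.node (.node (.leaf 16436568122) (.leaf 867939272446)) (.node (.leaf 995528554539) (.leaf 894170941237))) (.node (.node (.leaf 463595168728) (.leaf 1010527901763)) (.node (.leaf 495190881321) (.leaf 0))))))))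

/-- Part of `hintAOne`. -/
def hintAOne_p1100 : Tr := .node (.node (.node (.node (.node (.node (.node (.node (.leaf 698398012851) (.leaf 512829449290)) (.node (.leaf 986131408922) (.leaf 152423493977))) (.node (.node (.leaf 202853069255) (.leaf 1072991422674)) (.node (.leaf 664263488856) (.leaf 370686333719)))) (.node (.node (.node (.leaf 380041802538) (.leaf 70164922536)) (.node (.leaf 580270736579) (.leaf 247148868126))) (.node (.node (.leaf 1002866366518) (.leaf 235601068547)) (.node (.leaf 6717399068) (.leaf 817714558627))))) (.node (.node (.node (.node (.leaf 329311711937) (.leaf 636983973172)) (.node (.leaf 740757378571) (.leaf 414466945906))) (.node (.node (.leaf 52321120379) (.leaf 910859994976)) (.node (.leaf 31241146454) (.leaf 839603496645)))) (.node (.node (.node (.leaf 614621975807) (.leaf 341531235033)) (.node (.leaf 860472510192) (.leaf 224327610863))) (.node (.node (.leaf 505148048450) (.leaf 984045623318)) (.node (.leaf 295774012033) (.leaf 423250609037)))))) (.node (.node (.node (.node (.node (.leaf 412654322544) (.leaf 664399291736))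 (.node (.leaf 749164279321) (.leaf 952195143630))) (.node (.node (.leaf 253007397411) (.leaf 649517040965)) (.node (.leaf 533183951973) (.leaf 613057922302)))) (.node (.node (.node (.leaf 257544471082) (.leaf 421205447556)) (.node (.leaf 433657504672) (.leaf 452190024652))) (.node (.node (.leaf 1078087076060) (.leaf 137597944128)) (.node (.leaf 815947495073) (.leaf 52902817916))))) (.node (.node (.node (.node (.leaf 544391787642) (.leaf 160100041062)) (.node (.leaf 414694908786) (.leaf 501130638391))) (.node (.node (.leaf 416436573048) (.leaf 231493112316)) (.node (.leaf 623329166616) (.leaf 1053286484132)))) (.node (.node (.node (.leaf 84216836301) (.leaf 275586585168)) (.node (.leaf 598008288478) (.leaf 185844515229))) (.node (.node (.leaf 626473141534) (.leaf 181382635924)) (.node (.leaf 37722431585) (.leaf 817767331491))))))) (.node (.node (.node (.node (.node (.node (.leaf 729728214510) (.leaf 993847576615)) (.node (.leaf 575092823225) (.leaf 102622957804))) (.node (.node (.leaf 1047177119895) (.leaf 699703952822)) (.node (.leaf 1080522787042)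 (.leaf 1061768415416)))) (.node (.node (.node (.leaf 732104156662) (.leaf 296504869505)) (.node (.leaf 434187555744) (.leaf 639191897400))) (.node (.node (.leaf 524833174620) (.leaf 933527848863)) (.node (.leaf 50032697463) (.leaf 699846616504))))) (.node (.node (.node (.node (.leaf 1081227311330) (.leaf 1016668391503)) (.node (.leaf 745438705173) (.leaf 835556779708))) (.node (.node (.leaf 140390465860) (.leaf 310797329047)) (.node (.leaf 301724009091) (.leaf 313478398621)))) (.node (.node (.node (.leaf 161404191079) (.leaf 225361408498)) (.node (.leaf 228495397366) (.leaf 134212866359))) (.node (.node (.leaf 220634378727) (.leaf 808095172238)) (.node (.leaf 389972374341) (.leaf 896582817597)))))) (.node (.node (.node (.node (.node (.leaf 8586965023) (.leaf 622479848725)) (.node (.leaf 609522222325) (.leaf 874784478988))) (.node (.node (.leaf 740054193673) (.leaf 202243731910)) (.node (.leaf 859774985) (.leaf 386822775613)))) (.node (.node (.node (.leaf 961760139232) (.leaf 495212463145)) (.node (.leaf 156834148703) (.leaf 512570987594))) (.node (.node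 (.leaf 201491534277) (.leaf 162092147048)) (.node (.leaf 51931914362) (.leaf 578659304639))))) (.node (.node (.node (.node (.leaf 651175085382) (.leaf 738468136449)) (.node (.leaf 1094514645244) (.leaf 761465804335))) (.node (.node (.leaf 375731172130) (.leaf 865826944761)) (.node (.leaf 379829121832) (.leaf 110736634110)))) (.node (.node (.node (.leaf 1018412558415) (.leaf 538189132911)) (.node (.leaf 170567668094) (.leaf 57579585672))) (.node (.node (.leaf 29865799764) (.leaf 589251826900)) (.node (.leaf 1048892336281) (.leaf 0)))))))) (.node (.node (.node (.node (.node (.node (.node (.leaf 784393381473) (.leaf 87778046164)) (.node (.leaf 568060875940) (.leaf 1048164505752))) (.node (.node (.leaf 784231482977) (.leaf 428817245084)) (.node (.leaf 6388924444) (.leaf 355507106551)))) (.node (.node (.node (.leaf 583842583752) (.leaf 65373413532)) (.node (.leaf 1016058210381) (.leaf 847893198549))) (.node (.node (.leaf 884508677919) (.leaf 646114948418)) (.node (.leaf 614425048319) (.leaf 334596399818))))) (.node (.node (.node (.node (.leaf 739890238985)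 (.leaf 474463233003)) (.node (.leaf 680713643390) (.leaf 638861079863))) (.node (.node (.leaf 547489739902) (.leaf 795391485555)) (.node (.leaf 1063802718394) (.leaf 175162696071)))) (.node (.node (.node (.leaf 1063665539258) (.leaf 76388372666)) (.node (.leaf 288401465973) (.leaf 876391167758))) (.node (.node (.leaf 401312633688) (.leaf 963883968485)) (.node (.leaf 430089790364) (.leaf 701453854141)))))) (.node (.node (.node (.node (.node (.leaf 61149524113) (.leaf 583926637768)) (.node (.leaf 1044857600147) (.leaf 563535111323))) (.node (.node (.leaf 550745523329) (.leaf 730812429811)) (.node (.leaf 521854211161) (.leaf 910918448992)))) (.node (.node (.node (.leaf 112024916225) (.leaf 795013391987)) (.node (.leaf 565057291423) (.leaf 911588026211))) (.node (.node (.leaf 650854962502) (.leaf 634266567983)) (.node (.leaf 717738288599) (.leaf 664223331672))))) (.node (.node (.node (.node (.leaf 588227581139) (.leaf 637694723382)) (.node (.leaf 187055407519) (.leaf 390462227270))) (.node (.node (.leaf 946767992758) (.leaf 917190752117)) (.node (.leaf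 982494328854) (.leaf 886923704103)))) (.node (.node (.node (.leaf 335933997772) (.leaf 168591688057)) (.node (.leaf 127822991654) (.leaf 851232478934))) (.node (.node (.leaf 138023678272) (.leaf 803994408576)) (.node (.leaf 146729840976) (.leaf 799598704246))))))) (.node (.node (.node (.node (.node (.node (.leaf 984401324054) (.leaf 1053400930469)) (.node (.leaf 692440024481) (.leaf 1007124080701))) (.node (.node (.leaf 909612865373) (.leaf 883348756252)) (.node (.leaf 445612897212) (.leaf 947315320759)))) (.node (.node (.node (.leaf 1024578213978) (.leaf 1082607032549)) (.node (.leaf 432978969504) (.leaf 333845054153))) (.node (.node (.leaf 406704993121) (.leaf 101596905706)) (.node (.leaf 1060446288055) (.leaf 10036916258))))) (.node (.node (.node (.node (.leaf 941859936168) (.leaf 117464846608)) (.node (.leaf 840013104837) (.leaf 962707064802))) (.node (.node (.leaf 530748695651) (.leaf 390660944710)) (.node (.leaf 838886663875) (.leaf 324677317301)))) (.node (.node (.node (.leaf 730462782961) (.leaf 547324642430)) (.node (.leaf 879297464082) (.leaf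 76833554618))) (.node (.node (.leaf 404447634271) (.leaf 667444127072)) (.node (.leaf 667989562720) (.leaf 515613627472)))))) (.node (.node (.node (.node (.node (.leaf 913322207081) (.leaf 971581261816)) (.node (.leaf 904504285008) (.leaf 121512231192))) (.node (.node (.leaf 681252099455) (.leaf 380459434795)) (.node (.leaf 583959733448) (.leaf 345891148510)))) (.node (.node (.node (.leaf 426336859030) (.leaf 876205709070)) (.node (.leaf 477536199671) (.leaf 465669383133))) (.node (.node (.leaf 907917297494) (.leaf 1039613950086)) (.node (.leaf 427089048472) (.leaf 625672680733))))) (.node (.node (.node (.node (.leaf 130752307502) (.leaf 80914411715)) (.node (.leaf 696874440110) (.leaf 369267405588))) (.node (.node (.leaf 429632316316) (.leaf 1063068510392)) (.node (.leaf 339480982229) (.leaf 569069855910)))) (.node (.node (.node (.leaf 1029978011755) (.leaf 321547489967)) (.node (.leaf 73651601586) (.leaf 1095522142461))) (.node (.node (.leaf 608658343155) (.leaf 1055620036781)) (.node (.leaf 491882853405) (.leaf 0))))))))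

/-- Part of `hintAOne`. -/
def hintAOne_p1101 : Tr := .node (.node (.node (.node (.node (.node (.node (.node (.leaf 839043225283) (.leaf 976240674820)) (.node (.leaf 482115216389) (.leaf 890234959662))) (.node (.node (.leaf 333639889609) (.leaf 819993290407)) (.node (.leaf 953848821714) (.leaf 360698094338)))) (.node (.node (.node (.leaf 230038422009) (.leaf 269271634497)) (.node (.leaf 1093464991993) (.leaf 417860572029))) (.node (.node (.leaf 151609405783) (.leaf 652911813960)) (.node (.leaf 212661342678) (.leaf 269227860545))))) (.node (.node (.node (.node (.leaf 894675535671) (.leaf 303035908741)) (.node (.leaf 1043709409424) (.leaf 625775146269))) (.node (.node (.leaf 559811470484) (.leaf 235357921794)) (.node (.leaf 774541547090) (.leaf 845289363152)))) (.node (.node (.node (.leaf 623460619544) (.leaf 490406143000)) (.node (.leaf 82477035721) (.leaf 319908537002))) (.node (.node (.leaf 231842406909) (.leaf 888507803434)) (.node (.leaf 940812425125) (.leaf 412710433648)))))) (.node (.node (.node (.node (.node (.leaf 840782059207) (.leaf 149718376788))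 (.node (.leaf 245889475097) (.leaf 803168142976))) (.node (.node (.leaf 432253117344) (.leaf 970888370166)) (.node (.leaf 286352306796) (.leaf 927172736911)))) (.node (.node (.node (.leaf 1042995763344) (.leaf 394731332430)) (.node (.leaf 813155133084) (.leaf 640362988856))) (.node (.node (.leaf 550583399553) (.leaf 283853550178)) (.node (.leaf 538926339187) (.leaf 649684116805))))) (.node (.node (.node (.node (.leaf 586592888015) (.leaf 12211793963)) (.node (.leaf 686866421133) (.leaf 621431203088))) (.node (.node (.leaf 982836738070) (.leaf 206053044684)) (.node (.leaf 516539098193) (.leaf 432789287840)))) (.node (.node (.node (.leaf 149413740884) (.leaf 856402323174)) (.node (.leaf 735519483385) (.leaf 654686139722))) (.node (.node (.leaf 365851869967) (.leaf 785024824929)) (.node (.leaf 539911427187) (.leaf 427109462936))))))) (.node (.node (.node (.node (.node (.node (.leaf 89948471511) (.leaf 101400183018)) (.node (.leaf 454317695951) (.leaf 113715200262))) (.node (.node (.leaf 776716613205) (.leaf 893745174324)) (.node (.leaf 292543378046) (.leaf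 971880859641)))) (.node (.node (.node (.leaf 222322500075) (.leaf 263655342643)) (.node (.leaf 684802033030) (.leaf 822290089643))) (.node (.node (.leaf 802990917248) (.leaf 732493661687)) (.node (.leaf 354123408115) (.leaf 281445032542))))) (.node (.node (.node (.node (.leaf 323185017523) (.leaf 950567921607)) (.node (.leaf 1094259362042) (.leaf 136624554303))) (.node (.node (.leaf 853555488480) (.leaf 1005162924090)) (.node (.leaf 846980462291) (.leaf 468492084193)))) (.node (.node (.node (.leaf 194694128053) (.leaf 1076264106204)) (.node (.leaf 384725668665) (.leaf 169658499452))) (.node (.node (.leaf 319025476265) (.leaf 1080277739746)) (.node (.leaf 660772050258) (.leaf 868456711935)))))) (.node (.node (.node (.node (.node (.leaf 485575136271) (.leaf 209699254738)) (.node (.leaf 83490496714) (.leaf 492745180192))) (.node (.node (.leaf 237869900294) (.leaf 718961186266)) (.node (.leaf 905416869714) (.leaf 495264478250)))) (.node (.node (.node (.leaf 1050678716575) (.leaf 883444127516)) (.node (.leaf 151493038423) (.leaf 945849862069))) (.node (.node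 (.leaf 197699981757) (.leaf 392143135563)) (.node (.leaf 164346462576) (.leaf 1019034806351))))) (.node (.node (.node (.node (.leaf 984821778455) (.leaf 945030956979)) (.node (.leaf 649175045445) (.leaf 434587890593))) (.node (.node (.leaf 1097521055997) (.leaf 184937259421)) (.node (.leaf 97961656548) (.leaf 693010441634)))) (.node (.node (.node (.leaf 512759759946) (.leaf 852141205210)) (.node (.leaf 431952864160) (.leaf 94688133341))) (.node (.node (.leaf 661499180370) (.leaf 366416843536)) (.node (.leaf 407293666146) (.leaf 0)))))))) (.node (.node (.node (.node (.node (.node (.node (.leaf 691882104224) (.leaf 909881653085)) (.node (.leaf 766729193022) (.leaf 238243025415))) (.node (.node (.leaf 717049824726) (.leaf 115690156298)) (.node (.leaf 899367884612) (.leaf 906128779092)))) (.node (.node (.node (.leaf 849767655126) (.leaf 969469175794)) (.node (.leaf 196099916217) (.leaf 473715803112))) (.node (.node (.leaf 901951342412) (.leaf 385766929212)) (.node (.leaf 702541211074) (.leaf 787651262055))))) (.node (.node (.node (.node (.leaf 728633402861)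 (.leaf 186872447390)) (.node (.leaf 1015244187725) (.leaf 827293611698))) (.node (.node (.leaf 1011786455109) (.leaf 402642875230)) (.node (.leaf 1015692462157) (.leaf 956940642262)))) (.node (.node (.node (.leaf 85475057870) (.leaf 735143753209)) (.node (.leaf 30701482068) (.leaf 610675631351))) (.node (.node (.leaf 956668528598) (.leaf 173193449858)) (.node (.leaf 554962801800) (.leaf 899696772935)))))) (.node (.node (.node (.node (.node (.leaf 298984391299) (.leaf 1024024737881)) (.node (.leaf 694229714344) (.leaf 284559020643))) (.node (.node (.leaf 658778510672) (.leaf 816721131170)) (.node (.leaf 100085018856) (.leaf 453624046541)))) (.node (.node (.node (.leaf 561022055572) (.leaf 921069021058)) (.node (.leaf 598399628510) (.leaf 927851407248))) (.node (.node (.leaf 1050680264863) (.leaf 676306519408)) (.node (.leaf 663402280277) (.leaf 943586834349))))) (.node (.node (.node (.node (.leaf 672062465384) (.leaf 927770085264)) (.node (.leaf 196876956091) (.leaf 800730916474))) (.node (.node (.leaf 942372394920) (.leaf 344752616158)) (.node (.leaf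 6170738715) (.leaf 483637142536)))) (.node (.node (.node (.leaf 513597461581) (.leaf 407722738533)) (.node (.leaf 770515281479) (.leaf 794204051058))) (.node (.node (.leaf 360091161344) (.leaf 65717112991)) (.node (.leaf 232121840125) (.leaf 613403227391))))))) (.node (.node (.node (.node (.node (.node (.leaf 1052911622308) (.leaf 476306600947)) (.node (.leaf 1027058296929) (.leaf 92498833625))) (.node (.node (.leaf 440988529585) (.leaf 66985410721)) (.node (.leaf 416641196921) (.leaf 864219477750)))) (.node (.node (.node (.leaf 340745319128) (.leaf 473043026919)) (.node (.leaf 166561468788) (.leaf 666237834589))) (.node (.node (.leaf 425160078225) (.leaf 67802886306)) (.node (.leaf 436675658664) (.leaf 702388590017))))) (.node (.node (.node (.node (.leaf 1092894767350) (.leaf 169898320253)) (.node (.leaf 506961282114) (.leaf 491586851868))) (.node (.node (.leaf 396021510992) (.leaf 180084724113)) (.node (.leaf 520132187222) (.leaf 703724279235)))) (.node (.node (.node (.leaf 656105375052) (.leaf 976701229063)) (.node (.leaf 757655688744) (.leaf 1043278506128)))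 (.node (.node (.leaf 410647774061) (.leaf 629885207846)) (.node (.leaf 1055312717995) (.leaf 350631895785)))))) (.node (.node (.node (.node (.node (.leaf 894654822199) (.leaf 299704062595)) (.node (.leaf 284853064291) (.leaf 747148854806))) (.node (.node (.leaf 970648590325) (.leaf 527397844060)) (.node (.leaf 516489630801) (.leaf 14097305649)))) (.node (.node (.node (.leaf 624395912473) (.leaf 43556282480)) (.node (.leaf 762044757555) (.leaf 1081427130594))) (.node (.node (.leaf 629196985637) (.leaf 508979319874)) (.node (.leaf 1034391824501) (.leaf 242261864978))))) (.node (.node (.node (.node (.leaf 1085407250667) (.leaf 729740391918)) (.node (.leaf 124296675615) (.leaf 582288118980))) (.node (.node (.leaf 465947767773) (.leaf 280903275100)) (.node (.leaf 1020990240852) (.leaf 228779618806)))) (.node (.node (.node (.leaf 302074786435) (.leaf 785308431970)) (.node (.leaf 827774371506) (.leaf 994650486824))) (.node (.node (.leaf 1018626451535) (.leaf 487898002451)) (.node (.leaf 154695160155) (.leaf 0))))))))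

/-- Part of `hintAOne`. -/
def hintAOne_p1110 : Tr := .node (.node (.node (.node (.node (.node (.node (.node (.leaf 211856683477) (.leaf 56196075651)) (.node (.leaf 803385902720) (.leaf 389525316419))) (.node (.node (.leaf 817073460898) (.leaf 191976321456)) (.node (.leaf 905410819922) (.leaf 621042013455)))) (.node (.node (.node (.leaf 363282469641) (.leaf 84171251917)) (.node (.leaf 83256320202) (.leaf 734514845176))) (.node (.node (.leaf 962805192674) (.leaf 810817365657)) (.node (.leaf 860378425072) (.leaf 204108534217))))) (.node (.node (.node (.node (.leaf 872740796169) (.leaf 676882916723)) (.node (.leaf 57730379912) (.leaf 847700293332))) (.node (.node (.leaf 422175445896) (.leaf 116227821835)) (.node (.leaf 278385017432) (.leaf 653900035401)))) (.node (.node (.node (.leaf 412193256304) (.leaf 670749312356)) (.node (.leaf 335359537867) (.leaf 233075057150))) (.node (.node (.leaf 614295987455) (.leaf 1056934729905)) (.node (.leaf 858102376172) (.leaf 596740785372)))))) (.node (.node (.node (.node (.node (.leaf 217442345443) (.leaf 777533679191))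 (.node (.leaf 821692839594) (.leaf 210461037010))) (.node (.node (.leaf 371090019098) (.leaf 63108898967)) (.node (.leaf 983580063766) (.leaf 26367402062)))) (.node (.node (.node (.leaf 367470498578) (.leaf 456740455377)) (.node (.leaf 54518190206) (.leaf 268109615677))) (.node (.node (.leaf 274073866832) (.leaf 373259997982)) (.node (.leaf 834209212091) (.leaf 631339435304))))) (.node (.node (.node (.node (.leaf 208909263313) (.leaf 1024643852378)) (.node (.leaf 862030771954) (.leaf 103931044080))) (.node (.node (.leaf 369317970708) (.leaf 685460084107)) (.node (.leaf 64092565658) (.leaf 227057533428)))) (.node (.node (.node (.leaf 627827823904) (.leaf 1024137349209)) (.node (.leaf 588749661396) (.leaf 823106979500))) (.node (.node (.leaf 200433852867) (.leaf 297011221122)) (.node (.leaf 1035248625782) (.leaf 464411923417))))))) (.node (.node (.node (.node (.node (.node (.leaf 827642001074) (.leaf 581442041027)) (.node (.leaf 849536296661) (.leaf 82318975177))) (.node (.node (.leaf 321836524208) (.leaf 337087627983)) (.node (.leaf 622192076053) (.leaf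 1030070442091)))) (.node (.node (.node (.leaf 88272498900) (.leaf 992736876582)) (.node (.leaf 197364355517) (.leaf 972972296188))) (.node (.node (.leaf 866346690297) (.leaf 680189924732)) (.node (.leaf 665603585370) (.leaf 899424073540))))) (.node (.node (.node (.node (.leaf 496926786605) (.leaf 404461871967)) (.node (.leaf 896123352892) (.leaf 154458640730))) (.node (.node (.leaf 226788659699) (.leaf 918627460986)) (.node (.leaf 788895204971) (.leaf 997121738798)))) (.node (.node (.node (.leaf 399500428118) (.leaf 783628629600)) (.node (.leaf 292975866495) (.leaf 476025975794))) (.node (.node (.leaf 1051188324511) (.leaf 482985964550)) (.node (.leaf 1035298486390) (.leaf 397305394003)))))) (.node (.node (.node (.node (.node (.leaf 998645319727) (.leaf 210327040466)) (.node (.leaf 241894224402) (.leaf 867672733438))) (.node (.node (.leaf 384251007795) (.leaf 608771376371)) (.node (.leaf 374924620576) (.leaf 925865990026)))) (.node (.node (.node (.leaf 782647703132) (.leaf 990351464485)) (.node (.leaf 566308156579) (.leaf 256616682024))) (.node (.node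 (.leaf 939961264037) (.leaf 908497684312)) (.node (.leaf 937250461602) (.leaf 185842864541))))) (.node (.node (.node (.node (.leaf 1073035851986) (.leaf 408435594085)) (.node (.leaf 76436082874) (.leaf 865767864056))) (.node (.node (.leaf 1059921164470) (.leaf 905909348180)) (.node (.leaf 1048561395865) (.leaf 521223124056)))) (.node (.node (.node (.leaf 1008782178371) (.leaf 387279483710)) (.node (.leaf 116977950991) (.leaf 383835665202))) (.node (.node (.leaf 454361281487) (.leaf 1085265389803)) (.node (.leaf 540513264756) (.leaf 0)))))))) (.node (.node (.node (.node (.node (.node (.node (.leaf 1037841537151) (.leaf 550583194753)) (.node (.leaf 163583512941) (.leaf 821846738603))) (.node (.node (.leaf 218701263333) (.leaf 192981766580)) (.node (.leaf 516779025489) (.leaf 1011462649925)))) (.node (.node (.node (.leaf 832224409271) (.leaf 875508733709)) (.node (.leaf 749110670873) (.leaf 94816747741))) (.node (.node (.leaf 807698855566) (.leaf 119848702228)) (.node (.leaf 863068251892) (.leaf 1028526557287))))) (.node (.node (.node (.node (.leaf 495257986090)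 (.leaf 233446314496)) (.node (.leaf 637528597814) (.leaf 713627477459))) (.node (.node (.leaf 212537197014) (.leaf 963999418341)) (.node (.leaf 664000882006) (.leaf 279795540570)))) (.node (.node (.node (.leaf 1071877810382) (.leaf 645745567042)) (.node (.leaf 105808363762) (.leaf 376936448803))) (.node (.node (.leaf 970469410805) (.leaf 439550448558)) (.node (.leaf 513265890380) (.leaf 1008748456003)))))) (.node (.node (.node (.node (.node (.leaf 114757144841) (.leaf 1082847291621)) (.node (.leaf 574712591545) (.leaf 205091119563))) (.node (.node (.leaf 213634351574) (.leaf 202326847942)) (.node (.leaf 708858914249) (.leaf 332321321672)))) (.node (.node (.node (.leaf 814577469087) (.leaf 142562193734)) (.node (.leaf 971990886393) (.leaf 195013083573))) (.node (.node (.leaf 278424896088) (.leaf 62772285590)) (.node (.leaf 710639494604) (.leaf 473420436456))))) (.node (.node (.node (.node (.leaf 799943263863) (.leaf 1070662596812)) (.node (.leaf 559014724755) (.leaf 270273339970))) (.node (.node (.leaf 1086102960363) (.leaf 616189420806)) (.node (.leaf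 516442362961) (.leaf 1034390534261)))) (.node (.node (.node (.leaf 795761276531) (.leaf 984599570454)) (.node (.leaf 99423068391) (.leaf 354734924533))) (.node (.node (.leaf 174370099590) (.leaf 392714199884)) (.node (.leaf 1045288691860) (.leaf 303983063687))))))) (.node (.node (.node (.node (.node (.node (.leaf 912178657125) (.leaf 661023733074)) (.node (.leaf 963081803746) (.leaf 666097136989))) (.node (.node (.leaf 1027849947235) (.leaf 947488032696)) (.node (.leaf 87602032852) (.leaf 259776000555)))) (.node (.node (.node (.leaf 375005578016) (.leaf 590404408533)) (.node (.leaf 979584071700) (.leaf 575504225465))) (.node (.node (.leaf 59455025292) (.leaf 761130661423)) (.node (.leaf 959132657627) (.leaf 423728530318))))) (.node (.node (.node (.node (.leaf 658759415120) (.leaf 752490518045)) (.node (.leaf 145634820429) (.leaf 132306338101))) (.node (.node (.leaf 84771664077) (.leaf 446357906366)) (.node (.leaf 1043532556432) (.leaf 187335614884)))) (.node (.node (.node (.leaf 69053452452) (.leaf 1044988455060)) (.node (.leaf 788214593128) (.leaf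 649981035845))) (.node (.node (.leaf 481672778757) (.leaf 503708529724)) (.node (.leaf 52429934715) (.leaf 342928523995)))))) (.node (.node (.node (.node (.node (.leaf 254029468196) (.leaf 921806985090)) (.node (.leaf 822481192619) (.leaf 789270120044))) (.node (.node (.leaf 1053667907749) (.leaf 474716328940)) (.node (.leaf 327498703548) (.leaf 95843311841)))) (.node (.node (.node (.leaf 1071430961358) (.leaf 343201157851)) (.node (.leaf 237861020166) (.leaf 771343386186))) (.node (.node (.leaf 861932123890) (.leaf 472566957030)) (.node (.leaf 927318194063) (.leaf 480234570753))))) (.node (.node (.node (.node (.leaf 942262863784) (.leaf 810609477272)) (.node (.leaf 537386959983) (.leaf 98563150053))) (.node (.node (.leaf 239232299532) (.leaf 95645630688)) (.node (.leaf 445788746685) (.leaf 66424762529)))) (.node (.node (.node (.leaf 21309935682) (.leaf 181803266452)) (.node (.leaf 396652643152) (.leaf 968849807343))) (.node (.node (.leaf 661749929298) (.leaf 230938325500)) (.node (.leaf 794107639410) (.leaf 0))))))))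

/-- Part of `hintAOne`. -/
def hintAOne_p1111 : Tr := .node (.node (.node (.node (.node (.node (.node (.node (.leaf 353410290416) (.leaf 296618181249)) (.node (.leaf 406664852321) (.leaf 664205931864))) (.node (.node (.leaf 864156493557) (.leaf 882345858842)) (.node (.leaf 203642331591) (.leaf 629648491813)))) (.node (.node (.node (.leaf 746024810006) (.leaf 350054429416)) (.node (.leaf 953179437007) (.leaf 556568802444))) (.node (.node (.leaf 265507922488) (.leaf 487441634323)) (.node (.leaf 710906627532) (.leaf 671135679844))))) (.node (.node (.node (.node (.leaf 844672136912) (.leaf 702326355392)) (.node (.leaf 175967502727) (.leaf 44127264881))) (.node (.node (.leaf 525959337052) (.leaf 56333713539)) (.node (.leaf 661540496722) (.leaf 382036775725)))) (.node (.node (.node (.leaf 99367145703) (.leaf 918115424120)) (.node (.leaf 1083545245926) (.leaf 688453326230))) (.node (.node (.leaf 207153967564) (.leaf 604727944426)) (.node (.leaf 680362853757) (.leaf 269513167425)))))) (.node (.node (.node (.node (.node (.leaf 1070341621964) (.leaf 741206275596))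 (.node (.leaf 956289959894) (.leaf 644534375743))) (.node (.node (.leaf 1073230473429) (.leaf 459976319955)) (.node (.leaf 963953231845) (.leaf 429334221724)))) (.node (.node (.node (.leaf 1055627696301) (.leaf 468019942369)) (.node (.leaf 318440608424) (.leaf 1042163710091))) (.node (.node (.leaf 550430299264) (.leaf 227627979252)) (.node (.leaf 171955896705) (.leaf 484406948876))))) (.node (.node (.node (.node (.leaf 998074091566) (.leaf 943477417901)) (.node (.leaf 279926764122) (.leaf 234248421889))) (.node (.node (.leaf 760393930285) (.leaf 4142194706)) (.node (.leaf 304642151048) (.leaf 929721022357)))) (.node (.node (.node (.leaf 18520109119) (.leaf 482212254726)) (.node (.leaf 91419922649) (.leaf 598630434014))) (.node (.node (.leaf 783312320096) (.leaf 155783938396)) (.node (.leaf 233869242881) (.leaf 660752635218))))))) (.node (.node (.node (.node (.node (.node (.leaf 874312369931) (.leaf 761432733231)) (.node (.leaf 858060383980) (.leaf 718428603865))) (.node (.node (.leaf 165843738995) (.leaf 77856395451)) (.node (.leaf 171211391360) (.leaf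 697833727410)))) (.node (.node (.node (.leaf 466197599198) (.leaf 416456762233)) (.node (.leaf 376992043811) (.leaf 369657647893))) (.node (.node (.leaf 129940283690) (.leaf 816455997090)) (.node (.leaf 719743444442) (.leaf 982519556118))))) (.node (.node (.node (.node (.leaf 926364493708) (.leaf 124626923808)) (.node (.leaf 278374883928) (.leaf 292288836222))) (.node (.node (.leaf 328644362943) (.leaf 525325583452)) (.node (.leaf 782774666844) (.leaf 169094943099)))) (.node (.node (.node (.leaf 6109900827) (.leaf 405881877344)) (.node (.leaf 244422496790) (.leaf 610748007671))) (.node (.node (.leaf 332602946248) (.leaf 519056192597)) (.node (.leaf 144747888972) (.leaf 375954432803)))))) (.node (.node (.node (.node (.node (.leaf 1036204640378) (.leaf 491192874011)) (.node (.leaf 424902030224) (.leaf 743725725200))) (.node (.node (.leaf 666885035357) (.leaf 269592400449)) (.node (.leaf 1011586959429) (.leaf 890701903663)))) (.node (.node (.node (.leaf 667014735198) (.leaf 168618393977)) (.node (.leaf 528137069661) (.leaf 535531938923))) (.node (.node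 (.leaf 1004872353850) (.leaf 894891358008)) (.node (.leaf 183980507547) (.leaf 1058019903665))))) (.node (.node (.node (.node (.leaf 178931614095) (.leaf 940556855205)) (.node (.leaf 208985539025) (.leaf 989602900005))) (.node (.node (.leaf 569261831336) (.leaf 377245000483)) (.node (.leaf 17501712444) (.leaf 751200024093)))) (.node (.node (.node (.leaf 998340073519) (.leaf 842079336138)) (.node (.leaf 366360683280) (.leaf 1051274225823))) (.node (.node (.leaf 381164487468) (.leaf 181431808404)) (.node (.leaf 868819425023) (.leaf 0)))))))) (.node (.node (.node (.node (.node (.node (.node (.leaf 931969492892) (.leaf 838548346563)) (.node (.leaf 965312870375) (.leaf 362904863497))) (.node (.node (.leaf 652911957320) (.leaf 252054323747)) (.node (.leaf 411007005550) (.leaf 226781045235)))) (.node (.node (.node (.leaf 475819652082) (.leaf 400139703126)) (.node (.leaf 239262069260) (.leaf 486187840528))) (.node (.node (.leaf 94380953821) (.leaf 158375043424)) (.node (.leaf 631984506155) (.leaf 455577637841))))) (.node (.node (.node (.node (.leaf 210813673940)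 (.leaf 929793607574)) (.node (.leaf 264417960499) (.leaf 1049566300317))) (.node (.node (.leaf 758635394602) (.leaf 482111194117)) (.node (.leaf 19876405313) (.leaf 636209083696)))) (.node (.node (.node (.leaf 892947601203) (.leaf 771751179853)) (.node (.leaf 536937423983) (.leaf 537306805359))) (.node (.node (.leaf 962101942240) (.leaf 44906520690)) (.node (.leaf 724868482531) (.leaf 499473994803)))))) (.node (.node (.node (.node (.node (.leaf 39479996515) (.leaf 597434504412)) (.node (.leaf 133321175350) (.leaf 107094077685))) (.node (.node (.leaf 352521110254) (.leaf 501606270009)) (.node (.leaf 571281953963) (.leaf 535715730539)))) (.node (.node (.node (.leaf 698390615475) (.leaf 181738017172)) (.node (.leaf 287988339315) (.leaf 897501439806))) (.node (.node (.leaf 16260780089) (.leaf 154614894938)) (.node (.leaf 672532739432) (.leaf 780885050970))))) (.node (.node (.node (.node (.leaf 58637983881) (.leaf 191389553072)) (.node (.leaf 329028121281) (.leaf 280816153180))) (.node (.node (.leaf 802103719550) (.leaf 824902985392)) (.node (.leaf 421350273924)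 (.leaf 388534379328)))) (.node (.node (.node (.leaf 72897188017) (.leaf 407732650853)) (.node (.leaf 755336906275) (.leaf 912669271911))) (.node (.node (.leaf 565395494048) (.leaf 506439431234)) (.node (.leaf 459857187795) (.leaf 0))))))) (.node (.node (.node (.node (.node (.node (.leaf 487326037011) (.leaf 810356471447)) (.node (.leaf 466642228190) (.leaf 702043157950))) (.node (.node (.leaf 990045288485) (.leaf 677823206774)) (.node (.leaf 187515015588) (.leaf 114547802377)))) (.node (.node (.node (.leaf 586088998094) (.leaf 429600576412)) (.node (.leaf 558042346640) (.leaf 133567516983))) (.node (.node (.leaf 1086900390125) (.leaf 892586821427)) (.node (.leaf 829348722356) (.leaf 645456639297))))) (.node (.node (.node (.node (.leaf 161691578728) (.leaf 1075465988315)) (.node (.leaf 995055237162) (.leaf 1098894653695))) (.node (.node (.leaf 285786657383) (.leaf 81799782598)) (.node (.leaf 840013420229) (.leaf 494234870820)))) (.node (.node (.node (.leaf 597672002782) (.leaf 35411230813)) (.node (.leaf 751351232029) (.leaf 742475494926))) (.node (.node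 (.leaf 432900416416) (.leaf 736286356987)) (.node (.leaf 851756099288) (.leaf 604081288424)))))) (.node (.node (.node (.node (.node (.leaf 519742641238) (.leaf 278278615640)) (.node (.leaf 264565748275) (.leaf 350032454376))) (.node (.node (.leaf 566024811683) (.leaf 232589816317)) (.node (.leaf 672741262696) (.leaf 912239949669)))) (.node (.node (.node (.leaf 177423040906) (.leaf 237443387909)) (.node (.leaf 945284265907) (.leaf 311835853466))) (.node (.node (.leaf 496067597355) (.leaf 307920523919)) (.node (.leaf 498733806642) (.leaf 317445878437))))) (.node (.node (.node (.node (.leaf 310713049751) (.leaf 866210948857)) (.node (.leaf 1002943735862) (.leaf 101115416810))) (.node (.node (.leaf 410739745645) (.leaf 117087854863)) (.node (.leaf 597925172446) (.leaf 468744192993)))) (.node (.node (.node (.leaf 5438951447) (.leaf 903472912208)) (.node (.leaf 220705706471) (.leaf 578954466497))) (.node (.node (.leaf 1003648206904) (.leaf 341994775259)) (.node (.leaf 113554424069) (.leaf 0))))))))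

/-- Second coordinates and positions for the centraliser of the element of order 29. -/
def hintAOne : Tr := (.node (.node (.node (.node hintAOne_p0000 hintAOne_p0001) (.node hintAOne_p0010 hintAOne_p0011)) (.node (.node hintAOne_p0100 hintAOne_p0101) (.node hintAOne_p0110 hintAOne_p0111))) (.node (.node (.node hintAOne_p1000 hintAOne_p1001) (.node hintAOne_p1010 hintAOne_p1011)) (.node (.node hintAOne_p1100 hintAOne_p1101) (.node hintAOne_p1110 hintAOne_p1111))))

/-- Part of `hintATwo`. -/
def hintATwo_p0000 : Tr := .node (.node (.node (.node (.node (.node (.node (.node (.leaf 16384) (.leaf 0)) (.node (.leaf 0) (.leaf 0))) (.node (.node (.leaf 0) (.leaf 0)) (.node (.leaf 0) (.leaf 0)))) (.node (.node (.node (.leaf 0) (.leaf 0)) (.node (.leaf 0) (.leaf 0))) (.node (.node (.leaf 0) (.leaf 0)) (.node (.leaf 0) (.leaf 0))))) (.node (.node (.node (.node (.leaf 0) (.leaf 0)) (.node (.leaf 0) (.leaf 0))) (.node (.node (.leaf 0) (.leaf 0)) (.node (.leaf 0) (.leaf 0)))) (.node (.node (.node (.leaf 0) (.leaf 0)) (.node (.leaf 0) (.leaf 0))) (.node (.node (.leaf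 0) (.leaf 0)) (.node (.leaf 0) (.leaf 0)))))) (.node (.node (.node (.node (.node (.leaf 0) (.leaf 0)) (.node (.leaf 0) (.leaf 0))) (.node (.node (.leaf 0) (.leaf 0)) (.node (.leaf 0) (.leaf 0)))) (.node (.node (.node (.leaf 0) (.leaf 0)) (.node (.leaf 0) (.leaf 0))) (.node (.node (.leaf 0) (.leaf 0)) (.node (.leaf 0) (.leaf 0))))) (.node (.node (.node (.node (.leaf 0) (.leaf 0)) (.node (.leaf 0) (.leaf 0))) (.node (.node (.leaf 0) (.leaf 0)) (.node (.leaf 0) (.leaf 0)))) (.node (.node (.node (.leaf 0) (.leaf 0)) (.node (.leaf 0) (.leaf 0))) (.node (.node (.leaf 0) (.leaf 0)) (.node (.leaf 0) (.leaf 0))))))) (.node (.node (.node (.node (.node (.node (.leaf 0) (.leaf 0)) (.node (.leaf 0) (.leaf 0))) (.node (.node (.leaf 0) (.leaf 0)) (.node (.leaf 0) (.leaf 0)))) (.node (.node (.node (.leaf 0) (.leaf 0)) (.node (.leaf 0) (.leaf 0))) (.node (.node (.leaf 0) (.leaf 0)) (.node (.leaf 0) (.leaf 0))))) (.node (.node (.node (.node (.leaf 0) (.leaf 0)) (.node (.leaf 0) (.leaf 0))) (.node (.node (.leaf 0) (.leaf 0)) (.node (.leaf 0) (.leaf 0)))) (.node (.node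 (.node (.leaf 0) (.leaf 0)) (.node (.leaf 0) (.leaf 0))) (.node (.node (.leaf 0) (.leaf 0)) (.node (.leaf 0) (.leaf 0)))))) (.node (.node (.node (.node (.node (.leaf 0) (.leaf 0)) (.node (.leaf 0) (.leaf 0))) (.node (.node (.leaf 0) (.leaf 0)) (.node (.leaf 0) (.leaf 0)))) (.node (.node (.node (.leaf 0) (.leaf 0)) (.node (.leaf 0) (.leaf 0))) (.node (.node (.leaf 0) (.leaf 128214872181)) (.node (.leaf 0) (.leaf 0))))) (.node (.node (.node (.node (.leaf 0) (.leaf 0)) (.node (.leaf 0) (.leaf 0))) (.node (.node (.leaf 0) (.leaf 0)) (.node (.leaf 0) (.leaf 0)))) (.node (.node (.node (.leaf 0) (.leaf 0)) (.node (.leaf 0) (.leaf 0))) (.node (.node (.leaf 0) (.leaf 0)) (.node (.leaf 0) (.leaf 0)))))))) (.node (.node (.node (.node (.node (.node (.node (.leaf 0) (.leaf 0)) (.node (.leaf 0) (.leaf 0))) (.node (.node (.leaf 0) (.leaf 0)) (.node (.leaf 0) (.leaf 0)))) (.node (.node (.node (.leaf 0) (.leaf 0)) (.node (.leaf 0) (.leaf 0))) (.node (.node (.leaf 0) (.leaf 0)) (.node (.leaf 0) (.leaf 0))))) (.node (.node (.node (.node (.leaf 0) (.leaf 0)) (.node (.leaf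 0) (.leaf 0))) (.node (.node (.leaf 0) (.leaf 0)) (.node (.leaf 0) (.leaf 0)))) (.node (.node (.node (.leaf 0) (.leaf 0)) (.node (.leaf 0) (.leaf 0))) (.node (.node (.leaf 0) (.leaf 0)) (.node (.leaf 0) (.leaf 0)))))) (.node (.node (.node (.node (.node (.leaf 0) (.leaf 0)) (.node (.leaf 0) (.leaf 0))) (.node (.node (.leaf 0) (.leaf 0)) (.node (.leaf 0) (.leaf 0)))) (.node (.node (.node (.leaf 0) (.leaf 0)) (.node (.leaf 0) (.leaf 0))) (.node (.node (.leaf 0) (.leaf 0)) (.node (.leaf 0) (.leaf 0))))) (.node (.node (.node (.node (.leaf 0) (.leaf 0)) (.node (.leaf 0) (.leaf 0))) (.node (.node (.leaf 0) (.leaf 0)) (.node (.leaf 0) (.leaf 0)))) (.node (.node (.node (.leaf 0) (.leaf 0)) (.node (.leaf 0) (.leaf 0))) (.node (.node (.leaf 0) (.leaf 0)) (.node (.leaf 0) (.leaf 0))))))) (.node (.node (.node (.node (.node (.node (.leaf 0) (.leaf 0)) (.node (.leaf 0) (.leaf 0))) (.node (.node (.leaf 0) (.leaf 0)) (.node (.leaf 0) (.leaf 0)))) (.node (.node (.node (.leaf 0) (.leaf 0)) (.node (.leaf 0) (.leaf 0))) (.node (.node (.leaf 0) (.leaf 0)) (.node (.leaf 0)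 (.leaf 0))))) (.node (.node (.node (.node (.leaf 0) (.leaf 0)) (.node (.leaf 0) (.leaf 0))) (.node (.node (.leaf 0) (.leaf 0)) (.node (.leaf 0) (.leaf 0)))) (.node (.node (.node (.leaf 0) (.leaf 0)) (.node (.leaf 0) (.leaf 0))) (.node (.node (.leaf 0) (.leaf 0)) (.node (.leaf 0) (.leaf 0)))))) (.node (.node (.node (.node (.node (.leaf 0) (.leaf 0)) (.node (.leaf 0) (.leaf 0))) (.node (.node (.leaf 0) (.leaf 0)) (.node (.leaf 0) (.leaf 0)))) (.node (.node (.node (.leaf 0) (.leaf 0)) (.node (.leaf 0) (.leaf 0))) (.node (.node (.leaf 0) (.leaf 0)) (.node (.leaf 0) (.leaf 0))))) (.node (.node (.node (.node (.leaf 0) (.leaf 0)) (.node (.leaf 0) (.leaf 0))) (.node (.node (.leaf 0) (.leaf 0)) (.node (.leaf 0) (.leaf 0)))) (.node (.node (.node (.leaf 0) (.leaf 0)) (.node (.leaf 0) (.leaf 133533077628))) (.node (.node (.leaf 0) (.leaf 0)) (.node (.leaf 0) (.leaf 0))))))))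

/-- Part of `hintATwo`. -/
def hintATwo_p0001 : Tr := .node (.node (.node (.node (.node (.node (.node (.node (.leaf 0) (.leaf 0)) (.node (.leaf 0) (.leaf 0))) (.node (.node (.leaf 0) (.leaf 0)) (.node (.leaf 0) (.leaf 0)))) (.node (.node (.node (.leaf 0) (.leaf 0)) (.node (.leaf 0) (.leaf 0))) (.node (.node (.leaf 0) (.leaf 0)) (.node (.leaf 0) (.leaf 0))))) (.node (.node (.node (.node (.leaf 0) (.leaf 0)) (.node (.leaf 0) (.leaf 0))) (.node (.node (.leaf 0) (.leaf 0)) (.node (.leaf 0) (.leaf 0)))) (.node (.node (.node (.leaf 0) (.leaf 0)) (.node (.leaf 0) (.leaf 0))) (.node (.node (.leaf 0) (.leaf 0)) (.node (.leaf 0) (.leaf 0)))))) (.node (.node (.node (.node (.node (.leaf 0) (.leaf 0)) (.node (.leaf 0) (.leaf 0))) (.node (.node (.leaf 0) (.leaf 0)) (.node (.leaf 0) (.leaf 0)))) (.node (.node (.node (.leaf 836813652699) (.leaf 0)) (.node (.leaf 0) (.leaf 0))) (.node (.node (.leaf 0) (.leaf 0)) (.node (.leaf 0) (.leaf 0))))) (.node (.node (.node (.node (.leaf 0) (.leaf 0)) (.node (.leaf 0) (.leaf 0))) (.node (.node (.leaf 0) (.leaf 0)) (.node (.leaf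 0) (.leaf 0)))) (.node (.node (.node (.leaf 0) (.leaf 0)) (.node (.leaf 0) (.leaf 0))) (.node (.node (.leaf 0) (.leaf 0)) (.node (.leaf 0) (.leaf 0))))))) (.node (.node (.node (.node (.node (.node (.leaf 0) (.leaf 0)) (.node (.leaf 0) (.leaf 0))) (.node (.node (.leaf 0) (.leaf 0)) (.node (.leaf 0) (.leaf 0)))) (.node (.node (.node (.leaf 0) (.leaf 0)) (.node (.leaf 0) (.leaf 0))) (.node (.node (.leaf 0) (.leaf 0)) (.node (.leaf 0) (.leaf 0))))) (.node (.node (.node (.node (.leaf 0) (.leaf 0)) (.node (.leaf 0) (.leaf 0))) (.node (.node (.leaf 0) (.leaf 0)) (.node (.leaf 0) (.leaf 0)))) (.node (.node (.node (.leaf 0) (.leaf 0)) (.node (.leaf 0) (.leaf 0))) (.node (.node (.leaf 0) (.leaf 0)) (.node (.leaf 0) (.leaf 0)))))) (.node (.node (.node (.node (.node (.leaf 0) (.leaf 0)) (.node (.leaf 0) (.leaf 0))) (.node (.node (.leaf 0) (.leaf 0)) (.node (.leaf 0) (.leaf 0)))) (.node (.node (.node (.leaf 0) (.leaf 0)) (.node (.leaf 0) (.leaf 0))) (.node (.node (.leaf 0) (.leaf 0)) (.node (.leaf 0) (.leaf 0))))) (.node (.node (.node (.node (.leaf 0) (.leaf 0))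 (.node (.leaf 0) (.leaf 0))) (.node (.node (.leaf 0) (.leaf 0)) (.node (.leaf 0) (.leaf 0)))) (.node (.node (.node (.leaf 0) (.leaf 0)) (.node (.leaf 0) (.leaf 0))) (.node (.node (.leaf 0) (.leaf 0)) (.node (.leaf 0) (.leaf 0)))))))) (.node (.node (.node (.node (.node (.node (.node (.leaf 0) (.leaf 0)) (.node (.leaf 0) (.leaf 0))) (.node (.node (.leaf 0) (.leaf 0)) (.node (.leaf 0) (.leaf 0)))) (.node (.node (.node (.leaf 0) (.leaf 0)) (.node (.leaf 0) (.leaf 0))) (.node (.node (.leaf 0) (.leaf 0)) (.node (.leaf 0) (.leaf 0))))) (.node (.node (.node (.node (.leaf 0) (.leaf 0)) (.node (.leaf 0) (.leaf 0))) (.node (.node (.leaf 0) (.leaf 0)) (.node (.leaf 0) (.leaf 0)))) (.node (.node (.node (.leaf 0) (.leaf 0)) (.node (.leaf 0) (.leaf 0))) (.node (.node (.leaf 0) (.leaf 0)) (.node (.leaf 0) (.leaf 0)))))) (.node (.node (.node (.node (.node (.leaf 0) (.leaf 0)) (.node (.leaf 0) (.leaf 0))) (.node (.node (.leaf 0) (.leaf 0)) (.node (.leaf 0) (.leaf 0)))) (.node (.node (.node (.leaf 0) (.leaf 0)) (.node (.leaf 0) (.leaf 0))) (.node (.node (.leaf 0) (.leaf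 0)) (.node (.leaf 0) (.leaf 0))))) (.node (.node (.node (.node (.leaf 0) (.leaf 0)) (.node (.leaf 0) (.leaf 0))) (.node (.node (.leaf 0) (.leaf 0)) (.node (.leaf 0) (.leaf 0)))) (.node (.node (.node (.leaf 0) (.leaf 0)) (.node (.leaf 0) (.leaf 0))) (.node (.node (.leaf 0) (.leaf 0)) (.node (.leaf 0) (.leaf 0))))))) (.node (.node (.node (.node (.node (.node (.leaf 0) (.leaf 0)) (.node (.leaf 0) (.leaf 0))) (.node (.node (.leaf 0) (.leaf 0)) (.node (.leaf 0) (.leaf 0)))) (.node (.node (.node (.leaf 0) (.leaf 0)) (.node (.leaf 0) (.leaf 0))) (.node (.node (.leaf 0) (.leaf 0)) (.node (.leaf 0) (.leaf 0))))) (.node (.node (.node (.node (.leaf 0) (.leaf 0)) (.node (.leaf 0) (.leaf 0))) (.node (.node (.leaf 0) (.leaf 0)) (.node (.leaf 0) (.leaf 0)))) (.node (.node (.node (.leaf 0) (.leaf 0)) (.node (.leaf 0) (.leaf 0))) (.node (.node (.leaf 0) (.leaf 0)) (.node (.leaf 0) (.leaf 0)))))) (.node (.node (.node (.node (.node (.leaf 0) (.leaf 0)) (.node (.leaf 0) (.leaf 0))) (.node (.node (.leaf 0) (.leaf 0)) (.node (.leaf 0) (.leaf 0)))) (.node (.node (.node (.leaf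 0) (.leaf 0)) (.node (.leaf 0) (.leaf 0))) (.node (.node (.leaf 0) (.leaf 0)) (.node (.leaf 0) (.leaf 0))))) (.node (.node (.node (.node (.leaf 0) (.leaf 0)) (.node (.leaf 0) (.leaf 0))) (.node (.node (.leaf 0) (.leaf 0)) (.node (.leaf 0) (.leaf 0)))) (.node (.node (.node (.leaf 0) (.leaf 0)) (.node (.leaf 0) (.leaf 0))) (.node (.node (.leaf 0) (.leaf 0)) (.node (.leaf 0) (.leaf 0))))))))

/-- Part of `hintATwo`. -/
def hintATwo_p0010 : Tr := .node (.node (.node (.node (.node (.node (.node (.node (.leaf 0) (.leaf 0)) (.node (.leaf 0) (.leaf 0))) (.node (.node (.leaf 0) (.leaf 0)) (.node (.leaf 0) (.leaf 0)))) (.node (.node (.node (.leaf 0) (.leaf 0)) (.node (.leaf 0) (.leaf 0))) (.node (.node (.leaf 0) (.leaf 0)) (.node (.leaf 0) (.leaf 0))))) (.node (.node (.node (.node (.leaf 0) (.leaf 0)) (.node (.leaf 0) (.leaf 0))) (.node (.node (.leaf 0) (.leaf 0)) (.node (.leaf 0) (.leaf 0)))) (.node (.node (.node (.leaf 0) (.leaf 0)) (.node (.leaf 0) (.leaf 0))) (.node (.node (.leaf 0) (.leaf 0)) (.node (.leaf 0) (.leaf 0)))))) (.node (.node (.node (.node (.node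 (.leaf 0) (.leaf 0)) (.node (.leaf 0) (.leaf 0))) (.node (.node (.leaf 0) (.leaf 0)) (.node (.leaf 0) (.leaf 0)))) (.node (.node (.node (.leaf 0) (.leaf 0)) (.node (.leaf 0) (.leaf 0))) (.node (.node (.leaf 0) (.leaf 0)) (.node (.leaf 0) (.leaf 0))))) (.node (.node (.node (.node (.leaf 0) (.leaf 0)) (.node (.leaf 0) (.leaf 0))) (.node (.node (.leaf 0) (.leaf 0)) (.node (.leaf 0) (.leaf 0)))) (.node (.node (.node (.leaf 0) (.leaf 1026870604695)) (.node (.leaf 0) (.leaf 0))) (.node (.node (.leaf 0) (.leaf 0)) (.node (.leaf 0) (.leaf 0))))))) (.node (.node (.node (.node (.node (.node (.leaf 0) (.leaf 0)) (.node (.leaf 0) (.leaf 0))) (.node (.node (.leaf 0) (.leaf 0)) (.node (.leaf 0) (.leaf 0)))) (.node (.node (.node (.leaf 0) (.leaf 0)) (.node (.leaf 0) (.leaf 0))) (.node (.node (.leaf 0) (.leaf 0)) (.node (.leaf 0) (.leaf 0))))) (.node (.node (.node (.node (.leaf 0) (.leaf 0)) (.node (.leaf 0) (.leaf 0))) (.node (.node (.leaf 0) (.leaf 0)) (.node (.leaf 0) (.leaf 0)))) (.node (.node (.node (.leaf 0) (.leaf 0)) (.node (.leaf 0) (.leaf 0))) (.node (.node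 (.leaf 0) (.leaf 0)) (.node (.leaf 0) (.leaf 0)))))) (.node (.node (.node (.node (.node (.leaf 0) (.leaf 0)) (.node (.leaf 0) (.leaf 0))) (.node (.node (.leaf 0) (.leaf 0)) (.node (.leaf 0) (.leaf 0)))) (.node (.node (.node (.leaf 0) (.leaf 0)) (.node (.leaf 0) (.leaf 0))) (.node (.node (.leaf 0) (.leaf 0)) (.node (.leaf 0) (.leaf 0))))) (.node (.node (.node (.node (.leaf 0) (.leaf 0)) (.node (.leaf 0) (.leaf 0))) (.node (.node (.leaf 0) (.leaf 0)) (.node (.leaf 0) (.leaf 0)))) (.node (.node (.node (.leaf 0) (.leaf 0)) (.node (.leaf 0) (.leaf 0))) (.node (.node (.leaf 0) (.leaf 0)) (.node (.leaf 0) (.leaf 0)))))))) (.node (.node (.node (.node (.node (.node (.node (.leaf 0) (.leaf 0)) (.node (.leaf 0) (.leaf 0))) (.node (.node (.leaf 0) (.leaf 0)) (.node (.leaf 0) (.leaf 0)))) (.node (.node (.node (.leaf 0) (.leaf 0)) (.node (.leaf 0) (.leaf 0))) (.node (.node (.leaf 0) (.leaf 0)) (.node (.leaf 0) (.leaf 0))))) (.node (.node (.node (.node (.leaf 0) (.leaf 0)) (.node (.leaf 0) (.leaf 0))) (.node (.node (.leaf 0) (.leaf 0)) (.node (.leaf 0) (.leaf 0))))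 (.node (.node (.node (.leaf 0) (.leaf 0)) (.node (.leaf 0) (.leaf 0))) (.node (.node (.leaf 0) (.leaf 0)) (.node (.leaf 0) (.leaf 0)))))) (.node (.node (.node (.node (.node (.leaf 0) (.leaf 0)) (.node (.leaf 0) (.leaf 0))) (.node (.node (.leaf 0) (.leaf 0)) (.node (.leaf 0) (.leaf 0)))) (.node (.node (.node (.leaf 0) (.leaf 0)) (.node (.leaf 0) (.leaf 0))) (.node (.node (.leaf 0) (.leaf 0)) (.node (.leaf 0) (.leaf 0))))) (.node (.node (.node (.node (.leaf 0) (.leaf 0)) (.node (.leaf 0) (.leaf 0))) (.node (.node (.leaf 0) (.leaf 0)) (.node (.leaf 0) (.leaf 0)))) (.node (.node (.node (.leaf 0) (.leaf 0)) (.node (.leaf 0) (.leaf 0))) (.node (.node (.leaf 0) (.leaf 0)) (.node (.leaf 0) (.leaf 0))))))) (.node (.node (.node (.node (.node (.node (.leaf 0) (.leaf 0)) (.node (.leaf 0) (.leaf 0))) (.node (.node (.leaf 0) (.leaf 0)) (.node (.leaf 0) (.leaf 0)))) (.node (.node (.node (.leaf 0) (.leaf 0)) (.node (.leaf 0) (.leaf 0))) (.node (.node (.leaf 0) (.leaf 0)) (.node (.leaf 0) (.leaf 0))))) (.node (.node (.node (.node (.leaf 0) (.leaf 0)) (.node (.leaf 0)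 (.leaf 0))) (.node (.node (.leaf 0) (.leaf 0)) (.node (.leaf 0) (.leaf 0)))) (.node (.node (.node (.leaf 0) (.leaf 0)) (.node (.leaf 0) (.leaf 0))) (.node (.node (.leaf 0) (.leaf 0)) (.node (.leaf 0) (.leaf 0)))))) (.node (.node (.node (.node (.node (.leaf 0) (.leaf 0)) (.node (.leaf 0) (.leaf 0))) (.node (.node (.leaf 0) (.leaf 0)) (.node (.leaf 0) (.leaf 0)))) (.node (.node (.node (.leaf 0) (.leaf 0)) (.node (.leaf 0) (.leaf 0))) (.node (.node (.leaf 0) (.leaf 0)) (.node (.leaf 1075658011577) (.leaf 0))))) (.node (.node (.node (.node (.leaf 0) (.leaf 0)) (.node (.leaf 0) (.leaf 0))) (.node (.node (.leaf 0) (.leaf 0)) (.node (.leaf 0) (.leaf 0)))) (.node (.node (.node (.leaf 0) (.leaf 0)) (.node (.leaf 0) (.leaf 0))) (.node (.node (.leaf 0) (.leaf 0)) (.node (.leaf 0) (.leaf 0))))))))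

/-- Part of `hintATwo`. -/
def hintATwo_p0011 : Tr := .node (.node (.node (.node (.node (.node (.node (.node (.leaf 0) (.leaf 0)) (.node (.leaf 0) (.leaf 0))) (.node (.node (.leaf 0) (.leaf 0)) (.node (.leaf 0) (.leaf 0)))) (.node (.node (.node (.leaf 0) (.leaf 0)) (.node (.leaf 0) (.leaf 0))) (.node (.node (.leaf 0) (.leaf 0)) (.node (.leaf 0) (.leaf 0))))) (.node (.node (.node (.node (.leaf 0) (.leaf 0)) (.node (.leaf 0) (.leaf 0))) (.node (.node (.leaf 0) (.leaf 0)) (.node (.leaf 0) (.leaf 0)))) (.node (.node (.node (.leaf 0) (.leaf 0)) (.node (.leaf 64096391223) (.leaf 0))) (.node (.node (.leaf 0) (.leaf 0)) (.node (.leaf 0) (.leaf 0)))))) (.node (.node (.node (.node (.node (.leaf 0) (.leaf 0)) (.node (.leaf 0) (.leaf 0))) (.node (.node (.leaf 0) (.leaf 0)) (.node (.leaf 0) (.leaf 0)))) (.node (.node (.node (.leaf 0) (.leaf 270147514604)) (.node (.leaf 0) (.leaf 0))) (.node (.node (.leaf 0) (.leaf 0)) (.node (.leaf 0) (.leaf 0))))) (.node (.node (.node (.node (.leaf 0) (.leaf 0)) (.node (.leaf 0) (.leaf 0))) (.node (.node (.leaf 0) (.leaf 0)) (.node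 (.leaf 0) (.leaf 0)))) (.node (.node (.node (.leaf 0) (.leaf 0)) (.node (.leaf 0) (.leaf 0))) (.node (.node (.leaf 0) (.leaf 0)) (.node (.leaf 0) (.leaf 0))))))) (.node (.node (.node (.node (.node (.node (.leaf 0) (.leaf 0)) (.node (.leaf 0) (.leaf 0))) (.node (.node (.leaf 0) (.leaf 0)) (.node (.leaf 0) (.leaf 0)))) (.node (.node (.node (.leaf 0) (.leaf 0)) (.node (.leaf 824987222735) (.leaf 0))) (.node (.node (.leaf 909318026012) (.leaf 0)) (.node (.leaf 0) (.leaf 0))))) (.node (.node (.node (.node (.leaf 0) (.leaf 0)) (.node (.leaf 0) (.leaf 0))) (.node (.node (.leaf 0) (.leaf 0)) (.node (.leaf 0) (.leaf 0)))) (.node (.node (.node (.leaf 0) (.leaf 0)) (.node (.leaf 0) (.leaf 0))) (.node (.node (.leaf 0) (.leaf 0)) (.node (.leaf 0) (.leaf 0)))))) (.node (.node (.node (.node (.node (.leaf 0) (.leaf 0)) (.node (.leaf 0) (.leaf 0))) (.node (.node (.leaf 0) (.leaf 0)) (.node (.leaf 0) (.leaf 0)))) (.node (.node (.node (.leaf 0) (.leaf 0)) (.node (.leaf 0) (.leaf 0))) (.node (.node (.leaf 0) (.leaf 0)) (.node (.leaf 0) (.leaf 0))))) (.node (.node (.node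 (.node (.leaf 0) (.leaf 0)) (.node (.leaf 0) (.leaf 0))) (.node (.node (.leaf 0) (.leaf 0)) (.node (.leaf 0) (.leaf 0)))) (.node (.node (.node (.leaf 0) (.leaf 0)) (.node (.leaf 0) (.leaf 0))) (.node (.node (.leaf 0) (.leaf 0)) (.node (.leaf 0) (.leaf 0)))))))) (.node (.node (.node (.node (.node (.node (.node (.leaf 0) (.leaf 0)) (.node (.leaf 0) (.leaf 0))) (.node (.node (.leaf 0) (.leaf 0)) (.node (.leaf 0) (.leaf 0)))) (.node (.node (.node (.leaf 0) (.leaf 0)) (.node (.leaf 0) (.leaf 0))) (.node (.node (.leaf 0) (.leaf 0)) (.node (.leaf 0) (.leaf 0))))) (.node (.node (.node (.node (.leaf 0) (.leaf 0)) (.node (.leaf 0) (.leaf 0))) (.node (.node (.leaf 0) (.leaf 0)) (.node (.leaf 0) (.leaf 0)))) (.node (.node (.node (.leaf 0) (.leaf 0)) (.node (.leaf 0) (.leaf 0))) (.node (.node (.leaf 0) (.leaf 0)) (.node (.leaf 0) (.leaf 0)))))) (.node (.node (.node (.node (.node (.leaf 0) (.leaf 0)) (.node (.leaf 0) (.leaf 0))) (.node (.node (.leaf 0) (.leaf 0)) (.node (.leaf 0) (.leaf 0)))) (.node (.node (.node (.leaf 0) (.leaf 0)) (.node (.leaf 0) (.leaf 0)))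 (.node (.node (.leaf 0) (.leaf 0)) (.node (.leaf 0) (.leaf 0))))) (.node (.node (.node (.node (.leaf 0) (.leaf 0)) (.node (.leaf 0) (.leaf 0))) (.node (.node (.leaf 0) (.leaf 0)) (.node (.leaf 0) (.leaf 0)))) (.node (.node (.node (.leaf 0) (.leaf 0)) (.node (.leaf 0) (.leaf 0))) (.node (.node (.leaf 0) (.leaf 0)) (.node (.leaf 0) (.leaf 0))))))) (.node (.node (.node (.node (.node (.node (.leaf 0) (.leaf 0)) (.node (.leaf 0) (.leaf 0))) (.node (.node (.leaf 0) (.leaf 0)) (.node (.leaf 0) (.leaf 0)))) (.node (.node (.node (.leaf 0) (.leaf 0)) (.node (.leaf 0) (.leaf 0))) (.node (.node (.leaf 0) (.leaf 0)) (.node (.leaf 0) (.leaf 0))))) (.node (.node (.node (.node (.leaf 0) (.leaf 0)) (.node (.leaf 0) (.leaf 0))) (.node (.node (.leaf 0) (.leaf 0)) (.node (.leaf 0) (.leaf 0)))) (.node (.node (.node (.leaf 0) (.leaf 0)) (.node (.leaf 0) (.leaf 0))) (.node (.node (.leaf 0) (.leaf 0)) (.node (.leaf 0) (.leaf 0)))))) (.node (.node (.node (.node (.node (.leaf 0) (.leaf 0)) (.node (.leaf 0) (.leaf 0))) (.node (.node (.leaf 0) (.leaf 0)) (.node (.leaf 0) (.leaf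 0)))) (.node (.node (.node (.leaf 0) (.leaf 0)) (.node (.leaf 0) (.leaf 908696949530))) (.node (.node (.leaf 0) (.leaf 0)) (.node (.leaf 0) (.leaf 0))))) (.node (.node (.node (.node (.leaf 0) (.leaf 0)) (.node (.leaf 0) (.leaf 0))) (.node (.node (.leaf 0) (.leaf 0)) (.node (.leaf 0) (.leaf 0)))) (.node (.node (.node (.leaf 0) (.leaf 0)) (.node (.leaf 0) (.leaf 0))) (.node (.node (.leaf 0) (.leaf 0)) (.node (.leaf 0) (.leaf 0))))))))

/-- Part of `hintATwo`. -/
def hintATwo_p0100 : Tr := .node (.node (.node (.node (.node (.node (.node (.node (.leaf 0) (.leaf 0)) (.node (.leaf 0) (.leaf 0))) (.node (.node (.leaf 0) (.leaf 0)) (.node (.leaf 0) (.leaf 0)))) (.node (.node (.node (.leaf 0) (.leaf 0)) (.node (.leaf 0) (.leaf 0))) (.node (.node (.leaf 0) (.leaf 0)) (.node (.leaf 0) (.leaf 0))))) (.node (.node (.node (.node (.leaf 0) (.leaf 0)) (.node (.leaf 0) (.leaf 0))) (.node (.node (.leaf 0) (.leaf 0)) (.node (.leaf 0) (.leaf 0)))) (.node (.node (.node (.leaf 0) (.leaf 0)) (.node (.leaf 0) (.leaf 0))) (.node (.node (.leaf 0) (.leaf 0)) (.node (.leaf 0)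 (.leaf 0)))))) (.node (.node (.node (.node (.node (.leaf 0) (.leaf 0)) (.node (.leaf 0) (.leaf 0))) (.node (.node (.leaf 0) (.leaf 0)) (.node (.leaf 0) (.leaf 0)))) (.node (.node (.node (.leaf 0) (.leaf 0)) (.node (.leaf 0) (.leaf 0))) (.node (.node (.leaf 0) (.leaf 0)) (.node (.leaf 0) (.leaf 0))))) (.node (.node (.node (.node (.leaf 0) (.leaf 0)) (.node (.leaf 0) (.leaf 0))) (.node (.node (.leaf 0) (.leaf 0)) (.node (.leaf 0) (.leaf 0)))) (.node (.node (.node (.leaf 0) (.leaf 0)) (.node (.leaf 0) (.leaf 0))) (.node (.node (.leaf 973581558621) (.leaf 0)) (.node (.leaf 0) (.leaf 0))))))) (.node (.node (.node (.node (.node (.node (.leaf 0) (.leaf 0)) (.node (.leaf 0) (.leaf 0))) (.node (.node (.leaf 0) (.leaf 0)) (.node (.leaf 0) (.leaf 0)))) (.node (.node (.node (.leaf 0) (.leaf 0)) (.node (.leaf 0) (.leaf 0))) (.node (.node (.leaf 0) (.leaf 0)) (.node (.leaf 0) (.leaf 0))))) (.node (.node (.node (.node (.leaf 0) (.leaf 0)) (.node (.leaf 0) (.leaf 0))) (.node (.node (.leaf 0) (.leaf 0)) (.node (.leaf 0) (.leaf 0)))) (.node (.node (.node (.leaf 0) (.leaf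 0)) (.node (.leaf 0) (.leaf 0))) (.node (.node (.leaf 0) (.leaf 0)) (.node (.leaf 0) (.leaf 0)))))) (.node (.node (.node (.node (.node (.leaf 0) (.leaf 0)) (.node (.leaf 0) (.leaf 0))) (.node (.node (.leaf 0) (.leaf 0)) (.node (.leaf 0) (.leaf 0)))) (.node (.node (.node (.leaf 0) (.leaf 0)) (.node (.leaf 0) (.leaf 0))) (.node (.node (.leaf 0) (.leaf 0)) (.node (.leaf 0) (.leaf 0))))) (.node (.node (.node (.node (.leaf 0) (.leaf 0)) (.node (.leaf 0) (.leaf 0))) (.node (.node (.leaf 0) (.leaf 0)) (.node (.leaf 0) (.leaf 0)))) (.node (.node (.node (.leaf 0) (.leaf 0)) (.node (.leaf 0) (.leaf 0))) (.node (.node (.leaf 0) (.leaf 0)) (.node (.leaf 0) (.leaf 0)))))))) (.node (.node (.node (.node (.node (.node (.node (.leaf 0) (.leaf 0)) (.node (.leaf 0) (.leaf 0))) (.node (.node (.leaf 0) (.leaf 0)) (.node (.leaf 0) (.leaf 0)))) (.node (.node (.node (.leaf 0) (.leaf 0)) (.node (.leaf 0) (.leaf 0))) (.node (.node (.leaf 0) (.leaf 0)) (.node (.leaf 0) (.leaf 0))))) (.node (.node (.node (.node (.leaf 0) (.leaf 0)) (.node (.leaf 0) (.leaf 0))) (.node (.node (.leaf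 0) (.leaf 0)) (.node (.leaf 0) (.leaf 0)))) (.node (.node (.node (.leaf 0) (.leaf 0)) (.node (.leaf 0) (.leaf 0))) (.node (.node (.leaf 0) (.leaf 0)) (.node (.leaf 0) (.leaf 0)))))) (.node (.node (.node (.node (.node (.leaf 0) (.leaf 0)) (.node (.leaf 0) (.leaf 0))) (.node (.node (.leaf 0) (.leaf 0)) (.node (.leaf 0) (.leaf 0)))) (.node (.node (.node (.leaf 0) (.leaf 0)) (.node (.leaf 0) (.leaf 0))) (.node (.node (.leaf 0) (.leaf 0)) (.node (.leaf 0) (.leaf 0))))) (.node (.node (.node (.node (.leaf 0) (.leaf 0)) (.node (.leaf 0) (.leaf 0))) (.node (.node (.leaf 0) (.leaf 0)) (.node (.leaf 0) (.leaf 0)))) (.node (.node (.node (.leaf 0) (.leaf 0)) (.node (.leaf 0) (.leaf 0))) (.node (.node (.leaf 0) (.leaf 0)) (.node (.leaf 0) (.leaf 0))))))) (.node (.node (.node (.node (.node (.node (.leaf 0) (.leaf 0)) (.node (.leaf 0) (.leaf 0))) (.node (.node (.leaf 0) (.leaf 0)) (.node (.leaf 0) (.leaf 0)))) (.node (.node (.node (.leaf 0) (.leaf 0)) (.node (.leaf 0) (.leaf 0))) (.node (.node (.leaf 0) (.leaf 0)) (.node (.leaf 0) (.leaf 0))))) (.node (.node (.node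 (.node (.leaf 0) (.leaf 0)) (.node (.leaf 0) (.leaf 0))) (.node (.node (.leaf 0) (.leaf 0)) (.node (.leaf 0) (.leaf 0)))) (.node (.node (.node (.leaf 0) (.leaf 0)) (.node (.leaf 0) (.leaf 0))) (.node (.node (.leaf 0) (.leaf 0)) (.node (.leaf 0) (.leaf 0)))))) (.node (.node (.node (.node (.node (.leaf 0) (.leaf 0)) (.node (.leaf 0) (.leaf 0))) (.node (.node (.leaf 0) (.leaf 0)) (.node (.leaf 0) (.leaf 0)))) (.node (.node (.node (.leaf 0) (.leaf 0)) (.node (.leaf 0) (.leaf 0))) (.node (.node (.leaf 0) (.leaf 0)) (.node (.leaf 0) (.leaf 0))))) (.node (.node (.node (.node (.leaf 0) (.leaf 0)) (.node (.leaf 0) (.leaf 0))) (.node (.node (.leaf 0) (.leaf 0)) (.node (.leaf 0) (.leaf 0)))) (.node (.node (.node (.leaf 0) (.leaf 0)) (.node (.leaf 0) (.leaf 0))) (.node (.node (.leaf 231637967048) (.leaf 0)) (.node (.leaf 0) (.leaf 0))))))))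

/-- Part of `hintATwo`. -/
def hintATwo_p0101 : Tr := .node (.node (.node (.node (.node (.node (.node (.node (.leaf 0) (.leaf 0)) (.node (.leaf 0) (.leaf 0))) (.node (.node (.leaf 0) (.leaf 0)) (.node (.leaf 0) (.leaf 0)))) (.node (.node (.node (.leaf 0) (.leaf 0)) (.node (.leaf 0) (.leaf 0))) (.node (.node (.leaf 0) (.leaf 0)) (.node (.leaf 0) (.leaf 0))))) (.node (.node (.node (.node (.leaf 0) (.leaf 0)) (.node (.leaf 0) (.leaf 0))) (.node (.node (.leaf 0) (.leaf 0)) (.node (.leaf 0) (.leaf 0)))) (.node (.node (.node (.leaf 0) (.leaf 0)) (.node (.leaf 0) (.leaf 0))) (.node (.node (.leaf 0) (.leaf 1017285657477)) (.node (.leaf 0) (.leaf 0)))))) (.node (.node (.node (.node (.node (.leaf 0) (.leaf 0)) (.node (.leaf 0) (.leaf 0))) (.node (.node (.leaf 0) (.leaf 0)) (.node (.leaf 0) (.leaf 0)))) (.node (.node (.node (.leaf 0) (.leaf 0)) (.node (.leaf 0) (.leaf 0))) (.node (.node (.leaf 0) (.leaf 0)) (.node (.leaf 0) (.leaf 0))))) (.node (.node (.node (.node (.leaf 0) (.leaf 0)) (.node (.leaf 0) (.leaf 0))) (.node (.node (.leaf 0) (.leaf 0)) (.node (.leaf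 0) (.leaf 0)))) (.node (.node (.node (.leaf 0) (.leaf 0)) (.node (.leaf 0) (.leaf 0))) (.node (.node (.leaf 0) (.leaf 0)) (.node (.leaf 0) (.leaf 0))))))) (.node (.node (.node (.node (.node (.node (.leaf 0) (.leaf 0)) (.node (.leaf 0) (.leaf 0))) (.node (.node (.leaf 0) (.leaf 0)) (.node (.leaf 0) (.leaf 0)))) (.node (.node (.node (.leaf 0) (.leaf 0)) (.node (.leaf 0) (.leaf 0))) (.node (.node (.leaf 0) (.leaf 0)) (.node (.leaf 0) (.leaf 0))))) (.node (.node (.node (.node (.leaf 0) (.leaf 0)) (.node (.leaf 0) (.leaf 0))) (.node (.node (.leaf 0) (.leaf 0)) (.node (.leaf 0) (.leaf 0)))) (.node (.node (.node (.leaf 0) (.leaf 0)) (.node (.leaf 0) (.leaf 0))) (.node (.node (.leaf 0) (.leaf 0)) (.node (.leaf 0) (.leaf 0)))))) (.node (.node (.node (.node (.node (.leaf 0) (.leaf 0)) (.node (.leaf 0) (.leaf 0))) (.node (.node (.leaf 0) (.leaf 0)) (.node (.leaf 0) (.leaf 0)))) (.node (.node (.node (.leaf 0) (.leaf 0)) (.node (.leaf 0) (.leaf 0))) (.node (.node (.leaf 0) (.leaf 0)) (.node (.leaf 0) (.leaf 0))))) (.node (.node (.node (.node (.leaf 0) (.leaf 0))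 (.node (.leaf 0) (.leaf 0))) (.node (.node (.leaf 0) (.leaf 0)) (.node (.leaf 0) (.leaf 0)))) (.node (.node (.node (.leaf 0) (.leaf 0)) (.node (.leaf 0) (.leaf 0))) (.node (.node (.leaf 0) (.leaf 0)) (.node (.leaf 0) (.leaf 0)))))))) (.node (.node (.node (.node (.node (.node (.node (.leaf 0) (.leaf 0)) (.node (.leaf 0) (.leaf 0))) (.node (.node (.leaf 0) (.leaf 0)) (.node (.leaf 0) (.leaf 0)))) (.node (.node (.node (.leaf 0) (.leaf 0)) (.node (.leaf 0) (.leaf 0))) (.node (.node (.leaf 0) (.leaf 0)) (.node (.leaf 0) (.leaf 0))))) (.node (.node (.node (.node (.leaf 0) (.leaf 0)) (.node (.leaf 0) (.leaf 0))) (.node (.node (.leaf 0) (.leaf 0)) (.node (.leaf 0) (.leaf 0)))) (.node (.node (.node (.leaf 0) (.leaf 0)) (.node (.leaf 0) (.leaf 0))) (.node (.node (.leaf 0) (.leaf 0)) (.node (.leaf 0) (.leaf 0)))))) (.node (.node (.node (.node (.node (.leaf 0) (.leaf 0)) (.node (.leaf 0) (.leaf 0))) (.node (.node (.leaf 0) (.leaf 0)) (.node (.leaf 0) (.leaf 0)))) (.node (.node (.node (.leaf 0) (.leaf 0)) (.node (.leaf 0) (.leaf 0))) (.node (.node (.leaf 0) (.leaf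 0)) (.node (.leaf 0) (.leaf 0))))) (.node (.node (.node (.node (.leaf 0) (.leaf 0)) (.node (.leaf 0) (.leaf 0))) (.node (.node (.leaf 0) (.leaf 0)) (.node (.leaf 0) (.leaf 0)))) (.node (.node (.node (.leaf 0) (.leaf 0)) (.node (.leaf 0) (.leaf 0))) (.node (.node (.leaf 0) (.leaf 0)) (.node (.leaf 0) (.leaf 0))))))) (.node (.node (.node (.node (.node (.node (.leaf 0) (.leaf 0)) (.node (.leaf 0) (.leaf 0))) (.node (.node (.leaf 0) (.leaf 0)) (.node (.leaf 0) (.leaf 0)))) (.node (.node (.node (.leaf 0) (.leaf 0)) (.node (.leaf 0) (.leaf 0))) (.node (.node (.leaf 0) (.leaf 0)) (.node (.leaf 0) (.leaf 0))))) (.node (.node (.node (.node (.leaf 0) (.leaf 0)) (.node (.leaf 0) (.leaf 0))) (.node (.node (.leaf 0) (.leaf 0)) (.node (.leaf 0) (.leaf 0)))) (.node (.node (.node (.leaf 0) (.leaf 0)) (.node (.leaf 0) (.leaf 0))) (.node (.node (.leaf 0) (.leaf 0)) (.node (.leaf 389076791633) (.leaf 0)))))) (.node (.node (.node (.node (.node (.leaf 0) (.leaf 0)) (.node (.leaf 0) (.leaf 0))) (.node (.node (.leaf 0) (.leaf 0)) (.node (.leaf 0) (.leaf 0)))) (.node (.node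 (.node (.leaf 0) (.leaf 0)) (.node (.leaf 0) (.leaf 0))) (.node (.node (.leaf 0) (.leaf 0)) (.node (.leaf 0) (.leaf 0))))) (.node (.node (.node (.node (.leaf 0) (.leaf 0)) (.node (.leaf 0) (.leaf 0))) (.node (.node (.leaf 0) (.leaf 584175755768)) (.node (.leaf 0) (.leaf 0)))) (.node (.node (.node (.leaf 145899708553) (.leaf 0)) (.node (.leaf 0) (.leaf 0))) (.node (.node (.leaf 0) (.leaf 0)) (.node (.leaf 0) (.leaf 0))))))))

/-- Part of `hintATwo`. -/
def hintATwo_p0110 : Tr := .node (.node (.node (.node (.node (.node (.node (.node (.leaf 0) (.leaf 0)) (.node (.leaf 0) (.leaf 0))) (.node (.node (.leaf 0) (.leaf 0)) (.node (.leaf 0) (.leaf 0)))) (.node (.node (.node (.leaf 0) (.leaf 0)) (.node (.leaf 0) (.leaf 0))) (.node (.node (.leaf 0) (.leaf 0)) (.node (.leaf 0) (.leaf 0))))) (.node (.node (.node (.node (.leaf 0) (.leaf 0)) (.node (.leaf 0) (.leaf 0))) (.node (.node (.leaf 0) (.leaf 0)) (.node (.leaf 0) (.leaf 0)))) (.node (.node (.node (.leaf 0) (.leaf 0)) (.node (.leaf 0) (.leaf 0))) (.node (.node (.leaf 0) (.leaf 0)) (.node (.leaf 133533679741)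 (.leaf 0)))))) (.node (.node (.node (.node (.node (.leaf 0) (.leaf 0)) (.node (.leaf 0) (.leaf 0))) (.node (.node (.leaf 0) (.leaf 0)) (.node (.leaf 0) (.leaf 0)))) (.node (.node (.node (.leaf 0) (.leaf 0)) (.node (.leaf 0) (.leaf 0))) (.node (.node (.leaf 0) (.leaf 0)) (.node (.leaf 0) (.leaf 0))))) (.node (.node (.node (.node (.leaf 0) (.leaf 0)) (.node (.leaf 0) (.leaf 0))) (.node (.node (.leaf 0) (.leaf 0)) (.node (.leaf 0) (.leaf 0)))) (.node (.node (.node (.leaf 0) (.leaf 0)) (.node (.leaf 0) (.leaf 0))) (.node (.node (.leaf 0) (.leaf 0)) (.node (.leaf 0) (.leaf 0))))))) (.node (.node (.node (.node (.node (.node (.leaf 0) (.leaf 0)) (.node (.leaf 0) (.leaf 0))) (.node (.node (.leaf 0) (.leaf 0)) (.node (.leaf 0) (.leaf 0)))) (.node (.node (.node (.leaf 0) (.leaf 0)) (.node (.leaf 0) (.leaf 0))) (.node (.node (.leaf 0) (.leaf 0)) (.node (.leaf 0) (.leaf 0))))) (.node (.node (.node (.node (.leaf 0) (.leaf 0)) (.node (.leaf 0) (.leaf 0))) (.node (.node (.leaf 0) (.leaf 0)) (.node (.leaf 0) (.leaf 0)))) (.node (.node (.node (.leaf 0) (.leaf 0)) (.node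 (.leaf 0) (.leaf 0))) (.node (.node (.leaf 0) (.leaf 0)) (.node (.leaf 0) (.leaf 0)))))) (.node (.node (.node (.node (.node (.leaf 0) (.leaf 0)) (.node (.leaf 0) (.leaf 0))) (.node (.node (.leaf 0) (.leaf 0)) (.node (.leaf 0) (.leaf 0)))) (.node (.node (.node (.leaf 0) (.leaf 0)) (.node (.leaf 0) (.leaf 0))) (.node (.node (.leaf 0) (.leaf 0)) (.node (.leaf 0) (.leaf 0))))) (.node (.node (.node (.node (.leaf 0) (.leaf 0)) (.node (.leaf 0) (.leaf 0))) (.node (.node (.leaf 0) (.leaf 0)) (.node (.leaf 0) (.leaf 0)))) (.node (.node (.node (.leaf 0) (.leaf 0)) (.node (.leaf 0) (.leaf 0))) (.node (.node (.leaf 0) (.leaf 0)) (.node (.leaf 0) (.leaf 0)))))))) (.node (.node (.node (.node (.node (.node (.node (.leaf 0) (.leaf 0)) (.node (.leaf 0) (.leaf 0))) (.node (.node (.leaf 0) (.leaf 0)) (.node (.leaf 0) (.leaf 0)))) (.node (.node (.node (.leaf 0) (.leaf 0)) (.node (.leaf 0) (.leaf 0))) (.node (.node (.leaf 0) (.leaf 0)) (.node (.leaf 0) (.leaf 0))))) (.node (.node (.node (.node (.leaf 0) (.leaf 0)) (.node (.leaf 0) (.leaf 0))) (.node (.node (.leaf 0) (.leaf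 820528653005)) (.node (.leaf 0) (.leaf 0)))) (.node (.node (.node (.leaf 0) (.leaf 0)) (.node (.leaf 0) (.leaf 0))) (.node (.node (.leaf 0) (.leaf 0)) (.node (.leaf 0) (.leaf 0)))))) (.node (.node (.node (.node (.node (.leaf 0) (.leaf 0)) (.node (.leaf 0) (.leaf 0))) (.node (.node (.leaf 0) (.leaf 0)) (.node (.leaf 0) (.leaf 0)))) (.node (.node (.node (.leaf 0) (.leaf 0)) (.node (.leaf 0) (.leaf 0))) (.node (.node (.leaf 0) (.leaf 0)) (.node (.leaf 0) (.leaf 0))))) (.node (.node (.node (.node (.leaf 0) (.leaf 0)) (.node (.leaf 0) (.leaf 0))) (.node (.node (.leaf 0) (.leaf 0)) (.node (.leaf 0) (.leaf 0)))) (.node (.node (.node (.leaf 0) (.leaf 0)) (.node (.leaf 0) (.leaf 0))) (.node (.node (.leaf 0) (.leaf 0)) (.node (.leaf 0) (.leaf 0))))))) (.node (.node (.node (.node (.node (.node (.leaf 0) (.leaf 0)) (.node (.leaf 0) (.leaf 0))) (.node (.node (.leaf 0) (.leaf 0)) (.node (.leaf 0) (.leaf 0)))) (.node (.node (.node (.leaf 0) (.leaf 0)) (.node (.leaf 0) (.leaf 0))) (.node (.node (.leaf 0) (.leaf 0)) (.node (.leaf 0) (.leaf 0))))) (.node (.node (.node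 (.node (.leaf 0) (.leaf 0)) (.node (.leaf 0) (.leaf 0))) (.node (.node (.leaf 0) (.leaf 0)) (.node (.leaf 0) (.leaf 0)))) (.node (.node (.node (.leaf 0) (.leaf 0)) (.node (.leaf 0) (.leaf 0))) (.node (.node (.leaf 0) (.leaf 0)) (.node (.leaf 0) (.leaf 0)))))) (.node (.node (.node (.node (.node (.leaf 0) (.leaf 0)) (.node (.leaf 0) (.leaf 0))) (.node (.node (.leaf 0) (.leaf 0)) (.node (.leaf 0) (.leaf 0)))) (.node (.node (.node (.leaf 0) (.leaf 0)) (.node (.leaf 0) (.leaf 0))) (.node (.node (.leaf 0) (.leaf 0)) (.node (.leaf 0) (.leaf 0))))) (.node (.node (.node (.node (.leaf 0) (.leaf 0)) (.node (.leaf 0) (.leaf 0))) (.node (.node (.leaf 0) (.leaf 0)) (.node (.leaf 0) (.leaf 0)))) (.node (.node (.node (.leaf 0) (.leaf 0)) (.node (.leaf 0) (.leaf 0))) (.node (.node (.leaf 0) (.leaf 0)) (.node (.leaf 0) (.leaf 0))))))))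

/-- Part of `hintATwo`. -/
def hintATwo_p0111 : Tr := .node (.node (.node (.node (.node (.node (.node (.node (.leaf 0) (.leaf 0)) (.node (.leaf 0) (.leaf 0))) (.node (.node (.leaf 0) (.leaf 0)) (.node (.leaf 0) (.leaf 0)))) (.node (.node (.node (.leaf 0) (.leaf 0)) (.node (.leaf 0) (.leaf 0))) (.node (.node (.leaf 0) (.leaf 0)) (.node (.leaf 0) (.leaf 0))))) (.node (.node (.node (.node (.leaf 0) (.leaf 0)) (.node (.leaf 0) (.leaf 0))) (.node (.node (.leaf 0) (.leaf 0)) (.node (.leaf 0) (.leaf 0)))) (.node (.node (.node (.leaf 0) (.leaf 0)) (.node (.leaf 0) (.leaf 0))) (.node (.node (.leaf 0) (.leaf 0)) (.node (.leaf 0) (.leaf 0)))))) (.node (.node (.node (.node (.node (.leaf 0) (.leaf 0)) (.node (.leaf 0) (.leaf 0))) (.node (.node (.leaf 0) (.leaf 0)) (.node (.leaf 0) (.leaf 0)))) (.node (.node (.node (.leaf 0) (.leaf 0)) (.node (.leaf 0) (.leaf 0))) (.node (.node (.leaf 0) (.leaf 0)) (.node (.leaf 0) (.leaf 0))))) (.node (.node (.node (.node (.leaf 0) (.leaf 0)) (.node (.leaf 0) (.leaf 0))) (.node (.node (.leaf 0) (.leaf 0)) (.node (.leaf 0) (.leaf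 0)))) (.node (.node (.node (.leaf 0) (.leaf 0)) (.node (.leaf 0) (.leaf 0))) (.node (.node (.leaf 0) (.leaf 0)) (.node (.leaf 0) (.leaf 0))))))) (.node (.node (.node (.node (.node (.node (.leaf 0) (.leaf 0)) (.node (.leaf 0) (.leaf 0))) (.node (.node (.leaf 0) (.leaf 0)) (.node (.leaf 0) (.leaf 0)))) (.node (.node (.node (.leaf 700373553760) (.leaf 0)) (.node (.leaf 0) (.leaf 0))) (.node (.node (.leaf 0) (.leaf 0)) (.node (.leaf 0) (.leaf 0))))) (.node (.node (.node (.node (.leaf 0) (.leaf 0)) (.node (.leaf 0) (.leaf 0))) (.node (.node (.leaf 0) (.leaf 0)) (.node (.leaf 0) (.leaf 0)))) (.node (.node (.node (.leaf 0) (.leaf 0)) (.node (.leaf 0) (.leaf 0))) (.node (.node (.leaf 0) (.leaf 0)) (.node (.leaf 0) (.leaf 0)))))) (.node (.node (.node (.node (.node (.leaf 0) (.leaf 0)) (.node (.leaf 0) (.leaf 0))) (.node (.node (.leaf 0) (.leaf 0)) (.node (.leaf 0) (.leaf 0)))) (.node (.node (.node (.leaf 0) (.leaf 0)) (.node (.leaf 0) (.leaf 0))) (.node (.node (.leaf 0) (.leaf 0)) (.node (.leaf 0) (.leaf 0))))) (.node (.node (.node (.node (.leaf 0) (.leaf 0))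 (.node (.leaf 0) (.leaf 0))) (.node (.node (.leaf 0) (.leaf 0)) (.node (.leaf 0) (.leaf 0)))) (.node (.node (.node (.leaf 0) (.leaf 0)) (.node (.leaf 0) (.leaf 0))) (.node (.node (.leaf 0) (.leaf 0)) (.node (.leaf 0) (.leaf 0)))))))) (.node (.node (.node (.node (.node (.node (.node (.leaf 0) (.leaf 0)) (.node (.leaf 0) (.leaf 0))) (.node (.node (.leaf 0) (.leaf 0)) (.node (.leaf 0) (.leaf 0)))) (.node (.node (.node (.leaf 332880343334) (.leaf 0)) (.node (.leaf 0) (.leaf 0))) (.node (.node (.leaf 0) (.leaf 0)) (.node (.leaf 0) (.leaf 0))))) (.node (.node (.node (.node (.leaf 0) (.leaf 0)) (.node (.leaf 0) (.leaf 0))) (.node (.node (.leaf 0) (.leaf 0)) (.node (.leaf 0) (.leaf 0)))) (.node (.node (.node (.leaf 0) (.leaf 0)) (.node (.leaf 0) (.leaf 0))) (.node (.node (.leaf 0) (.leaf 0)) (.node (.leaf 0) (.leaf 0)))))) (.node (.node (.node (.node (.node (.leaf 0) (.leaf 0)) (.node (.leaf 0) (.leaf 0))) (.node (.node (.leaf 0) (.leaf 0)) (.node (.leaf 0) (.leaf 0)))) (.node (.node (.node (.leaf 0) (.leaf 0)) (.node (.leaf 0) (.leaf 0))) (.node (.node (.leaf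 0) (.leaf 0)) (.node (.leaf 0) (.leaf 0))))) (.node (.node (.node (.node (.leaf 0) (.leaf 0)) (.node (.leaf 0) (.leaf 0))) (.node (.node (.leaf 0) (.leaf 0)) (.node (.leaf 0) (.leaf 0)))) (.node (.node (.node (.leaf 0) (.leaf 0)) (.node (.leaf 0) (.leaf 0))) (.node (.node (.leaf 0) (.leaf 0)) (.node (.leaf 0) (.leaf 0))))))) (.node (.node (.node (.node (.node (.node (.leaf 0) (.leaf 0)) (.node (.leaf 0) (.leaf 0))) (.node (.node (.leaf 0) (.leaf 0)) (.node (.leaf 0) (.leaf 0)))) (.node (.node (.node (.leaf 0) (.leaf 0)) (.node (.leaf 0) (.leaf 0))) (.node (.node (.leaf 0) (.leaf 0)) (.node (.leaf 0) (.leaf 0))))) (.node (.node (.node (.node (.leaf 0) (.leaf 0)) (.node (.leaf 0) (.leaf 0))) (.node (.node (.leaf 0) (.leaf 0)) (.node (.leaf 0) (.leaf 0)))) (.node (.node (.node (.leaf 0) (.leaf 0)) (.node (.leaf 0) (.leaf 0))) (.node (.node (.leaf 0) (.leaf 0)) (.node (.leaf 0) (.leaf 0)))))) (.node (.node (.node (.node (.node (.leaf 0) (.leaf 0)) (.node (.leaf 0) (.leaf 0))) (.node (.node (.leaf 0) (.leaf 0)) (.node (.leaf 0) (.leaf 0)))) (.node (.node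 (.node (.leaf 0) (.leaf 0)) (.node (.leaf 0) (.leaf 0))) (.node (.node (.leaf 0) (.leaf 0)) (.node (.leaf 0) (.leaf 0))))) (.node (.node (.node (.node (.leaf 104737734754) (.leaf 0)) (.node (.leaf 0) (.leaf 0))) (.node (.node (.leaf 0) (.leaf 0)) (.node (.leaf 0) (.leaf 0)))) (.node (.node (.node (.leaf 0) (.leaf 0)) (.node (.leaf 0) (.leaf 0))) (.node (.node (.leaf 0) (.leaf 0)) (.node (.leaf 0) (.leaf 0))))))))

/-- Part of `hintATwo`. -/
def hintATwo_p1000 : Tr := .node (.node (.node (.node (.node (.node (.node (.node (.leaf 0) (.leaf 0)) (.node (.leaf 0) (.leaf 0))) (.node (.node (.leaf 0) (.leaf 0)) (.node (.leaf 0) (.leaf 0)))) (.node (.node (.node (.leaf 0) (.leaf 0)) (.node (.leaf 0) (.leaf 0))) (.node (.node (.leaf 0) (.leaf 0)) (.node (.leaf 0) (.leaf 0))))) (.node (.node (.node (.node (.leaf 0) (.leaf 0)) (.node (.leaf 0) (.leaf 0))) (.node (.node (.leaf 0) (.leaf 0)) (.node (.leaf 0) (.leaf 0)))) (.node (.node (.node (.leaf 0) (.leaf 0)) (.node (.leaf 0) (.leaf 0))) (.node (.node (.leaf 0) (.leaf 0)) (.node (.leaf 0) (.leaf 0)))))) (.node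 (.node (.node (.node (.node (.leaf 0) (.leaf 0)) (.node (.leaf 0) (.leaf 0))) (.node (.node (.leaf 0) (.leaf 0)) (.node (.leaf 0) (.leaf 0)))) (.node (.node (.node (.leaf 0) (.leaf 0)) (.node (.leaf 0) (.leaf 0))) (.node (.node (.leaf 0) (.leaf 0)) (.node (.leaf 0) (.leaf 0))))) (.node (.node (.node (.node (.leaf 0) (.leaf 0)) (.node (.leaf 0) (.leaf 0))) (.node (.node (.leaf 0) (.leaf 0)) (.node (.leaf 0) (.leaf 0)))) (.node (.node (.node (.leaf 0) (.leaf 0)) (.node (.leaf 0) (.leaf 0))) (.node (.node (.leaf 0) (.leaf 0)) (.node (.leaf 0) (.leaf 0))))))) (.node (.node (.node (.node (.node (.node (.leaf 0) (.leaf 0)) (.node (.leaf 0) (.leaf 0))) (.node (.node (.leaf 0) (.leaf 0)) (.node (.leaf 0) (.leaf 0)))) (.node (.node (.node (.leaf 0) (.leaf 0)) (.node (.leaf 0) (.leaf 0))) (.node (.node (.leaf 0) (.leaf 0)) (.node (.leaf 0) (.leaf 0))))) (.node (.node (.node (.node (.leaf 0) (.leaf 0)) (.node (.leaf 0) (.leaf 0))) (.node (.node (.leaf 0) (.leaf 0)) (.node (.leaf 0) (.leaf 0)))) (.node (.node (.node (.leaf 0) (.leaf 0)) (.node (.leaf 0) (.leaf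 0))) (.node (.node (.leaf 0) (.leaf 0)) (.node (.leaf 0) (.leaf 0)))))) (.node (.node (.node (.node (.node (.leaf 0) (.leaf 0)) (.node (.leaf 0) (.leaf 0))) (.node (.node (.leaf 0) (.leaf 0)) (.node (.leaf 0) (.leaf 0)))) (.node (.node (.node (.leaf 0) (.leaf 0)) (.node (.leaf 0) (.leaf 0))) (.node (.node (.leaf 0) (.leaf 0)) (.node (.leaf 0) (.leaf 0))))) (.node (.node (.node (.node (.leaf 0) (.leaf 0)) (.node (.leaf 0) (.leaf 0))) (.node (.node (.leaf 0) (.leaf 0)) (.node (.leaf 0) (.leaf 0)))) (.node (.node (.node (.leaf 0) (.leaf 0)) (.node (.leaf 0) (.leaf 0))) (.node (.node (.leaf 0) (.leaf 0)) (.node (.leaf 0) (.leaf 0)))))))) (.node (.node (.node (.node (.node (.node (.node (.leaf 0) (.leaf 0)) (.node (.leaf 0) (.leaf 0))) (.node (.node (.leaf 0) (.leaf 0)) (.node (.leaf 0) (.leaf 0)))) (.node (.node (.node (.leaf 0) (.leaf 0)) (.node (.leaf 0) (.leaf 0))) (.node (.node (.leaf 0) (.leaf 0)) (.node (.leaf 0) (.leaf 0))))) (.node (.node (.node (.node (.leaf 0) (.leaf 0)) (.node (.leaf 0) (.leaf 0))) (.node (.node (.leaf 0) (.leaf 0)) (.node (.leaf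 0) (.leaf 0)))) (.node (.node (.node (.leaf 0) (.leaf 0)) (.node (.leaf 0) (.leaf 0))) (.node (.node (.leaf 0) (.leaf 0)) (.node (.leaf 0) (.leaf 0)))))) (.node (.node (.node (.node (.node (.leaf 0) (.leaf 0)) (.node (.leaf 0) (.leaf 0))) (.node (.node (.leaf 0) (.leaf 0)) (.node (.leaf 0) (.leaf 0)))) (.node (.node (.node (.leaf 0) (.leaf 0)) (.node (.leaf 0) (.leaf 0))) (.node (.node (.leaf 0) (.leaf 0)) (.node (.leaf 0) (.leaf 0))))) (.node (.node (.node (.node (.leaf 0) (.leaf 0)) (.node (.leaf 0) (.leaf 0))) (.node (.node (.leaf 0) (.leaf 0)) (.node (.leaf 0) (.leaf 0)))) (.node (.node (.node (.leaf 0) (.leaf 0)) (.node (.leaf 0) (.leaf 0))) (.node (.node (.leaf 0) (.leaf 0)) (.node (.leaf 0) (.leaf 0))))))) (.node (.node (.node (.node (.node (.node (.leaf 0) (.leaf 0)) (.node (.leaf 0) (.leaf 0))) (.node (.node (.leaf 0) (.leaf 0)) (.node (.leaf 0) (.leaf 0)))) (.node (.node (.node (.leaf 0) (.leaf 0)) (.node (.leaf 0) (.leaf 0))) (.node (.node (.leaf 0) (.leaf 0)) (.node (.leaf 0) (.leaf 0))))) (.node (.node (.node (.node (.leaf 0) (.leaf 0))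 (.node (.leaf 0) (.leaf 0))) (.node (.node (.leaf 0) (.leaf 0)) (.node (.leaf 0) (.leaf 0)))) (.node (.node (.node (.leaf 0) (.leaf 0)) (.node (.leaf 0) (.leaf 0))) (.node (.node (.leaf 0) (.leaf 0)) (.node (.leaf 0) (.leaf 0)))))) (.node (.node (.node (.node (.node (.leaf 0) (.leaf 0)) (.node (.leaf 0) (.leaf 0))) (.node (.node (.leaf 0) (.leaf 0)) (.node (.leaf 0) (.leaf 0)))) (.node (.node (.node (.leaf 0) (.leaf 0)) (.node (.leaf 0) (.leaf 0))) (.node (.node (.leaf 0) (.leaf 0)) (.node (.leaf 0) (.leaf 0))))) (.node (.node (.node (.node (.leaf 0) (.leaf 0)) (.node (.leaf 0) (.leaf 0))) (.node (.node (.leaf 0) (.leaf 0)) (.node (.leaf 0) (.leaf 0)))) (.node (.node (.node (.leaf 0) (.leaf 0)) (.node (.leaf 0) (.leaf 0))) (.node (.node (.leaf 0) (.leaf 0)) (.node (.leaf 0) (.leaf 0))))))))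

/-- Part of `hintATwo`. -/
def hintATwo_p1001 : Tr := .node (.node (.node (.node (.node (.node (.node (.node (.leaf 0) (.leaf 0)) (.node (.leaf 0) (.leaf 0))) (.node (.node (.leaf 0) (.leaf 0)) (.node (.leaf 0) (.leaf 0)))) (.node (.node (.node (.leaf 0) (.leaf 0)) (.node (.leaf 0) (.leaf 0))) (.node (.node (.leaf 0) (.leaf 0)) (.node (.leaf 0) (.leaf 0))))) (.node (.node (.node (.node (.leaf 0) (.leaf 0)) (.node (.leaf 0) (.leaf 0))) (.node (.node (.leaf 0) (.leaf 0)) (.node (.leaf 0) (.leaf 0)))) (.node (.node (.node (.leaf 0) (.leaf 0)) (.node (.leaf 0) (.leaf 0))) (.node (.node (.leaf 0) (.leaf 0)) (.node (.leaf 0) (.leaf 0)))))) (.node (.node (.node (.node (.node (.leaf 0) (.leaf 0)) (.node (.leaf 0) (.leaf 0))) (.node (.node (.leaf 0) (.leaf 0)) (.node (.leaf 0) (.leaf 0)))) (.node (.node (.node (.leaf 0) (.leaf 0)) (.node (.leaf 0) (.leaf 0))) (.node (.node (.leaf 0) (.leaf 0)) (.node (.leaf 0) (.leaf 0))))) (.node (.node (.node (.node (.leaf 0) (.leaf 0)) (.node (.leaf 0) (.leaf 0))) (.node (.node (.leaf 0) (.leaf 0)) (.node (.leaf 0) (.leaf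 0)))) (.node (.node (.node (.leaf 0) (.leaf 0)) (.node (.leaf 0) (.leaf 0))) (.node (.node (.leaf 0) (.leaf 0)) (.node (.leaf 0) (.leaf 0))))))) (.node (.node (.node (.node (.node (.node (.leaf 0) (.leaf 0)) (.node (.leaf 0) (.leaf 0))) (.node (.node (.leaf 0) (.leaf 0)) (.node (.leaf 0) (.leaf 0)))) (.node (.node (.node (.leaf 0) (.leaf 0)) (.node (.leaf 0) (.leaf 0))) (.node (.node (.leaf 0) (.leaf 0)) (.node (.leaf 0) (.leaf 0))))) (.node (.node (.node (.node (.leaf 0) (.leaf 0)) (.node (.leaf 0) (.leaf 0))) (.node (.node (.leaf 0) (.leaf 0)) (.node (.leaf 0) (.leaf 0)))) (.node (.node (.node (.leaf 0) (.leaf 0)) (.node (.leaf 0) (.leaf 0))) (.node (.node (.leaf 0) (.leaf 0)) (.node (.leaf 0) (.leaf 0)))))) (.node (.node (.node (.node (.node (.leaf 0) (.leaf 0)) (.node (.leaf 0) (.leaf 0))) (.node (.node (.leaf 0) (.leaf 0)) (.node (.leaf 0) (.leaf 0)))) (.node (.node (.node (.leaf 0) (.leaf 0)) (.node (.leaf 0) (.leaf 0))) (.node (.node (.leaf 0) (.leaf 0)) (.node (.leaf 0) (.leaf 0))))) (.node (.node (.node (.node (.leaf 0) (.leaf 0)) (.node (.leaf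 0) (.leaf 0))) (.node (.node (.leaf 0) (.leaf 0)) (.node (.leaf 0) (.leaf 0)))) (.node (.node (.node (.leaf 0) (.leaf 0)) (.node (.leaf 0) (.leaf 0))) (.node (.node (.leaf 0) (.leaf 0)) (.node (.leaf 0) (.leaf 0)))))))) (.node (.node (.node (.node (.node (.node (.node (.leaf 0) (.leaf 0)) (.node (.leaf 0) (.leaf 0))) (.node (.node (.leaf 0) (.leaf 0)) (.node (.leaf 0) (.leaf 0)))) (.node (.node (.node (.leaf 0) (.leaf 0)) (.node (.leaf 0) (.leaf 0))) (.node (.node (.leaf 0) (.leaf 0)) (.node (.leaf 0) (.leaf 0))))) (.node (.node (.node (.node (.leaf 0) (.leaf 0)) (.node (.leaf 0) (.leaf 0))) (.node (.node (.leaf 0) (.leaf 0)) (.node (.leaf 0) (.leaf 0)))) (.node (.node (.node (.leaf 0) (.leaf 0)) (.node (.leaf 0) (.leaf 0))) (.node (.node (.leaf 0) (.leaf 0)) (.node (.leaf 0) (.leaf 0)))))) (.node (.node (.node (.node (.node (.leaf 0) (.leaf 0)) (.node (.leaf 0) (.leaf 0))) (.node (.node (.leaf 0) (.leaf 0)) (.node (.leaf 0) (.leaf 0)))) (.node (.node (.node (.leaf 0) (.leaf 0)) (.node (.leaf 0) (.leaf 0))) (.node (.node (.leaf 0) (.leaf 0)) (.node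 (.leaf 0) (.leaf 0))))) (.node (.node (.node (.node (.leaf 0) (.leaf 0)) (.node (.leaf 0) (.leaf 0))) (.node (.node (.leaf 0) (.leaf 0)) (.node (.leaf 0) (.leaf 0)))) (.node (.node (.node (.leaf 0) (.leaf 0)) (.node (.leaf 0) (.leaf 0))) (.node (.node (.leaf 0) (.leaf 0)) (.node (.leaf 0) (.leaf 0))))))) (.node (.node (.node (.node (.node (.node (.leaf 0) (.leaf 0)) (.node (.leaf 0) (.leaf 0))) (.node (.node (.leaf 0) (.leaf 0)) (.node (.leaf 0) (.leaf 0)))) (.node (.node (.node (.leaf 0) (.leaf 0)) (.node (.leaf 0) (.leaf 0))) (.node (.node (.leaf 0) (.leaf 0)) (.node (.leaf 0) (.leaf 0))))) (.node (.node (.node (.node (.leaf 0) (.leaf 0)) (.node (.leaf 0) (.leaf 0))) (.node (.node (.leaf 0) (.leaf 0)) (.node (.leaf 0) (.leaf 0)))) (.node (.node (.node (.leaf 0) (.leaf 0)) (.node (.leaf 0) (.leaf 0))) (.node (.node (.leaf 0) (.leaf 0)) (.node (.leaf 0) (.leaf 0)))))) (.node (.node (.node (.node (.node (.leaf 0) (.leaf 0)) (.node (.leaf 0) (.leaf 0))) (.node (.node (.leaf 0) (.leaf 0)) (.node (.leaf 0) (.leaf 0)))) (.node (.node (.node (.leaf 0) (.leaf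 0)) (.node (.leaf 0) (.leaf 0))) (.node (.node (.leaf 0) (.leaf 0)) (.node (.leaf 0) (.leaf 0))))) (.node (.node (.node (.node (.leaf 0) (.leaf 0)) (.node (.leaf 0) (.leaf 0))) (.node (.node (.leaf 0) (.leaf 0)) (.node (.leaf 0) (.leaf 0)))) (.node (.node (.node (.leaf 0) (.leaf 0)) (.node (.leaf 0) (.leaf 0))) (.node (.node (.leaf 1091281486791) (.leaf 0)) (.node (.leaf 0) (.leaf 0))))))))

/-- Part of `hintATwo`. -/
def hintATwo_p1010 : Tr := .node (.node (.node (.node (.node (.node (.node (.node (.leaf 0) (.leaf 0)) (.node (.leaf 0) (.leaf 0))) (.node (.node (.leaf 0) (.leaf 0)) (.node (.leaf 0) (.leaf 0)))) (.node (.node (.node (.leaf 0) (.leaf 0)) (.node (.leaf 0) (.leaf 0))) (.node (.node (.leaf 0) (.leaf 0)) (.node (.leaf 0) (.leaf 0))))) (.node (.node (.node (.node (.leaf 0) (.leaf 0)) (.node (.leaf 0) (.leaf 0))) (.node (.node (.leaf 0) (.leaf 653248516650)) (.node (.leaf 0) (.leaf 0)))) (.node (.node (.node (.leaf 0) (.leaf 0)) (.node (.leaf 0) (.leaf 0))) (.node (.node (.leaf 0) (.leaf 0)) (.node (.leaf 0) (.leaf 0)))))) (.node (.node (.node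 (.node (.node (.leaf 0) (.leaf 0)) (.node (.leaf 0) (.leaf 0))) (.node (.node (.leaf 0) (.leaf 0)) (.node (.leaf 0) (.leaf 0)))) (.node (.node (.node (.leaf 0) (.leaf 0)) (.node (.leaf 0) (.leaf 0))) (.node (.node (.leaf 0) (.leaf 0)) (.node (.leaf 0) (.leaf 0))))) (.node (.node (.node (.node (.leaf 0) (.leaf 0)) (.node (.leaf 0) (.leaf 0))) (.node (.node (.leaf 0) (.leaf 0)) (.node (.leaf 0) (.leaf 0)))) (.node (.node (.node (.leaf 0) (.leaf 0)) (.node (.leaf 0) (.leaf 0))) (.node (.node (.leaf 0) (.leaf 0)) (.node (.leaf 0) (.leaf 0))))))) (.node (.node (.node (.node (.node (.node (.leaf 0) (.leaf 0)) (.node (.leaf 0) (.leaf 0))) (.node (.node (.leaf 0) (.leaf 0)) (.node (.leaf 0) (.leaf 0)))) (.node (.node (.node (.leaf 0) (.leaf 0)) (.node (.leaf 0) (.leaf 0))) (.node (.node (.leaf 0) (.leaf 0)) (.node (.leaf 0) (.leaf 0))))) (.node (.node (.node (.node (.leaf 0) (.leaf 0)) (.node (.leaf 0) (.leaf 0))) (.node (.node (.leaf 0) (.leaf 0)) (.node (.leaf 0) (.leaf 0)))) (.node (.node (.node (.leaf 0) (.leaf 0)) (.node (.leaf 0) (.leaf 0))) (.node (.node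 (.leaf 0) (.leaf 0)) (.node (.leaf 0) (.leaf 0)))))) (.node (.node (.node (.node (.node (.leaf 0) (.leaf 0)) (.node (.leaf 0) (.leaf 0))) (.node (.node (.leaf 0) (.leaf 0)) (.node (.leaf 0) (.leaf 0)))) (.node (.node (.node (.leaf 0) (.leaf 0)) (.node (.leaf 0) (.leaf 0))) (.node (.node (.leaf 0) (.leaf 0)) (.node (.leaf 0) (.leaf 0))))) (.node (.node (.node (.node (.leaf 0) (.leaf 0)) (.node (.leaf 0) (.leaf 0))) (.node (.node (.leaf 0) (.leaf 0)) (.node (.leaf 0) (.leaf 1010067239810)))) (.node (.node (.node (.leaf 0) (.leaf 0)) (.node (.leaf 0) (.leaf 0))) (.node (.node (.leaf 0) (.leaf 0)) (.node (.leaf 0) (.leaf 0)))))))) (.node (.node (.node (.node (.node (.node (.node (.leaf 0) (.leaf 0)) (.node (.leaf 0) (.leaf 0))) (.node (.node (.leaf 0) (.leaf 0)) (.node (.leaf 0) (.leaf 0)))) (.node (.node (.node (.leaf 0) (.leaf 0)) (.node (.leaf 0) (.leaf 0))) (.node (.node (.leaf 0) (.leaf 0)) (.node (.leaf 0) (.leaf 0))))) (.node (.node (.node (.node (.leaf 0) (.leaf 0)) (.node (.leaf 0) (.leaf 0))) (.node (.node (.leaf 0) (.leaf 0)) (.node (.leaf 0)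 (.leaf 0)))) (.node (.node (.node (.leaf 0) (.leaf 0)) (.node (.leaf 0) (.leaf 0))) (.node (.node (.leaf 0) (.leaf 0)) (.node (.leaf 0) (.leaf 0)))))) (.node (.node (.node (.node (.node (.leaf 0) (.leaf 0)) (.node (.leaf 0) (.leaf 0))) (.node (.node (.leaf 0) (.leaf 0)) (.node (.leaf 0) (.leaf 0)))) (.node (.node (.node (.leaf 0) (.leaf 0)) (.node (.leaf 0) (.leaf 0))) (.node (.node (.leaf 0) (.leaf 0)) (.node (.leaf 0) (.leaf 0))))) (.node (.node (.node (.node (.leaf 0) (.leaf 0)) (.node (.leaf 0) (.leaf 0))) (.node (.node (.leaf 0) (.leaf 0)) (.node (.leaf 0) (.leaf 0)))) (.node (.node (.node (.leaf 0) (.leaf 0)) (.node (.leaf 0) (.leaf 0))) (.node (.node (.leaf 0) (.leaf 0)) (.node (.leaf 0) (.leaf 0))))))) (.node (.node (.node (.node (.node (.node (.leaf 0) (.leaf 0)) (.node (.leaf 0) (.leaf 0))) (.node (.node (.leaf 0) (.leaf 0)) (.node (.leaf 0) (.leaf 0)))) (.node (.node (.node (.leaf 0) (.leaf 0)) (.node (.leaf 0) (.leaf 0))) (.node (.node (.leaf 0) (.leaf 0)) (.node (.leaf 0) (.leaf 0))))) (.node (.node (.node (.node (.leaf 0) (.leaf 0)) (.node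 (.leaf 0) (.leaf 0))) (.node (.node (.leaf 0) (.leaf 0)) (.node (.leaf 0) (.leaf 0)))) (.node (.node (.node (.leaf 0) (.leaf 0)) (.node (.leaf 0) (.leaf 0))) (.node (.node (.leaf 0) (.leaf 0)) (.node (.leaf 0) (.leaf 0)))))) (.node (.node (.node (.node (.node (.leaf 0) (.leaf 0)) (.node (.leaf 0) (.leaf 0))) (.node (.node (.leaf 0) (.leaf 0)) (.node (.leaf 0) (.leaf 0)))) (.node (.node (.node (.leaf 0) (.leaf 0)) (.node (.leaf 0) (.leaf 0))) (.node (.node (.leaf 0) (.leaf 0)) (.node (.leaf 0) (.leaf 0))))) (.node (.node (.node (.node (.leaf 0) (.leaf 0)) (.node (.leaf 0) (.leaf 0))) (.node (.node (.leaf 0) (.leaf 0)) (.node (.leaf 0) (.leaf 0)))) (.node (.node (.node (.leaf 0) (.leaf 0)) (.node (.leaf 0) (.leaf 0))) (.node (.node (.leaf 0) (.leaf 0)) (.node (.leaf 0) (.leaf 0))))))))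

/-- Part of `hintATwo`. -/
def hintATwo_p1011 : Tr := .node (.node (.node (.node (.node (.node (.node (.node (.leaf 0) (.leaf 0)) (.node (.leaf 0) (.leaf 0))) (.node (.node (.leaf 0) (.leaf 0)) (.node (.leaf 0) (.leaf 0)))) (.node (.node (.node (.leaf 0) (.leaf 0)) (.node (.leaf 0) (.leaf 0))) (.node (.node (.leaf 0) (.leaf 0)) (.node (.leaf 0) (.leaf 0))))) (.node (.node (.node (.node (.leaf 0) (.leaf 0)) (.node (.leaf 0) (.leaf 0))) (.node (.node (.leaf 0) (.leaf 0)) (.node (.leaf 0) (.leaf 0)))) (.node (.node (.node (.leaf 0) (.leaf 0)) (.node (.leaf 0) (.leaf 0))) (.node (.node (.leaf 0) (.leaf 0)) (.node (.leaf 0) (.leaf 0)))))) (.node (.node (.node (.node (.node (.leaf 0) (.leaf 0)) (.node (.leaf 0) (.leaf 0))) (.node (.node (.leaf 0) (.leaf 0)) (.node (.leaf 0) (.leaf 0)))) (.node (.node (.node (.leaf 0) (.leaf 0)) (.node (.leaf 0) (.leaf 0))) (.node (.node (.leaf 0) (.leaf 0)) (.node (.leaf 0) (.leaf 0))))) (.node (.node (.node (.node (.leaf 0) (.leaf 0)) (.node (.leaf 0) (.leaf 0))) (.node (.node (.leaf 0) (.leaf 0)) (.node (.leaf 0) (.leaf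 0)))) (.node (.node (.node (.leaf 0) (.leaf 0)) (.node (.leaf 0) (.leaf 0))) (.node (.node (.leaf 0) (.leaf 0)) (.node (.leaf 0) (.leaf 0))))))) (.node (.node (.node (.node (.node (.node (.leaf 0) (.leaf 0)) (.node (.leaf 0) (.leaf 0))) (.node (.node (.leaf 0) (.leaf 0)) (.node (.leaf 0) (.leaf 0)))) (.node (.node (.node (.leaf 0) (.leaf 0)) (.node (.leaf 0) (.leaf 0))) (.node (.node (.leaf 0) (.leaf 0)) (.node (.leaf 0) (.leaf 0))))) (.node (.node (.node (.node (.leaf 0) (.leaf 0)) (.node (.leaf 0) (.leaf 0))) (.node (.node (.leaf 0) (.leaf 0)) (.node (.leaf 0) (.leaf 0)))) (.node (.node (.node (.leaf 0) (.leaf 0)) (.node (.leaf 0) (.leaf 0))) (.node (.node (.leaf 0) (.leaf 0)) (.node (.leaf 0) (.leaf 0)))))) (.node (.node (.node (.node (.node (.leaf 0) (.leaf 0)) (.node (.leaf 0) (.leaf 0))) (.node (.node (.leaf 0) (.leaf 0)) (.node (.leaf 0) (.leaf 0)))) (.node (.node (.node (.leaf 0) (.leaf 0)) (.node (.leaf 0) (.leaf 0))) (.node (.node (.leaf 0) (.leaf 0)) (.node (.leaf 0) (.leaf 0))))) (.node (.node (.node (.node (.leaf 0) (.leaf 0)) (.node (.leaf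 0) (.leaf 0))) (.node (.node (.leaf 0) (.leaf 0)) (.node (.leaf 0) (.leaf 0)))) (.node (.node (.node (.leaf 0) (.leaf 0)) (.node (.leaf 0) (.leaf 0))) (.node (.node (.leaf 0) (.leaf 0)) (.node (.leaf 0) (.leaf 0)))))))) (.node (.node (.node (.node (.node (.node (.node (.leaf 0) (.leaf 0)) (.node (.leaf 0) (.leaf 0))) (.node (.node (.leaf 0) (.leaf 0)) (.node (.leaf 0) (.leaf 0)))) (.node (.node (.node (.leaf 0) (.leaf 0)) (.node (.leaf 0) (.leaf 0))) (.node (.node (.leaf 0) (.leaf 0)) (.node (.leaf 0) (.leaf 0))))) (.node (.node (.node (.node (.leaf 0) (.leaf 0)) (.node (.leaf 0) (.leaf 0))) (.node (.node (.leaf 0) (.leaf 0)) (.node (.leaf 0) (.leaf 0)))) (.node (.node (.node (.leaf 0) (.leaf 0)) (.node (.leaf 0) (.leaf 0))) (.node (.node (.leaf 0) (.leaf 0)) (.node (.leaf 0) (.leaf 0)))))) (.node (.node (.node (.node (.node (.leaf 0) (.leaf 0)) (.node (.leaf 0) (.leaf 0))) (.node (.node (.leaf 0) (.leaf 0)) (.node (.leaf 0) (.leaf 0)))) (.node (.node (.node (.leaf 0) (.leaf 0)) (.node (.leaf 0) (.leaf 0))) (.node (.node (.leaf 0) (.leaf 0)) (.node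 (.leaf 0) (.leaf 0))))) (.node (.node (.node (.node (.leaf 0) (.leaf 0)) (.node (.leaf 0) (.leaf 0))) (.node (.node (.leaf 0) (.leaf 0)) (.node (.leaf 0) (.leaf 0)))) (.node (.node (.node (.leaf 0) (.leaf 0)) (.node (.leaf 0) (.leaf 0))) (.node (.node (.leaf 0) (.leaf 0)) (.node (.leaf 0) (.leaf 0))))))) (.node (.node (.node (.node (.node (.node (.leaf 0) (.leaf 0)) (.node (.leaf 0) (.leaf 0))) (.node (.node (.leaf 0) (.leaf 0)) (.node (.leaf 0) (.leaf 0)))) (.node (.node (.node (.leaf 0) (.leaf 0)) (.node (.leaf 0) (.leaf 0))) (.node (.node (.leaf 0) (.leaf 0)) (.node (.leaf 0) (.leaf 0))))) (.node (.node (.node (.node (.leaf 0) (.leaf 0)) (.node (.leaf 0) (.leaf 0))) (.node (.node (.leaf 0) (.leaf 0)) (.node (.leaf 0) (.leaf 0)))) (.node (.node (.node (.leaf 0) (.leaf 0)) (.node (.leaf 0) (.leaf 0))) (.node (.node (.leaf 0) (.leaf 0)) (.node (.leaf 0) (.leaf 0)))))) (.node (.node (.node (.node (.node (.leaf 0) (.leaf 0)) (.node (.leaf 0) (.leaf 0))) (.node (.node (.leaf 0) (.leaf 0)) (.node (.leaf 0) (.leaf 0)))) (.node (.node (.node (.leaf 0) (.leaf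 0)) (.node (.leaf 0) (.leaf 0))) (.node (.node (.leaf 0) (.leaf 0)) (.node (.leaf 0) (.leaf 0))))) (.node (.node (.node (.node (.leaf 0) (.leaf 0)) (.node (.leaf 0) (.leaf 0))) (.node (.node (.leaf 0) (.leaf 0)) (.node (.leaf 0) (.leaf 0)))) (.node (.node (.node (.leaf 0) (.leaf 0)) (.node (.leaf 0) (.leaf 0))) (.node (.node (.leaf 0) (.leaf 0)) (.node (.leaf 0) (.leaf 0))))))))

/-- Part of `hintATwo`. -/
def hintATwo_p1100 : Tr := .node (.node (.node (.node (.node (.node (.node (.node (.leaf 0) (.leaf 0)) (.node (.leaf 0) (.leaf 0))) (.node (.node (.leaf 0) (.leaf 0)) (.node (.leaf 0) (.leaf 0)))) (.node (.node (.node (.leaf 0) (.leaf 0)) (.node (.leaf 0) (.leaf 0))) (.node (.node (.leaf 0) (.leaf 0)) (.node (.leaf 0) (.leaf 0))))) (.node (.node (.node (.node (.leaf 0) (.leaf 0)) (.node (.leaf 0) (.leaf 0))) (.node (.node (.leaf 0) (.leaf 0)) (.node (.leaf 0) (.leaf 0)))) (.node (.node (.node (.leaf 0) (.leaf 0)) (.node (.leaf 0) (.leaf 0))) (.node (.node (.leaf 0) (.leaf 0)) (.node (.leaf 0) (.leaf 0)))))) (.node (.node (.node (.node (.node (.leaf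 0) (.leaf 0)) (.node (.leaf 0) (.leaf 0))) (.node (.node (.leaf 0) (.leaf 0)) (.node (.leaf 0) (.leaf 0)))) (.node (.node (.node (.leaf 0) (.leaf 0)) (.node (.leaf 0) (.leaf 0))) (.node (.node (.leaf 0) (.leaf 0)) (.node (.leaf 0) (.leaf 0))))) (.node (.node (.node (.node (.leaf 0) (.leaf 0)) (.node (.leaf 0) (.leaf 0))) (.node (.node (.leaf 0) (.leaf 0)) (.node (.leaf 0) (.leaf 0)))) (.node (.node (.node (.leaf 0) (.leaf 0)) (.node (.leaf 0) (.leaf 0))) (.node (.node (.leaf 0) (.leaf 0)) (.node (.leaf 0) (.leaf 0))))))) (.node (.node (.node (.node (.node (.node (.leaf 0) (.leaf 0)) (.node (.leaf 0) (.leaf 0))) (.node (.node (.leaf 0) (.leaf 0)) (.node (.leaf 0) (.leaf 0)))) (.node (.node (.node (.leaf 0) (.leaf 0)) (.node (.leaf 0) (.leaf 0))) (.node (.node (.leaf 0) (.leaf 0)) (.node (.leaf 0) (.leaf 0))))) (.node (.node (.node (.node (.leaf 0) (.leaf 0)) (.node (.leaf 0) (.leaf 0))) (.node (.node (.leaf 0) (.leaf 0)) (.node (.leaf 0) (.leaf 0)))) (.node (.node (.node (.leaf 0) (.leaf 0)) (.node (.leaf 0) (.leaf 0))) (.node (.node (.leaf 0) (.leaf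 0)) (.node (.leaf 0) (.leaf 0)))))) (.node (.node (.node (.node (.node (.leaf 0) (.leaf 0)) (.node (.leaf 0) (.leaf 0))) (.node (.node (.leaf 0) (.leaf 0)) (.node (.leaf 0) (.leaf 0)))) (.node (.node (.node (.leaf 0) (.leaf 0)) (.node (.leaf 0) (.leaf 0))) (.node (.node (.leaf 0) (.leaf 0)) (.node (.leaf 0) (.leaf 0))))) (.node (.node (.node (.node (.leaf 0) (.leaf 0)) (.node (.leaf 0) (.leaf 0))) (.node (.node (.leaf 0) (.leaf 0)) (.node (.leaf 0) (.leaf 0)))) (.node (.node (.node (.leaf 0) (.leaf 0)) (.node (.leaf 0) (.leaf 0))) (.node (.node (.leaf 0) (.leaf 0)) (.node (.leaf 0) (.leaf 0)))))))) (.node (.node (.node (.node (.node (.node (.node (.leaf 0) (.leaf 0)) (.node (.leaf 0) (.leaf 0))) (.node (.node (.leaf 0) (.leaf 0)) (.node (.leaf 0) (.leaf 0)))) (.node (.node (.node (.leaf 0) (.leaf 0)) (.node (.leaf 0) (.leaf 0))) (.node (.node (.leaf 0) (.leaf 0)) (.node (.leaf 0) (.leaf 0))))) (.node (.node (.node (.node (.leaf 0) (.leaf 0)) (.node (.leaf 0) (.leaf 0))) (.node (.node (.leaf 0) (.leaf 0)) (.node (.leaf 0) (.leaf 0)))) (.node (.node (.node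 (.leaf 0) (.leaf 0)) (.node (.leaf 0) (.leaf 0))) (.node (.node (.leaf 0) (.leaf 0)) (.node (.leaf 0) (.leaf 0)))))) (.node (.node (.node (.node (.node (.leaf 0) (.leaf 0)) (.node (.leaf 0) (.leaf 0))) (.node (.node (.leaf 0) (.leaf 0)) (.node (.leaf 0) (.leaf 0)))) (.node (.node (.node (.leaf 0) (.leaf 0)) (.node (.leaf 0) (.leaf 0))) (.node (.node (.leaf 0) (.leaf 0)) (.node (.leaf 0) (.leaf 0))))) (.node (.node (.node (.node (.leaf 0) (.leaf 0)) (.node (.leaf 0) (.leaf 0))) (.node (.node (.leaf 0) (.leaf 0)) (.node (.leaf 0) (.leaf 0)))) (.node (.node (.node (.leaf 0) (.leaf 0)) (.node (.leaf 0) (.leaf 0))) (.node (.node (.leaf 0) (.leaf 0)) (.node (.leaf 0) (.leaf 0))))))) (.node (.node (.node (.node (.node (.node (.leaf 0) (.leaf 0)) (.node (.leaf 0) (.leaf 0))) (.node (.node (.leaf 0) (.leaf 0)) (.node (.leaf 0) (.leaf 0)))) (.node (.node (.node (.leaf 0) (.leaf 0)) (.node (.leaf 0) (.leaf 0))) (.node (.node (.leaf 0) (.leaf 0)) (.node (.leaf 0) (.leaf 0))))) (.node (.node (.node (.node (.leaf 0) (.leaf 0)) (.node (.leaf 0) (.leaf 0))) (.node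 (.node (.leaf 0) (.leaf 0)) (.node (.leaf 0) (.leaf 0)))) (.node (.node (.node (.leaf 0) (.leaf 0)) (.node (.leaf 0) (.leaf 0))) (.node (.node (.leaf 0) (.leaf 0)) (.node (.leaf 0) (.leaf 0)))))) (.node (.node (.node (.node (.node (.leaf 0) (.leaf 0)) (.node (.leaf 0) (.leaf 0))) (.node (.node (.leaf 0) (.leaf 0)) (.node (.leaf 0) (.leaf 0)))) (.node (.node (.node (.leaf 0) (.leaf 0)) (.node (.leaf 0) (.leaf 0))) (.node (.node (.leaf 0) (.leaf 0)) (.node (.leaf 0) (.leaf 0))))) (.node (.node (.node (.node (.leaf 0) (.leaf 0)) (.node (.leaf 0) (.leaf 0))) (.node (.node (.leaf 0) (.leaf 0)) (.node (.leaf 0) (.leaf 0)))) (.node (.node (.node (.leaf 0) (.leaf 0)) (.node (.leaf 0) (.leaf 0))) (.node (.node (.leaf 0) (.leaf 0)) (.node (.leaf 0) (.leaf 0))))))))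

/-- Part of `hintATwo`. -/
def hintATwo_p1101 : Tr := .node (.node (.node (.node (.node (.node (.node (.node (.leaf 0) (.leaf 0)) (.node (.leaf 0) (.leaf 0))) (.node (.node (.leaf 0) (.leaf 0)) (.node (.leaf 0) (.leaf 0)))) (.node (.node (.node (.leaf 0) (.leaf 0)) (.node (.leaf 0) (.leaf 0))) (.node (.node (.leaf 0) (.leaf 0)) (.node (.leaf 0) (.leaf 0))))) (.node (.node (.node (.node (.leaf 0) (.leaf 0)) (.node (.leaf 0) (.leaf 0))) (.node (.node (.leaf 0) (.leaf 0)) (.node (.leaf 0) (.leaf 0)))) (.node (.node (.node (.leaf 0) (.leaf 0)) (.node (.leaf 0) (.leaf 0))) (.node (.node (.leaf 0) (.leaf 0)) (.node (.leaf 0) (.leaf 0)))))) (.node (.node (.node (.node (.node (.leaf 0) (.leaf 0)) (.node (.leaf 0) (.leaf 0))) (.node (.node (.leaf 0) (.leaf 0)) (.node (.leaf 0) (.leaf 0)))) (.node (.node (.node (.leaf 0) (.leaf 0)) (.node (.leaf 0) (.leaf 0))) (.node (.node (.leaf 0) (.leaf 0)) (.node (.leaf 0) (.leaf 0))))) (.node (.node (.node (.node (.leaf 0) (.leaf 0)) (.node (.leaf 0) (.leaf 0))) (.node (.node (.leaf 0) (.leaf 0)) (.node (.leaf 0) (.leaf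 0)))) (.node (.node (.node (.leaf 0) (.leaf 0)) (.node (.leaf 0) (.leaf 0))) (.node (.node (.leaf 301535416585) (.leaf 0)) (.node (.leaf 0) (.leaf 0))))))) (.node (.node (.node (.node (.node (.node (.leaf 0) (.leaf 0)) (.node (.leaf 0) (.leaf 0))) (.node (.node (.leaf 0) (.leaf 0)) (.node (.leaf 0) (.leaf 0)))) (.node (.node (.node (.leaf 0) (.leaf 0)) (.node (.leaf 0) (.leaf 0))) (.node (.node (.leaf 0) (.leaf 0)) (.node (.leaf 0) (.leaf 0))))) (.node (.node (.node (.node (.leaf 0) (.leaf 0)) (.node (.leaf 0) (.leaf 0))) (.node (.node (.leaf 0) (.leaf 0)) (.node (.leaf 0) (.leaf 0)))) (.node (.node (.node (.leaf 0) (.leaf 0)) (.node (.leaf 0) (.leaf 0))) (.node (.node (.leaf 0) (.leaf 0)) (.node (.leaf 0) (.leaf 0)))))) (.node (.node (.node (.node (.node (.leaf 0) (.leaf 0)) (.node (.leaf 0) (.leaf 0))) (.node (.node (.leaf 0) (.leaf 0)) (.node (.leaf 0) (.leaf 0)))) (.node (.node (.node (.leaf 0) (.leaf 0)) (.node (.leaf 0) (.leaf 0))) (.node (.node (.leaf 0) (.leaf 0)) (.node (.leaf 0) (.leaf 0))))) (.node (.node (.node (.node (.leaf 0) (.leaf 0))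 (.node (.leaf 0) (.leaf 0))) (.node (.node (.leaf 0) (.leaf 0)) (.node (.leaf 0) (.leaf 0)))) (.node (.node (.node (.leaf 0) (.leaf 0)) (.node (.leaf 0) (.leaf 0))) (.node (.node (.leaf 0) (.leaf 0)) (.node (.leaf 0) (.leaf 0)))))))) (.node (.node (.node (.node (.node (.node (.node (.leaf 0) (.leaf 0)) (.node (.leaf 0) (.leaf 0))) (.node (.node (.leaf 0) (.leaf 0)) (.node (.leaf 0) (.leaf 0)))) (.node (.node (.node (.leaf 0) (.leaf 0)) (.node (.leaf 0) (.leaf 0))) (.node (.node (.leaf 0) (.leaf 0)) (.node (.leaf 0) (.leaf 0))))) (.node (.node (.node (.node (.leaf 0) (.leaf 0)) (.node (.leaf 0) (.leaf 0))) (.node (.node (.leaf 0) (.leaf 0)) (.node (.leaf 0) (.leaf 0)))) (.node (.node (.node (.leaf 0) (.leaf 0)) (.node (.leaf 0) (.leaf 0))) (.node (.node (.leaf 0) (.leaf 0)) (.node (.leaf 0) (.leaf 0)))))) (.node (.node (.node (.node (.node (.leaf 0) (.leaf 0)) (.node (.leaf 0) (.leaf 0))) (.node (.node (.leaf 0) (.leaf 0)) (.node (.leaf 0) (.leaf 0)))) (.node (.node (.node (.leaf 0) (.leaf 0)) (.node (.leaf 0) (.leaf 0))) (.node (.node (.leaf 0) (.leaf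 0)) (.node (.leaf 0) (.leaf 0))))) (.node (.node (.node (.node (.leaf 0) (.leaf 0)) (.node (.leaf 0) (.leaf 0))) (.node (.node (.leaf 0) (.leaf 0)) (.node (.leaf 0) (.leaf 0)))) (.node (.node (.node (.leaf 0) (.leaf 0)) (.node (.leaf 0) (.leaf 0))) (.node (.node (.leaf 0) (.leaf 0)) (.node (.leaf 0) (.leaf 0))))))) (.node (.node (.node (.node (.node (.node (.leaf 0) (.leaf 0)) (.node (.leaf 0) (.leaf 0))) (.node (.node (.leaf 0) (.leaf 0)) (.node (.leaf 0) (.leaf 0)))) (.node (.node (.node (.leaf 0) (.leaf 0)) (.node (.leaf 0) (.leaf 0))) (.node (.node (.leaf 0) (.leaf 0)) (.node (.leaf 0) (.leaf 0))))) (.node (.node (.node (.node (.leaf 0) (.leaf 0)) (.node (.leaf 0) (.leaf 0))) (.node (.node (.leaf 0) (.leaf 316166721809)) (.node (.leaf 0) (.leaf 0)))) (.node (.node (.node (.leaf 0) (.leaf 0)) (.node (.leaf 0) (.leaf 0))) (.node (.node (.leaf 0) (.leaf 0)) (.node (.leaf 0) (.leaf 0)))))) (.node (.node (.node (.node (.node (.leaf 0) (.leaf 0)) (.node (.leaf 0) (.leaf 0))) (.node (.node (.leaf 0) (.leaf 0)) (.node (.leaf 0) (.leaf 0)))) (.node (.node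 (.node (.leaf 0) (.leaf 0)) (.node (.leaf 0) (.leaf 0))) (.node (.node (.leaf 0) (.leaf 0)) (.node (.leaf 0) (.leaf 0))))) (.node (.node (.node (.node (.leaf 0) (.leaf 0)) (.node (.leaf 0) (.leaf 0))) (.node (.node (.leaf 0) (.leaf 0)) (.node (.leaf 0) (.leaf 0)))) (.node (.node (.node (.leaf 0) (.leaf 0)) (.node (.leaf 0) (.leaf 0))) (.node (.node (.leaf 0) (.leaf 0)) (.node (.leaf 0) (.leaf 0))))))))

/-- Part of `hintATwo`. -/
def hintATwo_p1110 : Tr := .node (.node (.node (.node (.node (.node (.node (.node (.leaf 0) (.leaf 0)) (.node (.leaf 0) (.leaf 0))) (.node (.node (.leaf 0) (.leaf 0)) (.node (.leaf 0) (.leaf 0)))) (.node (.node (.node (.leaf 0) (.leaf 0)) (.node (.leaf 0) (.leaf 0))) (.node (.node (.leaf 0) (.leaf 0)) (.node (.leaf 0) (.leaf 0))))) (.node (.node (.node (.node (.leaf 0) (.leaf 0)) (.node (.leaf 0) (.leaf 0))) (.node (.node (.leaf 0) (.leaf 0)) (.node (.leaf 0) (.leaf 0)))) (.node (.node (.node (.leaf 0) (.leaf 0)) (.node (.leaf 0) (.leaf 0))) (.node (.node (.leaf 0) (.leaf 0)) (.node (.leaf 0) (.leaf 0)))))) (.node (.node (.node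 (.node (.node (.leaf 0) (.leaf 0)) (.node (.leaf 0) (.leaf 0))) (.node (.node (.leaf 0) (.leaf 0)) (.node (.leaf 0) (.leaf 0)))) (.node (.node (.node (.leaf 0) (.leaf 0)) (.node (.leaf 0) (.leaf 0))) (.node (.node (.leaf 0) (.leaf 0)) (.node (.leaf 0) (.leaf 0))))) (.node (.node (.node (.node (.leaf 0) (.leaf 0)) (.node (.leaf 0) (.leaf 0))) (.node (.node (.leaf 0) (.leaf 0)) (.node (.leaf 0) (.leaf 0)))) (.node (.node (.node (.leaf 0) (.leaf 0)) (.node (.leaf 0) (.leaf 0))) (.node (.node (.leaf 0) (.leaf 0)) (.node (.leaf 0) (.leaf 0))))))) (.node (.node (.node (.node (.node (.node (.leaf 0) (.leaf 0)) (.node (.leaf 0) (.leaf 0))) (.node (.node (.leaf 0) (.leaf 0)) (.node (.leaf 0) (.leaf 0)))) (.node (.node (.node (.leaf 0) (.leaf 0)) (.node (.leaf 0) (.leaf 0))) (.node (.node (.leaf 0) (.leaf 0)) (.node (.leaf 0) (.leaf 0))))) (.node (.node (.node (.node (.leaf 0) (.leaf 0)) (.node (.leaf 0) (.leaf 0))) (.node (.node (.leaf 0) (.leaf 0)) (.node (.leaf 0) (.leaf 0)))) (.node (.node (.node (.leaf 0) (.leaf 0)) (.node (.leaf 0) (.leaf 0))) (.node (.node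 (.leaf 0) (.leaf 0)) (.node (.leaf 0) (.leaf 0)))))) (.node (.node (.node (.node (.node (.leaf 0) (.leaf 0)) (.node (.leaf 0) (.leaf 0))) (.node (.node (.leaf 0) (.leaf 0)) (.node (.leaf 0) (.leaf 0)))) (.node (.node (.node (.leaf 0) (.leaf 0)) (.node (.leaf 0) (.leaf 0))) (.node (.node (.leaf 0) (.leaf 0)) (.node (.leaf 0) (.leaf 0))))) (.node (.node (.node (.node (.leaf 0) (.leaf 0)) (.node (.leaf 0) (.leaf 0))) (.node (.node (.leaf 0) (.leaf 0)) (.node (.leaf 0) (.leaf 0)))) (.node (.node (.node (.leaf 0) (.leaf 0)) (.node (.leaf 0) (.leaf 0))) (.node (.node (.leaf 0) (.leaf 0)) (.node (.leaf 0) (.leaf 0)))))))) (.node (.node (.node (.node (.node (.node (.node (.leaf 0) (.leaf 0)) (.node (.leaf 0) (.leaf 0))) (.node (.node (.leaf 0) (.leaf 0)) (.node (.leaf 0) (.leaf 0)))) (.node (.node (.node (.leaf 0) (.leaf 0)) (.node (.leaf 0) (.leaf 0))) (.node (.node (.leaf 0) (.leaf 0)) (.node (.leaf 0) (.leaf 0))))) (.node (.node (.node (.node (.leaf 0) (.leaf 0)) (.node (.leaf 0) (.leaf 0))) (.node (.node (.leaf 0) (.leaf 0)) (.node (.leaf 0) (.leaf 0))))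 (.node (.node (.node (.leaf 0) (.leaf 0)) (.node (.leaf 0) (.leaf 0))) (.node (.node (.leaf 0) (.leaf 0)) (.node (.leaf 0) (.leaf 0)))))) (.node (.node (.node (.node (.node (.leaf 0) (.leaf 0)) (.node (.leaf 0) (.leaf 0))) (.node (.node (.leaf 0) (.leaf 0)) (.node (.leaf 0) (.leaf 0)))) (.node (.node (.node (.leaf 0) (.leaf 0)) (.node (.leaf 0) (.leaf 0))) (.node (.node (.leaf 0) (.leaf 0)) (.node (.leaf 0) (.leaf 0))))) (.node (.node (.node (.node (.leaf 0) (.leaf 0)) (.node (.leaf 0) (.leaf 0))) (.node (.node (.leaf 0) (.leaf 0)) (.node (.leaf 0) (.leaf 0)))) (.node (.node (.node (.leaf 0) (.leaf 0)) (.node (.leaf 0) (.leaf 0))) (.node (.node (.leaf 0) (.leaf 0)) (.node (.leaf 0) (.leaf 0))))))) (.node (.node (.node (.node (.node (.node (.leaf 0) (.leaf 0)) (.node (.leaf 0) (.leaf 0))) (.node (.node (.leaf 0) (.leaf 0)) (.node (.leaf 0) (.leaf 0)))) (.node (.node (.node (.leaf 0) (.leaf 0)) (.node (.leaf 0) (.leaf 0))) (.node (.node (.leaf 0) (.leaf 0)) (.node (.leaf 0) (.leaf 0))))) (.node (.node (.node (.node (.leaf 0) (.leaf 0)) (.node (.leaf 0)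 (.leaf 0))) (.node (.node (.leaf 0) (.leaf 0)) (.node (.leaf 0) (.leaf 0)))) (.node (.node (.node (.leaf 0) (.leaf 0)) (.node (.leaf 0) (.leaf 0))) (.node (.node (.leaf 0) (.leaf 0)) (.node (.leaf 0) (.leaf 0)))))) (.node (.node (.node (.node (.node (.leaf 0) (.leaf 0)) (.node (.leaf 0) (.leaf 0))) (.node (.node (.leaf 0) (.leaf 0)) (.node (.leaf 0) (.leaf 0)))) (.node (.node (.node (.leaf 0) (.leaf 0)) (.node (.leaf 0) (.leaf 0))) (.node (.node (.leaf 0) (.leaf 0)) (.node (.leaf 0) (.leaf 0))))) (.node (.node (.node (.node (.leaf 0) (.leaf 0)) (.node (.leaf 0) (.leaf 0))) (.node (.node (.leaf 0) (.leaf 0)) (.node (.leaf 0) (.leaf 0)))) (.node (.node (.node (.leaf 0) (.leaf 0)) (.node (.leaf 0) (.leaf 0))) (.node (.node (.leaf 0) (.leaf 0)) (.node (.leaf 0) (.leaf 0))))))))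

/-- Part of `hintATwo`. -/
def hintATwo_p1111 : Tr := .node (.node (.node (.node (.node (.node (.node (.node (.leaf 0) (.leaf 0)) (.node (.leaf 0) (.leaf 0))) (.node (.node (.leaf 0) (.leaf 0)) (.node (.leaf 0) (.leaf 0)))) (.node (.node (.node (.leaf 0) (.leaf 0)) (.node (.leaf 0) (.leaf 0))) (.node (.node (.leaf 0) (.leaf 0)) (.node (.leaf 0) (.leaf 0))))) (.node (.node (.node (.node (.leaf 0) (.leaf 0)) (.node (.leaf 0) (.leaf 0))) (.node (.node (.leaf 0) (.leaf 0)) (.node (.leaf 0) (.leaf 0)))) (.node (.node (.node (.leaf 0) (.leaf 0)) (.node (.leaf 0) (.leaf 0))) (.node (.node (.leaf 0) (.leaf 0)) (.node (.leaf 0) (.leaf 0)))))) (.node (.node (.node (.node (.node (.leaf 0) (.leaf 0)) (.node (.leaf 0) (.leaf 0))) (.node (.node (.leaf 0) (.leaf 0)) (.node (.leaf 0) (.leaf 0)))) (.node (.node (.node (.leaf 0) (.leaf 0)) (.node (.leaf 0) (.leaf 751817085575))) (.node (.node (.leaf 0) (.leaf 0)) (.node (.leaf 0) (.leaf 0))))) (.node (.node (.node (.node (.leaf 0) (.leaf 0)) (.node (.leaf 0) (.leaf 0))) (.node (.node (.leaf 0) (.leaf 0)) (.node (.leaf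 0) (.leaf 0)))) (.node (.node (.node (.leaf 0) (.leaf 0)) (.node (.leaf 0) (.leaf 0))) (.node (.node (.leaf 0) (.leaf 0)) (.node (.leaf 0) (.leaf 0))))))) (.node (.node (.node (.node (.node (.node (.leaf 0) (.leaf 0)) (.node (.leaf 0) (.leaf 0))) (.node (.node (.leaf 0) (.leaf 0)) (.node (.leaf 0) (.leaf 0)))) (.node (.node (.node (.leaf 0) (.leaf 0)) (.node (.leaf 0) (.leaf 0))) (.node (.node (.leaf 0) (.leaf 0)) (.node (.leaf 0) (.leaf 0))))) (.node (.node (.node (.node (.leaf 0) (.leaf 0)) (.node (.leaf 0) (.leaf 0))) (.node (.node (.leaf 0) (.leaf 0)) (.node (.leaf 0) (.leaf 0)))) (.node (.node (.node (.leaf 0) (.leaf 0)) (.node (.leaf 0) (.leaf 0))) (.node (.node (.leaf 0) (.leaf 0)) (.node (.leaf 0) (.leaf 0)))))) (.node (.node (.node (.node (.node (.leaf 0) (.leaf 0)) (.node (.leaf 0) (.leaf 0))) (.node (.node (.leaf 0) (.leaf 0)) (.node (.leaf 0) (.leaf 468300853660)))) (.node (.node (.node (.leaf 0) (.leaf 0)) (.node (.leaf 0) (.leaf 0))) (.node (.node (.leaf 0) (.leaf 0)) (.node (.leaf 0) (.leaf 0))))) (.node (.node (.node (.node (.leaf 0)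 (.leaf 0)) (.node (.leaf 0) (.leaf 0))) (.node (.node (.leaf 0) (.leaf 0)) (.node (.leaf 0) (.leaf 0)))) (.node (.node (.node (.leaf 0) (.leaf 0)) (.node (.leaf 0) (.leaf 0))) (.node (.node (.leaf 0) (.leaf 0)) (.node (.leaf 0) (.leaf 0)))))))) (.node (.node (.node (.node (.node (.node (.node (.leaf 0) (.leaf 0)) (.node (.leaf 0) (.leaf 0))) (.node (.node (.leaf 0) (.leaf 0)) (.node (.leaf 0) (.leaf 0)))) (.node (.node (.node (.leaf 0) (.leaf 0)) (.node (.leaf 0) (.leaf 0))) (.node (.node (.leaf 0) (.leaf 0)) (.node (.leaf 0) (.leaf 0))))) (.node (.node (.node (.node (.leaf 0) (.leaf 0)) (.node (.leaf 0) (.leaf 0))) (.node (.node (.leaf 0) (.leaf 0)) (.node (.leaf 0) (.leaf 0)))) (.node (.node (.node (.leaf 0) (.leaf 0)) (.node (.leaf 0) (.leaf 0))) (.node (.node (.leaf 0) (.leaf 0)) (.node (.leaf 0) (.leaf 0)))))) (.node (.node (.node (.node (.node (.leaf 0) (.leaf 0)) (.node (.leaf 0) (.leaf 0))) (.node (.node (.leaf 0) (.leaf 0)) (.node (.leaf 0) (.leaf 0)))) (.node (.node (.node (.leaf 0) (.leaf 0)) (.node (.leaf 0) (.leaf 0))) (.node (.node (.leaf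 0) (.leaf 0)) (.node (.leaf 0) (.leaf 0))))) (.node (.node (.node (.node (.leaf 0) (.leaf 0)) (.node (.leaf 0) (.leaf 0))) (.node (.node (.leaf 0) (.leaf 0)) (.node (.leaf 0) (.leaf 0)))) (.node (.node (.node (.leaf 0) (.leaf 0)) (.node (.leaf 0) (.leaf 0))) (.node (.node (.leaf 0) (.leaf 0)) (.node (.leaf 0) (.leaf 0))))))) (.node (.node (.node (.node (.node (.node (.leaf 0) (.leaf 0)) (.node (.leaf 0) (.leaf 0))) (.node (.node (.leaf 0) (.leaf 0)) (.node (.leaf 0) (.leaf 0)))) (.node (.node (.node (.leaf 0) (.leaf 0)) (.node (.leaf 0) (.leaf 0))) (.node (.node (.leaf 0) (.leaf 0)) (.node (.leaf 0) (.leaf 0))))) (.node (.node (.node (.node (.leaf 0) (.leaf 0)) (.node (.leaf 0) (.leaf 0))) (.node (.node (.leaf 0) (.leaf 0)) (.node (.leaf 0) (.leaf 0)))) (.node (.node (.node (.leaf 0) (.leaf 0)) (.node (.leaf 0) (.leaf 0))) (.node (.node (.leaf 0) (.leaf 0)) (.node (.leaf 0) (.leaf 0)))))) (.node (.node (.node (.node (.node (.leaf 0) (.leaf 0)) (.node (.leaf 0) (.leaf 0))) (.node (.node (.leaf 0) (.leaf 0)) (.node (.leaf 0) (.leaf 0)))) (.node (.node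 (.node (.leaf 0) (.leaf 0)) (.node (.leaf 0) (.leaf 0))) (.node (.node (.leaf 0) (.leaf 0)) (.node (.leaf 0) (.leaf 0))))) (.node (.node (.node (.node (.leaf 0) (.leaf 0)) (.node (.leaf 0) (.leaf 0))) (.node (.node (.leaf 0) (.leaf 0)) (.node (.leaf 0) (.leaf 0)))) (.node (.node (.node (.leaf 0) (.leaf 0)) (.node (.leaf 0) (.leaf 0))) (.node (.node (.leaf 0) (.leaf 0)) (.node (.leaf 0) (.leaf 0))))))))

/-- Third coordinates and positions for the centraliser of the element of order 29. -/
def hintATwo : Tr := (.node (.node (.node (.node hintATwo_p0000 hintATwo_p0001) (.node hintATwo_p0010 hintATwo_p0011)) (.node (.node hintATwo_p0100 hintATwo_p0101) (.node hintATwo_p0110 hintATwo_p0111))) (.node (.node (.node hintATwo_p1000 hintATwo_p1001) (.node hintATwo_p1010 hintATwo_p1011)) (.node (.node hintATwo_p1100 hintATwo_p1101) (.node hintATwo_p1110 hintATwo_p1111))))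

/-- The centraliser of the element of order 29. -/
def centA : List ℕ :=
  [0x8000000400000020000001000000080000004000000200000010000000800000040000002000000100000008000000400000020000001000000080000004000000200000010000000800000040000002000000100000008000000400000020000001, 0xa8600f070fef79a2ed7c378c262641a59e659b9d063a8a2fbf3fef6631afbb817e55a91738ae4a6a686083d3416537e970ea888b5d038a188b68f408398b7396ac7d3e453283baf50ce60267304e549b2141a947bead73684a024631a720dd6df68a, 0xaa137a9c974624fe2856fa579c67336d42163cd5c4ba3d44bed2f7a9b70f5c6e659491211d81940a4b95cc78fee8dd5aff7129282361d4d55a193a073d722549fffdea39214c55e61ac06f341bbbdf150c8d8e88b0e037ec76bebad7abac9d4f9dce, 0x488c6c1993512e7ae164752a7be3dcbf2443eb027153a67b330fd077255f48c729306262946be2c0b10e0d47b929bba7801d48c40f9f8f686a58b4bc362d85bed1574f53fe704d28fe6533472c4b450b762ed1f6389f75f1f8ff39f9b60e172cee88, 0x7807518393412954b10f4e025a471d192ff541a10e9d2ae66ee3e199518f5c8d0c945d5b2ef5b8255789b143270c98c9cb7e45cc01433b6e0d43485be1750389057fb89b16e6b3bbc6e32eb206e449064909793fabe5673b45add0f88c3d8c5c6e0f,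 0x3ceea39eb328e536ac662218834ffa2080a75a156e5d758f2f4027b93ccd8ff63475bfad2ef4420be34c80aef2f848c971ba0f991acf74e551a485d726af95cc5fc28969cf55bfcf166c5de0c129a123c8b270c8445d3616cd0a343434e3a2e0d56e, 0xc3d493a152bd5f08129cdd6b6309bf035f7f187f3fe3747947c5a58b0304eca73a3f3aa7d13f7a55e167810bfd352ab1f05ff240b4d4130c2941477428d85cc5838aa56d8bd1cf68173435461998f957dcc75ec2b74935e98b22fb3cb9aa054c7e52, 0x4fc6b2648e161c05b1230f0378a4ad29ae17181564400a63ef1903b023c5b72ce8bf4efa16eb6830f3fb002096167fa65bcec7d8b761a8e6ada53f31f029c4b152f817e867f3af41ec34b1f6c8cd1622fc665212f84cb37d184570a08dd8bae4c02a, 0xb17f750b3342f1a5c1280d12f1adcef6c7c8f8833fedf89c7adc3869811450df200ce14bf672e2676b726bd66aaccaea301dea4cad48cf1ad1bce9b4e30e745eea308c431fbaa23781c829d0f11242c9519da0daba46cdbc7e069ff00dc13ccfd12a, 0xbfce2aec57748116f67b14ae93ba7090c6e2f2130caa60742c81da1bca15dc0bf944bee37e0e9f72f22d0170e7b025cd543c0161a34e09ef81443bfb53b65fb4edf909a071b076be4a9ba185a65b6076cc46b13d409ee5663573c5ed9f029ea5344a, 0xca85b77f728c4fa18bb5be26c0a66e589073b6540fb2f017d7cfabd1f97a20997f6462e35d1ab4eef7b80d77287f5b0982926502c3f410d1f297c1e90feb241107623d507bc4a01494564debd42f563ea2b1eac96306ce4f43c6f9adc214b0b9eadc,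 0x3f97ba9549f63250186f7acae8443e43004aedadc40b126cbdae4d30690a8d44332d6b6d8be480935a0357221670859e8b66fbf1b3b54bb461b2b2933f95e28b1dc52093a2f66e8330fed3063656d973a3adbe3709010f52e313f67b68237d53c031, 0x810150cc5712facc4f62ed3647b6eb4ed4b5491913ca9206050e627bd47debd4ed1125b2c184d8e4c7b371386c5ffcd1a5439870ea6aa726320a6b65a9333e474c4f458ca2e1626b2f7c37a50143ced066eaf4ffed0ed2d7e8615a56e717558bd41d, 0xb2c6db62396b55342e07b3aff18d1043651b59aa7f5eef1c3d7485d416bffc65e2ab0981ce8d49f6ed3d901cd3d9fbc2b84db8c450839f19850314d3c436add5331c0dd8e1767414a40851703249f1e6b9fdb6a24f4f561e64c44e10591210e57a61, 0x90c424d524c612db3884361cdd6a514c2bc737c8f252cdc410f92972c8121267998356f1eadd97a3fb78ccb8155de71abea8576fc2d4f94a94e544b158fb52cbe93dcc9a88345410313da72d569c2b5303f45fe6b081f5fa6b8b540e3405be7b9252, 0x45956d1b164f330b0ca67bbd027085aaa4a6c8ac4e03877cbef38a1d8ea8b46c3fee3e494d7b79627586974ca9648ee14dea1ce41395937a32346f8504f29aced5a9a9737523baddd6423a7dfef04eeafeb6087a5dc742141c7aefdafd91eedc6c79, 0xd66090e9da153f6db03649e50c5c0a32e7a8aedd9af04217b75a9fc8cd3e4dbfac4af6b92bc6dbb1a4bbf6fa8fab78b14d579dc742c462ebc97636dfdb11efa0de913d27cd1e24ce5ae6fde6e0fc41fdde27fdb9e591ae71f7bb35bff7800b26df35,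 0xa7233a12d1fee661ed39405b62300b070322fee26478325876b9b205ac4352324f4dc3a41f2810f959541bf2cd702e9ac4b955cd24f1cd61c5177c914fbbf62c1d4921f139957ffb6f63801089856491d68f55607d9e3f447140e4d6550603ab3e87, 0x5bfda8a6076a783ed2011398c06ed7ca0da0c27b028f7d2e14b8b12052f0b8a0a3453360b20461487557d261b44e990b90edc6c4045f86cc125e2f829ede4dc936be47b87caab34e1251896772d39c0ed9fb0227dbdfe4699ae71603a7232cf16b0c, 0x7ee9f3ae50a8b74f2125ab8c47bd7dec4a5e2bf89753e17f54f7087bbca3d6c87081a9fdbdb87a8058460259b41bcc5985a72dd822159259a7da0da3f474d9ca53a26f8257f2ee4bef5ffa7a51143afe376d2e7d56c4f4b3019e2899625f6b549f72, 0xcb686932f350c0cd2cb19c9d1487686a1ef3019e16b610e8a874e51d42dad09a123010d7a14b653c5995f9cdbce0845c3a8a8c74e25629dfb99698351493f19d7d10c63189b2cc8b576d7f4d4d0e7222e82433d168f5fb194c3c021cf602b89556bd, 0xd6efa7852dec2ef2d0c197406ecf10f0088fc77e62d19987d6f03b14b021ed20fd9ef5d3ac8d95b73643a864fdf475b8d59c2ffc1942da6e50347d36c8846acef1772c6ab4ae6cbde3d0a786b965287b86a56af582b54ae39b9551caa37d1e61b54b, 0xc961d95f18cdf6267e63df7871fea04691d029385ea88dec414deb0a509496c223719dd2cbb0fec6b066f316466fa8b9df6fc0f1c4e3d8b85bc84e9ff9675ed90e71457415665478569a696dd7efefb3908b7c09beb05b33a2bb02cb758d316303bd,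 0x6e66afa9ab28e8cd367a06ebd811e24057fdc832af283d5808905d8464069fac52c2af86f07eb610d08afc9666f99ecb2fa257e1aa5b7cf45030674e221427bfb5e9b2b0894f7b52d29a6a63d56cb21a7e8778b0c308d9e361c446e6b285a1f72094, 0xe69cdf9e4243c045c720d2cc349c6ac45eeb42a7b7fcb1cdac82e47b326c5d63f4936f52fb797302dc3c5dfcd5993577a4f476703a9eb5689dadcd87f423af63d53dca879c4d10565f8c41cf3f10f68513a3957a12c359089c900b2a6e139c2fd6a9, 0xe749547ba6860948baac85f62dbf8af6d5e44ac48f0e842b4b07babdf123012eef6ae9e509c095a8083f28aea361ba452b058f1b3c393dbafe77635c3c1c5e0012ccaa61751075a062f9935369c6773d3ce9d9d39add30c05cc2f8df186715cf0486, 0x8fe21079b8e8ac711616660a481c5791f8a1023d671c7909d8a6e35c271205cc0e195b101a973f7ef93dbedbb1008b2edaa8a635d9e780d6dc5dc029b7194f43f0af080356a4a0ea814946ceabbd3709fd55686ccb4f973acb6152597d59531637b0, 0x5aa890ecfa0476ef43cfcb17181524ee407279128d0397619540365f2cd0637ceb191a20510e1a531dc9544aa51403d846529af26c7d33b965d66ceddff7269ef6ea73abc70f298c3e70a187e87f6bccb91dcd7c9796818364f5de355558afcb22f9, 0x257918f163df8a395941502853e19030492f44309cd773196d579f24303fc8a7b061610514c6490b4b0584db493f48300d3e58691ac52d0430c11c6fc5849cb3071e9ff8d6864976b246a430d63267bb49db93711f9cf118a9e5d387d2b390260d7b]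

/-- Part of `hintBOne`. -/
def hintBOne_p0000 : Tr := .node (.node (.node (.node (.node (.node (.node (.node (.leaf 8192) (.leaf 86928888017)) (.node (.leaf 1098253682941) (.leaf 323932701364))) (.node (.node (.leaf 687370286481) (.leaf 625458152731)) (.node (.leaf 836905465536) (.leaf 69682843813)))) (.node (.node (.node (.leaf 1073146267859) (.leaf 804810352261)) (.node (.leaf 785663506019) (.leaf 904432080720))) (.node (.node (.leaf 361925063429) (.leaf 777746380375)) (.node (.leaf 654232839497) (.leaf 531377341539))))) (.node (.node (.node (.node (.leaf 795457074803) (.leaf 71506198698)) (.node (.leaf 415449387892) (.leaf 75100139703))) (.node (.node (.leaf 842249291468) (.leaf 685615162764)) (.node (.leaf 98399776996) (.leaf 159573377379)))) (.node (.node (.node (.leaf 894236899125) (.leaf 292762514046)) (.node (.leaf 764506654267) (.leaf 781581157980))) (.node (.node (.leaf 339638915797) (.leaf 699717985718)) (.node (.leaf 768150144579) (.leaf 421547078533)))))) (.node (.node (.node (.node (.node (.leaf 718163281368) (.leaf 493662946337)) (.node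 (.leaf 776465421909) (.leaf 412322030448))) (.node (.node (.leaf 751817086493) (.leaf 57896358024)) (.node (.leaf 529661351009) (.leaf 422021505927)))) (.node (.node (.node (.leaf 190590054828) (.leaf 644509959486)) (.node (.leaf 839573870276) (.leaf 556104492171))) (.node (.node (.leaf 623206933783) (.leaf 298095956610)) (.node (.leaf 584016065736) (.leaf 1042814421136))))) (.node (.node (.node (.node (.leaf 539691123827) (.leaf 543883310202)) (.node (.leaf 843688457932) (.leaf 649013855555))) (.node (.node (.leaf 165170917745) (.leaf 34392490076)) (.node (.leaf 765819618876) (.leaf 285835678311)))) (.node (.node (.node (.leaf 999896524850) (.leaf 932370368414)) (.node (.leaf 205034693066) (.leaf 346385441503))) (.node (.node (.leaf 283909739106) (.leaf 995474970666)) (.node (.leaf 953526265808) (.leaf 697123743150))))))) (.node (.node (.node (.node (.node (.node (.leaf 182755852694) (.leaf 65223344283)) (.node (.leaf 312899334813) (.leaf 665633285467))) (.node (.node (.leaf 342910952155) (.leaf 431607002015)) (.node (.leaf 808461280911) (.leaf 14192513073))))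 (.node (.node (.node (.leaf 165666877810) (.leaf 713710183891)) (.node (.leaf 632527238444) (.leaf 192940708275))) (.node (.node (.leaf 841794717386) (.leaf 902490113869)) (.node (.leaf 1044919195795) (.leaf 309157221011))))) (.node (.node (.node (.node (.leaf 399792214870) (.leaf 873478293257)) (.node (.leaf 554935923846) (.leaf 908373133144))) (.node (.node (.leaf 614964712704) (.leaf 347180466912)) (.node (.leaf 476699726838) (.leaf 1036229372027)))) (.node (.node (.node (.leaf 200269255107) (.leaf 461863420885)) (.node (.leaf 981993846805) (.leaf 839145666243))) (.node (.node (.leaf 326905692858) (.leaf 54838476927)) (.node (.leaf 773535712850) (.leaf 294592897664)))))) (.node (.node (.node (.node (.node (.leaf 641949910330) (.leaf 566041793699)) (.node (.leaf 272330850890) (.leaf 451586864073))) (.node (.node (.leaf 734599939576) (.leaf 259998474795)) (.node (.leaf 764379887162) (.leaf 559986443412)))) (.node (.node (.node (.leaf 664458626392) (.leaf 827777558194)) (.node (.leaf 239347638796) (.leaf 879374178067))) (.node (.node (.leaf 974171031550)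 (.leaf 279547732570)) (.node (.leaf 494071772196) (.leaf 941351585702))))) (.node (.node (.node (.node (.leaf 798404265590) (.leaf 663203964244)) (.node (.leaf 754704422434) (.leaf 545855116412))) (.node (.node (.leaf 669049705826) (.leaf 941351585702)) (.node (.leaf 857100543720) (.leaf 908373133144)))) (.node (.node (.node (.leaf 172493066626) (.leaf 409155101543)) (.node (.leaf 461864252374) (.leaf 630066074919))) (.node (.node (.leaf 156647448926) (.leaf 677944440182)) (.node (.leaf 1063329147064) (.leaf 0)))))))) (.node (.node (.node (.node (.node (.node (.node (.leaf 165666877810) (.leaf 422811288459)) (.node (.leaf 282984997473) (.leaf 980805228565))) (.node (.node (.leaf 902310602572) (.leaf 126240227617)) (.node (.leaf 307446272653) (.leaf 988023814177)))) (.node (.node (.node (.leaf 579307480257) (.leaf 182938988951)) (.node (.leaf 56439632004) (.leaf 76957147322))) (.node (.node (.leaf 578188932285) (.leaf 571012965546)) (.node (.leaf 995474970666) (.leaf 326609597114))))) (.node (.node (.node (.node (.leaf 928568780690) (.leaf 753483802141))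 (.node (.leaf 488871482390) (.leaf 1053220542628))) (.node (.node (.leaf 11641569322) (.leaf 224729768431)) (.node (.leaf 766263150140) (.leaf 829918262965)))) (.node (.node (.node (.leaf 918871357308) (.leaf 968603912174)) (.node (.leaf 728213247468) (.leaf 529015063647))) (.node (.node (.leaf 47310266483) (.leaf 354784916213)) (.node (.leaf 495242363945) (.leaf 727596525035)))))) (.node (.node (.node (.node (.node (.leaf 505829766210) (.leaf 20408119361)) (.node (.leaf 502765229114) (.leaf 591370044630))) (.node (.node (.leaf 1063273629880) (.leaf 1082306210019)) (.node (.leaf 858312959724) (.leaf 488389624852)))) (.node (.node (.node (.leaf 591950697687) (.leaf 14252023859)) (.node (.leaf 1048539707544) (.leaf 494345245733))) (.node (.node (.leaf 169731432828) (.leaf 265076834868)) (.node (.leaf 436742022057) (.leaf 1073927362775))))) (.node (.node (.node (.node (.leaf 656234685772) (.leaf 421547078533)) (.node (.leaf 173686452611) (.leaf 380933509932))) (.node (.node (.leaf 665612424538) (.leaf 1056245119152)) (.node (.leaf 772327003728) (.leaf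 270170907202)))) (.node (.node (.node (.leaf 189053084070) (.leaf 551636604034)) (.node (.leaf 216392409564) (.leaf 628017673504))) (.node (.node (.leaf 203661103559) (.leaf 559986443412)) (.node (.leaf 287578882674) (.leaf 754604295712))))))) (.node (.node (.node (.node (.node (.node (.leaf 476631753717) (.leaf 536821331054)) (.node (.leaf 128220246310) (.leaf 219938370021))) (.node (.node (.leaf 835629516476) (.leaf 130285797674)) (.node (.leaf 1091685423349) (.leaf 269152223809)))) (.node (.node (.node (.leaf 316198060707) (.leaf 708064191944)) (.node (.leaf 1049014315162) (.leaf 123863212318))) (.node (.node (.leaf 471729034212) (.leaf 246801408541)) (.node (.leaf 539691123827) (.leaf 540750431348))))) (.node (.node (.node (.node (.leaf 949035022271) (.leaf 408325788517)) (.node (.leaf 977663268880) (.leaf 977283606540))) (.node (.node (.leaf 72164253869) (.leaf 995474970666)) (.node (.leaf 844013582029) (.leaf 1013246707783)))) (.node (.node (.node (.leaf 44263686257) (.leaf 412647338864)) (.node (.leaf 969991690227) (.leaf 566559642787))) (.node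 (.node (.leaf 395485238094) (.leaf 806169970315)) (.node (.leaf 1058649036979) (.leaf 64827310235)))))) (.node (.node (.node (.node (.node (.leaf 901343807308) (.leaf 1096906709245)) (.node (.leaf 314154164894) (.leaf 634545755439))) (.node (.node (.leaf 244551315990) (.leaf 671356204390)) (.node (.leaf 907888621398) (.leaf 639789040952)))) (.node (.node (.node (.leaf 380261790506) (.leaf 353430008560)) (.node (.leaf 950531946438) (.leaf 1090495305970))) (.node (.node (.leaf 14238900274) (.leaf 460257780691)) (.node (.leaf 890690942766) (.leaf 379640578855))))) (.node (.node (.node (.node (.leaf 998392326191) (.leaf 41086341222)) (.node (.leaf 425532416914) (.leaf 792775788143))) (.node (.node (.leaf 78169243835) (.leaf 441819706292)) (.node (.leaf 141242073412) (.leaf 356689437434)))) (.node (.node (.node (.leaf 825062897328) (.leaf 276093035088)) (.node (.leaf 246113853977) (.leaf 268884943424))) (.node (.node (.leaf 282157597281) (.leaf 398197130068)) (.node (.leaf 964744615910) (.leaf 0))))))))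

/-- Part of `hintBOne`. -/
def hintBOne_p0001 : Tr := .node (.node (.node (.node (.node (.node (.node (.node (.leaf 690377950619) (.leaf 535886435436)) (.node (.leaf 218822472165) (.leaf 677394630004))) (.node (.node (.leaf 439888499631) (.leaf 984089647126)) (.node (.leaf 991407163429) (.leaf 219877609957)))) (.node (.node (.node (.leaf 1029876291691) (.leaf 177112015242)) (.node (.leaf 180415562130) (.leaf 712745149905))) (.node (.node (.leaf 200057250242) (.leaf 755777373731)) (.node (.leaf 967916541934) (.leaf 427285820312))))) (.node (.node (.node (.node (.leaf 168057987446) (.leaf 998392326191)) (.node (.leaf 497293579310) (.leaf 538895811698))) (.node (.node (.leaf 844013582029) (.leaf 555205710984)) (.node (.leaf 117296505104) (.leaf 516426150993)))) (.node (.node (.node (.leaf 204289147337) (.leaf 483219637254)) (.node (.leaf 776401004116) (.leaf 408930722662))) (.node (.node (.leaf 603950142694) (.leaf 830253205173)) (.node (.leaf 699090064819) (.leaf 295186268801)))))) (.node (.node (.node (.node (.node (.leaf 39693738084) (.leaf 463319507928))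 (.node (.leaf 178223944076) (.leaf 242683855378))) (.node (.node (.leaf 762243175987) (.leaf 658956133712)) (.node (.leaf 497815692335) (.leaf 658956133712)))) (.node (.node (.node (.leaf 768295097923) (.leaf 276913549908)) (.node (.leaf 938943817636) (.leaf 537854362735))) (.node (.node (.leaf 307533308558) (.leaf 162171441513)) (.node (.leaf 450082165704) (.leaf 274555920976))))) (.node (.node (.node (.node (.leaf 855642592996) (.leaf 133533679927)) (.node (.leaf 658956133712) (.leaf 33281732700))) (.node (.node (.leaf 1003449604151) (.leaf 640714818872)) (.node (.leaf 224001065455) (.leaf 61193302161)))) (.node (.node (.node (.leaf 167155888500) (.leaf 365647459086)) (.node (.leaf 568524850340) (.leaf 687103595919))) (.node (.node (.leaf 955067164626) (.leaf 812251518618)) (.node (.leaf 104478425328) (.leaf 817994823331))))))) (.node (.node (.node (.node (.node (.node (.leaf 1050253310111) (.leaf 3536207889)) (.node (.leaf 379640578855) (.leaf 17923018812))) (.node (.node (.leaf 479219823615) (.leaf 753306961437)) (.node (.leaf 466570437598) (.leaf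 236426326531)))) (.node (.node (.node (.leaf 434505655200) (.leaf 103878136047)) (.node (.leaf 504801408065) (.leaf 479291716608))) (.node (.node (.leaf 387906155326) (.leaf 920727177088)) (.node (.leaf 265765438008) (.leaf 876926813966))))) (.node (.node (.node (.node (.leaf 1032370624623) (.leaf 753306961437)) (.node (.leaf 95988965602) (.leaf 263527473714))) (.node (.node (.leaf 121448935704) (.leaf 761435059759)) (.node (.leaf 747597395478) (.leaf 694083311014)))) (.node (.node (.node (.leaf 166503842164) (.leaf 8192)) (.node (.leaf 759828186669) (.leaf 375904887586))) (.node (.node (.leaf 809509783190) (.leaf 608362804466)) (.node (.leaf 1086809020652) (.leaf 245083021847)))))) (.node (.node (.node (.node (.node (.leaf 644693730623) (.leaf 596781847772)) (.node (.leaf 24430379081) (.leaf 63726895256))) (.node (.node (.leaf 189844181418) (.leaf 273512817231)) (.node (.leaf 1069281519819) (.leaf 776799966805)))) (.node (.node (.node (.leaf 631558927657) (.leaf 995705710635)) (.node (.leaf 20118364225) (.leaf 555041285256))) (.node (.node (.leaf 363359933193)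 (.leaf 706320094663)) (.node (.leaf 572445439151) (.leaf 476631753717))))) (.node (.node (.node (.node (.leaf 743392622095) (.leaf 188863861157)) (.node (.leaf 464691274713) (.leaf 37889822817))) (.node (.node (.leaf 944455071665) (.leaf 382665335600)) (.node (.leaf 324440576693) (.leaf 487593153555)))) (.node (.node (.node (.leaf 311322448536) (.leaf 236985160196)) (.node (.leaf 215338922457) (.leaf 923384743813))) (.node (.node (.leaf 3858092049) (.leaf 695459198378)) (.node (.leaf 122184978715) (.leaf 0)))))))) (.node (.node (.node (.node (.node (.node (.node (.leaf 634814858544) (.leaf 732252812790)) (.node (.leaf 133533077815) (.leaf 727965386219))) (.node (.node (.leaf 1013845317704) (.leaf 721529112027)) (.node (.leaf 554686596229) (.leaf 585777829069)))) (.node (.node (.node (.leaf 317007168164) (.leaf 1081684011234)) (.node (.leaf 361501491973) (.leaf 290759996026))) (.node (.node (.leaf 660314678609) (.leaf 31142617174)) (.node (.leaf 967123769321) (.leaf 229712601592))))) (.node (.node (.node (.node (.leaf 273512817231) (.leaf 714842154453))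 (.node (.leaf 267053519419) (.leaf 1089764014321))) (.node (.node (.leaf 502783358011) (.leaf 180415562130)) (.node (.leaf 118854803731) (.leaf 488090555411)))) (.node (.node (.node (.leaf 384956035899) (.leaf 68574580900)) (.node (.leaf 617652471048) (.leaf 207030755788))) (.node (.node (.leaf 1016422606926) (.leaf 1014664562761)) (.node (.leaf 1005472036922) (.leaf 1049906800798)))))) (.node (.node (.node (.node (.node (.leaf 80077840576) (.leaf 1014664562761)) (.node (.leaf 509513999427) (.leaf 282087010912))) (.node (.node (.leaf 70969778344) (.leaf 188072247716)) (.node (.leaf 382130111278) (.leaf 1014749100107)))) (.node (.node (.node (.leaf 852092180185) (.leaf 869354149632)) (.node (.leaf 864810133238) (.leaf 678633039223))) (.node (.node (.leaf 978356434962) (.leaf 243288732180)) (.node (.leaf 677526009205) (.leaf 669008913762))))) (.node (.node (.node (.node (.leaf 224001065455) (.leaf 601314075872)) (.node (.leaf 630551012647) (.leaf 124305428767))) (.node (.node (.leaf 422811288459) (.leaf 203543130567)) (.node (.leaf 72122370) (.leaf 448120591300))))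 (.node (.node (.node (.leaf 943274723242) (.leaf 115311759625)) (.node (.leaf 847042123475) (.leaf 695552587179))) (.node (.node (.leaf 686056605069) (.leaf 354753311477)) (.node (.leaf 1025582065757) (.leaf 118578438418))))))) (.node (.node (.node (.node (.node (.node (.leaf 679248377208) (.leaf 535756354667)) (.node (.leaf 398197130068) (.leaf 11641569322))) (.node (.node (.leaf 792775788143) (.leaf 134865645880)) (.node (.leaf 502727136314) (.leaf 528986244190)))) (.node (.node (.node (.leaf 877885736720) (.leaf 33281732700)) (.node (.leaf 339387531988) (.leaf 171806003584))) (.node (.node (.leaf 644973016384) (.leaf 793422939760)) (.node (.leaf 307446272653) (.leaf 852876621534))))) (.node (.node (.node (.node (.leaf 579923670211) (.leaf 1093301033208)) (.node (.leaf 511575008328) (.leaf 726729442789))) (.node (.node (.leaf 409061630822) (.leaf 359379403518)) (.node (.leaf 173686452611) (.leaf 678487983479)))) (.node (.node (.node (.leaf 941592356775) (.leaf 902445643597)) (.node (.leaf 256719028776) (.leaf 56090726530))) (.node (.node (.leaf 302501110404)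 (.leaf 420218880898)) (.node (.leaf 1009016760387) (.leaf 371687760666)))))) (.node (.node (.node (.node (.node (.leaf 166668276084) (.leaf 1059071092915)) (.node (.leaf 666435470685) (.leaf 786570974822))) (.node (.node (.leaf 650787611974) (.leaf 988023814177)) (.node (.leaf 1026330531935) (.leaf 777247610455)))) (.node (.node (.node (.leaf 199213945281) (.leaf 544304481402)) (.node (.leaf 990638917669) (.leaf 163944132974))) (.node (.node (.leaf 701360858556) (.leaf 1067718715587)) (.node (.leaf 973581559804) (.leaf 412702868336))))) (.node (.node (.node (.node (.leaf 901385570124) (.leaf 541896787061)) (.node (.leaf 145862000973) (.leaf 1006950733884))) (.node (.node (.leaf 478229664762) (.leaf 87007518930)) (.node (.leaf 792126453357) (.leaf 884391712542)))) (.node (.node (.node (.leaf 321500140206) (.leaf 137251582272)) (.node (.leaf 998076254254) (.leaf 353678234353))) (.node (.node (.leaf 494527091751) (.leaf 414836368242)) (.node (.leaf 483938407434) (.leaf 0))))))))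

/-- Part of `hintBOne`. -/
def hintBOne_p0010 : Tr := .node (.node (.node (.node (.node (.node (.node (.node (.leaf 687054206350) (.leaf 861857294066)) (.node (.leaf 538688468079) (.leaf 487277667346))) (.node (.node (.leaf 839923971781) (.leaf 477852804087)) (.node (.leaf 415936578423) (.leaf 116795117838)))) (.node (.node (.node (.leaf 88676876500) (.leaf 207879807438)) (.node (.leaf 755425154595) (.leaf 286053970537))) (.node (.node (.leaf 329245332161) (.leaf 877326997262)) (.node (.leaf 451622937545) (.leaf 777142826582))))) (.node (.node (.node (.node (.leaf 727101003237) (.leaf 447862555587)) (.node (.leaf 189541368233) (.leaf 801618577020))) (.node (.node (.leaf 219038618085) (.leaf 244246262293)) (.node (.leaf 149872587093) (.leaf 571012965546)))) (.node (.node (.node (.leaf 927680501648) (.leaf 615619663108)) (.node (.leaf 39150919779) (.leaf 604698211560))) (.node (.node (.leaf 117259534607) (.leaf 612980638974)) (.node (.leaf 1050253310111) (.leaf 1005627684922)))))) (.node (.node (.node (.node (.node (.leaf 166330179955) (.leaf 943339915178))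 (.node (.leaf 779691058776) (.leaf 538895811698))) (.node (.node (.leaf 290759996026) (.leaf 1013246707783)) (.node (.leaf 828039628467) (.leaf 447928247235)))) (.node (.node (.node (.leaf 277856178774) (.leaf 904432080720)) (.node (.leaf 31142617174) (.leaf 56090726530))) (.node (.node (.leaf 473281233895) (.leaf 188863861157)) (.node (.leaf 537203000431) (.leaf 916712064884))))) (.node (.node (.node (.node (.leaf 904514352976) (.leaf 386780595004)) (.node (.leaf 58721050761) (.leaf 651678487879))) (.node (.node (.leaf 918696257402) (.leaf 304382780039)) (.node (.leaf 949035022271) (.leaf 934175594400)))) (.node (.node (.node (.leaf 512724825162) (.leaf 628854826276)) (.node (.leaf 266432324154) (.leaf 99167662310))) (.node (.node (.leaf 918337427321) (.leaf 914398578540)) (.node (.leaf 665318950233) (.leaf 932556851103))))))) (.node (.node (.node (.node (.node (.node (.leaf 590676919509) (.leaf 925530937225)) (.node (.leaf 761764935215) (.leaf 841489983176))) (.node (.node (.leaf 766984287807) (.leaf 72164253869)) (.node (.leaf 52009816186) (.leaf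 574646289592)))) (.node (.node (.node (.leaf 475891368946) (.leaf 1017523185743)) (.node (.leaf 1032380598384) (.leaf 342510138075))) (.node (.node (.leaf 892272772915) (.leaf 137251582272)) (.node (.leaf 688521651606) (.leaf 457356219345))))) (.node (.node (.node (.node (.leaf 110685438205) (.leaf 812273571483)) (.node (.leaf 500689892404) (.leaf 856698357478))) (.node (.node (.leaf 299622707843) (.leaf 776401004116)) (.node (.leaf 398945809237) (.leaf 192044802481)))) (.node (.node (.node (.leaf 741677282829) (.leaf 895747524409)) (.node (.leaf 757179835943) (.leaf 842757220044))) (.node (.node (.leaf 921917937539) (.leaf 744501147153)) (.node (.leaf 973786126332) (.leaf 901134976842)))))) (.node (.node (.node (.node (.node (.leaf 267053519419) (.leaf 566781027491)) (.node (.leaf 853006927583) (.leaf 641834972472))) (.node (.node (.leaf 406284252000) (.leaf 430490555293)) (.node (.leaf 753990022686) (.leaf 976881805320)))) (.node (.node (.node (.leaf 1092910987511) (.leaf 786131048036)) (.node (.leaf 100225429736) (.leaf 312497087132))) (.node (.node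 (.leaf 905063524177) (.leaf 6188408859)) (.node (.leaf 963625965541) (.leaf 1031723194477))))) (.node (.node (.node (.node (.leaf 688844424598) (.leaf 899489580869)) (.node (.leaf 736520492540) (.leaf 1047174264982))) (.node (.node (.leaf 125546926368) (.leaf 266212438585)) (.node (.leaf 14022086705) (.leaf 628550796579)))) (.node (.node (.node (.leaf 105054552305) (.leaf 633918891310)) (.node (.leaf 899042977603) (.leaf 156511727965))) (.node (.node (.leaf 25366204492) (.leaf 259998474795)) (.node (.leaf 610711217399) (.leaf 0)))))))) (.node (.node (.node (.node (.node (.node (.node (.leaf 845944092369) (.leaf 121408495896)) (.node (.leaf 1065055373500) (.leaf 754148726303))) (.node (.node (.leaf 711728190927) (.leaf 188535910821)) (.node (.leaf 1093301033208) (.leaf 321156833964)))) (.node (.node (.node (.leaf 388470977344) (.leaf 884873709345)) (.node (.leaf 196043506104) (.leaf 712002344399))) (.node (.node (.leaf 894655612727) (.leaf 662433482067)) (.node (.leaf 350807573225) (.leaf 606426326253))))) (.node (.node (.node (.node (.leaf 214864368088)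 (.leaf 1023296653399)) (.node (.leaf 913108666216) (.leaf 286041227880))) (.node (.node (.leaf 729933424110) (.leaf 713710183891)) (.node (.leaf 571729147052) (.leaf 1070484101324)))) (.node (.node (.node (.leaf 41934397546) (.leaf 1088891209967)) (.node (.leaf 1029872867434) (.leaf 754586912287))) (.node (.node (.leaf 573463909556) (.leaf 937489782690)) (.node (.leaf 552535307396) (.leaf 1056245119152)))))) (.node (.node (.node (.node (.node (.leaf 16276627513) (.leaf 914359883627)) (.node (.leaf 838446184129) (.leaf 853006927583))) (.node (.node (.leaf 1060147087542) (.leaf 977402427406)) (.node (.leaf 704337581509) (.leaf 735097513465)))) (.node (.node (.node (.leaf 1029876291691) (.leaf 142241558854)) (.node (.leaf 626754422046) (.leaf 618711770380))) (.node (.node (.leaf 897475987261) (.leaf 5569466392)) (.node (.leaf 216392409564) (.leaf 183795126682))))) (.node (.node (.node (.node (.leaf 675953849711) (.leaf 65692348575)) (.node (.leaf 694216791463) (.leaf 384678077240))) (.node (.node (.leaf 674042865006) (.leaf 982877231126)) (.node (.leaf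 396353467216) (.leaf 909147645787)))) (.node (.node (.node (.leaf 187135308193) (.leaf 724068890081)) (.node (.leaf 913482430313) (.leaf 203673829832))) (.node (.node (.leaf 361925063429) (.leaf 20408119361)) (.node (.leaf 1069068024008) (.leaf 1026189523038))))))) (.node (.node (.node (.node (.node (.node (.leaf 727229871592) (.leaf 837153711808)) (.node (.leaf 20503351362) (.leaf 1078494230748))) (.node (.node (.leaf 1063881615546) (.leaf 361822855941)) (.node (.leaf 426641777560) (.leaf 967614568428)))) (.node (.node (.node (.leaf 906567858005) (.leaf 1043029510288)) (.node (.leaf 1024130480217) (.leaf 246801408541))) (.node (.node (.leaf 227688456692) (.leaf 749397444121)) (.node (.leaf 337443807951) (.leaf 707782313416))))) (.node (.node (.node (.node (.leaf 723176543711) (.leaf 802494961278)) (.node (.leaf 288278106740) (.leaf 500158465075))) (.node (.node (.leaf 116260000011) (.leaf 558060414096)) (.node (.leaf 109552632057) (.leaf 1013845317704)))) (.node (.node (.node (.leaf 39150919779) (.leaf 1062775666872)) (.node (.leaf 382596875056) (.leaf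 928449337233))) (.node (.node (.leaf 358390682365) (.leaf 136462176574)) (.node (.leaf 122038346010) (.leaf 190249120170)))))) (.node (.node (.node (.node (.node (.leaf 997680130094) (.leaf 688832206230)) (.node (.leaf 533844665446) (.leaf 714842174933))) (.node (.node (.leaf 766263150140) (.leaf 676386780528)) (.node (.leaf 14699262004) (.leaf 673763784043)))) (.node (.node (.node (.leaf 974012864509) (.leaf 916817127284)) (.node (.leaf 305860940425) (.leaf 48137703541))) (.node (.node (.leaf 644927300928) (.leaf 504801408065)) (.node (.leaf 9549807649) (.leaf 619967051022))))) (.node (.node (.node (.node (.leaf 932256655262) (.leaf 230809674235)) (.node (.leaf 660314678609) (.leaf 102165307628))) (.node (.node (.leaf 240216478223) (.leaf 612643206397)) (.node (.leaf 702462084545) (.leaf 487397671955)))) (.node (.node (.node (.leaf 474297033706) (.leaf 212967272918)) (.node (.leaf 810065368726) (.leaf 763736307256))) (.node (.node (.leaf 575008015545) (.leaf 534939886698)) (.node (.leaf 1468293131) (.leaf 0))))))))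

/-- Part of `hintBOne`. -/
def hintBOne_p0011 : Tr := .node (.node (.node (.node (.node (.node (.node (.node (.leaf 945410381747) (.leaf 49935372407)) (.node (.leaf 926277724043) (.leaf 173756809603))) (.node (.node (.leaf 268884943424) (.leaf 766792021567)) (.node (.leaf 478229664762) (.leaf 420713857923)))) (.node (.node (.node (.leaf 238498296328) (.leaf 656886392141)) (.node (.leaf 145284002125) (.leaf 13549686830))) (.node (.node (.leaf 1035791063161) (.leaf 514822640719)) (.node (.leaf 184961380765) (.leaf 143065448775))))) (.node (.node (.node (.node (.leaf 743257019919) (.leaf 176964161929)) (.node (.leaf 940361381797) (.leaf 514947941456))) (.node (.node (.leaf 884873709345) (.leaf 2637479949)) (.node (.leaf 665612424538) (.leaf 830253205173)))) (.node (.node (.node (.leaf 762620327476) (.leaf 286786957934)) (.node (.leaf 143065448775) (.leaf 901134976842))) (.node (.node (.leaf 126177804576) (.leaf 401697395545)) (.node (.leaf 314154164894) (.leaf 902445643597)))))) (.node (.node (.node (.node (.node (.leaf 337456566991) (.leaf 289921589879))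 (.node (.leaf 798404265590) (.leaf 245013660182))) (.node (.node (.leaf 783915005536) (.leaf 169731432828)) (.node (.leaf 74484908211) (.leaf 119643853076)))) (.node (.node (.node (.leaf 259494158890) (.leaf 1014152501321)) (.node (.leaf 926848530318) (.leaf 246526099995))) (.node (.node (.leaf 269643952705) (.leaf 505829766210)) (.node (.leaf 183795126682) (.leaf 332372488904))))) (.node (.node (.node (.node (.leaf 821815658154) (.leaf 933735856031)) (.node (.leaf 926277724043) (.leaf 574541452470))) (.node (.node (.leaf 669422425443) (.leaf 622857925910)) (.node (.leaf 510603711557) (.leaf 418242573182)))) (.node (.node (.node (.leaf 840094238405) (.leaf 133533679927)) (.node (.leaf 483938407434) (.leaf 308848710288))) (.node (.node (.leaf 794553546355) (.leaf 625574552860)) (.node (.leaf 950670116807) (.leaf 202814923206))))))) (.node (.node (.node (.node (.node (.node (.leaf 252650127907) (.leaf 184840540572)) (.node (.leaf 1039089735812) (.leaf 651678487879))) (.node (.node (.leaf 164035395950) (.leaf 471273526244)) (.node (.leaf 464118666200)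 (.leaf 197735793085)))) (.node (.node (.node (.leaf 12832927788) (.leaf 969991690227)) (.node (.leaf 478351234043) (.leaf 87007518930))) (.node (.node (.leaf 583528182981) (.leaf 692901262753)) (.node (.leaf 328704754368) (.leaf 883096696603))))) (.node (.node (.node (.node (.leaf 1005573302330) (.leaf 34875285597)) (.node (.leaf 624510403865) (.leaf 921274283906))) (.node (.node (.leaf 70054342823) (.leaf 971557771256)) (.node (.leaf 471729034212) (.leaf 430490555293)))) (.node (.node (.node (.leaf 669282219362) (.leaf 182755852694)) (.node (.leaf 163530649965) (.leaf 792527308399))) (.node (.node (.leaf 743030650382) (.leaf 421731464070)) (.node (.leaf 358212211452) (.leaf 619967051022)))))) (.node (.node (.node (.node (.node (.leaf 1005627684922) (.leaf 208126923215)) (.node (.leaf 947727181754) (.leaf 755425154595))) (.node (.node (.leaf 891104479026) (.leaf 395485238094)) (.node (.leaf 102165307628) (.leaf 697370785200)))) (.node (.node (.node (.leaf 637293704501) (.leaf 554537256069)) (.node (.leaf 461863420885) (.leaf 857262970602))) (.node (.node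 (.leaf 252899119651) (.leaf 697370785200)) (.node (.leaf 670674343268) (.leaf 191982588336))))) (.node (.node (.node (.node (.leaf 794484024946) (.leaf 855642592996)) (.node (.leaf 407682708324) (.leaf 657879524686))) (.node (.node (.leaf 807610107534) (.leaf 841794717386)) (.node (.leaf 465986786269) (.leaf 718163281368)))) (.node (.node (.node (.leaf 145394737485) (.leaf 649016259908)) (.node (.leaf 121158611223) (.leaf 59868004493))) (.node (.node (.leaf 352254477037) (.leaf 392028586826)) (.node (.leaf 42268790892) (.leaf 0)))))))) (.node (.node (.node (.node (.node (.node (.node (.leaf 159573377379) (.leaf 833758848698)) (.node (.leaf 293798031999) (.leaf 1046052731029))) (.node (.node (.leaf 434674762657) (.leaf 687100241295)) (.node (.leaf 903218632527) (.leaf 316097598113)))) (.node (.node (.node (.leaf 1006582208571) (.leaf 711987996111)) (.node (.leaf 612000433404) (.leaf 865532528376))) (.node (.node (.leaf 760981894702) (.leaf 980373686292)) (.node (.leaf 146777887056) (.leaf 509250647106))))) (.node (.node (.node (.node (.leaf 1029048047719)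 (.leaf 74133983410)) (.node (.leaf 116924244238) (.leaf 858761488111))) (.node (.node (.leaf 496259925035) (.leaf 398945809237)) (.node (.leaf 971557771256) (.leaf 1075214403801)))) (.node (.node (.node (.leaf 598662468830) (.leaf 950670116807)) (.node (.leaf 183393948056) (.leaf 421731464070))) (.node (.node (.leaf 1014694029386) (.leaf 944082184112)) (.node (.leaf 149869322580) (.leaf 963278325731)))))) (.node (.node (.node (.node (.node (.leaf 868037986046) (.leaf 182755852694)) (.node (.leaf 352383918830) (.leaf 940284245925))) (.node (.node (.leaf 14699262004) (.leaf 661711426898)) (.node (.leaf 387227554621) (.leaf 608353965297)))) (.node (.node (.node (.leaf 23318204486) (.leaf 191027372461)) (.node (.leaf 759828186669) (.leaf 18070876222))) (.node (.node (.leaf 825067898544) (.leaf 295864607361)) (.node (.leaf 529969353826) (.leaf 941521090470))))) (.node (.node (.node (.node (.leaf 830859531958) (.leaf 323057025715)) (.node (.leaf 939817727908) (.leaf 224519516655))) (.node (.node (.leaf 483548165127) (.leaf 666991105373)) (.node (.leaf 680154219899)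 (.leaf 944684689329)))) (.node (.node (.node (.leaf 1038950033538) (.leaf 14765854772)) (.node (.leaf 1079747119328) (.leaf 411238818670))) (.node (.node (.leaf 1014719400011) (.leaf 298055959170)) (.node (.leaf 1074271152343) (.leaf 0))))))) (.node (.node (.node (.node (.node (.node (.leaf 812273571483) (.leaf 258097918506)) (.node (.leaf 421933659015) (.leaf 702333871552))) (.node (.node (.leaf 706062243270) (.leaf 391813149513)) (.node (.leaf 1098629884158) (.leaf 552887211141)))) (.node (.node (.node (.leaf 310540145302) (.leaf 605564364011)) (.node (.leaf 413349278577) (.leaf 1049631574173))) (.node (.node (.leaf 480399377409) (.leaf 414836368242)) (.node (.leaf 366996177681) (.leaf 706384864711))))) (.node (.node (.node (.node (.leaf 775476389460) (.leaf 11500376103)) (.node (.leaf 806460749452) (.leaf 406284252000))) (.node (.node (.leaf 366084416272) (.leaf 1025582065757)) (.node (.leaf 165723083122) (.leaf 771994719822)))) (.node (.node (.node (.leaf 80390205632) (.leaf 502783358011)) (.node (.leaf 764034881081) (.leaf 776465421909))) (.node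 (.node (.leaf 690086327706) (.leaf 749008041497)) (.node (.leaf 527859106908) (.leaf 1073136769234)))))) (.node (.node (.node (.node (.node (.leaf 624546092314) (.leaf 656508167501)) (.node (.leaf 820453820071) (.leaf 970011801588))) (.node (.node (.leaf 401697395545) (.leaf 378548884261)) (.node (.leaf 556104492171) (.leaf 624546092314)))) (.node (.node (.node (.leaf 457849250769) (.leaf 125546926368)) (.node (.leaf 687102952847) (.leaf 955103188947))) (.node (.node (.leaf 437796008875) (.leaf 340499219158)) (.node (.leaf 503731119164) (.leaf 785255495266))))) (.node (.node (.node (.node (.leaf 1060470831287) (.leaf 123158319388)) (.node (.leaf 446545761214) (.leaf 711559935439))) (.node (.node (.leaf 691825120671) (.leaf 392732865356)) (.node (.leaf 872807487241) (.leaf 80025338047)))) (.node (.node (.node (.leaf 753148294685) (.leaf 47674036340)) (.node (.leaf 1017523185743) (.leaf 697123743150))) (.node (.node (.leaf 32769) (.leaf 957641959385)) (.node (.leaf 846999062227) (.leaf 0))))))))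

/-- Part of `hintBOne`. -/
def hintBOne_p0100 : Tr := .node (.node (.node (.node (.node (.node (.node (.node (.leaf 365261337358) (.leaf 264588304947)) (.node (.leaf 953526265808) (.leaf 534939886698))) (.node (.node (.leaf 700373554616) (.leaf 673650779497)) (.node (.leaf 19344019521) (.leaf 995705710635)))) (.node (.node (.node (.leaf 329245332161) (.leaf 1058516641970)) (.node (.leaf 131388612912) (.leaf 326609597114))) (.node (.node (.leaf 960611997661) (.leaf 168323735928)) (.node (.leaf 170131661181) (.leaf 101572391146))))) (.node (.node (.node (.node (.leaf 78169243835) (.leaf 910717785950)) (.node (.leaf 88023625940) (.leaf 60024299662))) (.node (.node (.leaf 561441801365) (.leaf 3536207889)) (.node (.leaf 900620719945) (.leaf 202043630021)))) (.node (.node (.node (.leaf 389858161476) (.leaf 1036079306873)) (.node (.leaf 363359933193) (.leaf 51730485368))) (.node (.node (.leaf 810065368726) (.leaf 640615335224)) (.node (.leaf 216392409564) (.leaf 997767882798)))))) (.node (.node (.node (.node (.node (.leaf 134865645880) (.leaf 539845596275))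 (.node (.leaf 169499324795) (.leaf 669417399651))) (.node (.node (.leaf 130394042667) (.leaf 56439632004)) (.node (.leaf 669658449252) (.leaf 1098636536062)))) (.node (.node (.node (.leaf 897509893950) (.leaf 143972262216)) (.node (.leaf 267388916283) (.leaf 203661103559))) (.node (.node (.leaf 113992663302) (.leaf 4623855635)) (.node (.leaf 323694207668) (.leaf 210036724178))))) (.node (.node (.node (.node (.leaf 845355554512) (.leaf 61402681490)) (.node (.leaf 63803240600) (.leaf 963241007075))) (.node (.node (.leaf 65597304989) (.leaf 885841835810)) (.node (.leaf 210744308179) (.leaf 23940825160)))) (.node (.node (.node (.leaf 373424075550) (.leaf 31777648727)) (.node (.leaf 1084764539114) (.leaf 986324420637))) (.node (.node (.leaf 921917937539) (.leaf 526227473500)) (.node (.leaf 1083529672934) (.leaf 909147645787))))))) (.node (.node (.node (.node (.node (.node (.leaf 669658449252) (.leaf 649013855555)) (.node (.leaf 968867223536) (.leaf 375161713440))) (.node (.node (.leaf 243288732180) (.leaf 821199431336)) (.node (.leaf 910169081694) (.leaf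 876080912141)))) (.node (.node (.node (.leaf 904989570897) (.leaf 887962040104)) (.node (.leaf 227505947124) (.leaf 484298253324))) (.node (.node (.leaf 586244453582) (.leaf 287283966575)) (.node (.leaf 915261200238) (.leaf 620804048143))))) (.node (.node (.node (.node (.leaf 44384055409) (.leaf 569669670057)) (.node (.leaf 189786726826) (.leaf 913482430313))) (.node (.node (.leaf 618711770380) (.leaf 495943648298)) (.node (.leaf 700821927353) (.leaf 761764935215)))) (.node (.node (.node (.leaf 736324826619) (.leaf 771994719822)) (.node (.leaf 207403688396) (.leaf 156647448926))) (.node (.node (.leaf 933277705) (.leaf 792527308399)) (.node (.leaf 641834972472) (.leaf 915858732912)))))) (.node (.node (.node (.node (.node (.leaf 948736870334) (.leaf 497293579310)) (.node (.leaf 72155230380) (.leaf 1043029510288))) (.node (.node (.leaf 683249034627) (.leaf 735553664505)) (.node (.leaf 760525067821) (.leaf 265044816436)))) (.node (.node (.node (.leaf 406338347872) (.leaf 215345689051)) (.node (.leaf 144945738060) (.leaf 144365777227))) (.node (.node (.leaf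 219938370021) (.leaf 8596234272)) (.node (.leaf 348355003109) (.leaf 37889822817))))) (.node (.node (.node (.node (.leaf 531377341539) (.leaf 173623284099)) (.node (.leaf 409371513704) (.leaf 631004828967))) (.node (.node (.leaf 439889101744) (.leaf 1069281519819)) (.node (.leaf 420627817346) (.leaf 47310266483)))) (.node (.node (.node (.leaf 899088246596) (.leaf 133042426166)) (.node (.leaf 597955421406) (.leaf 427285820312))) (.node (.node (.leaf 735558575610) (.leaf 846999062227)) (.node (.leaf 507788833858) (.leaf 0)))))))) (.node (.node (.node (.node (.node (.node (.node (.leaf 987402741790) (.leaf 839141287619)) (.node (.leaf 351427707626) (.leaf 173545763202))) (.node (.node (.leaf 498364171312) (.leaf 283909739106)) (.node (.leaf 460204606419) (.leaf 685293323659)))) (.node (.node (.node (.leaf 566781027491) (.leaf 448094561219)) (.node (.leaf 721239954907) (.leaf 339108053716))) (.node (.node (.leaf 802402924158) (.leaf 609495835892)) (.node (.leaf 701222213050) (.leaf 715113579989))))) (.node (.node (.node (.node (.leaf 694083311014) (.leaf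 255559696933)) (.node (.leaf 601314075872) (.leaf 215203426777))) (.node (.node (.leaf 379640578855) (.leaf 525995496540)) (.node (.leaf 90821169369) (.leaf 904504543056)))) (.node (.node (.node (.leaf 641949910330) (.leaf 723571164639)) (.node (.leaf 662433482067) (.leaf 420218819458))) (.node (.node (.leaf 699717985718) (.leaf 1082306210019)) (.node (.leaf 64827310235) (.leaf 399149830997)))))) (.node (.node (.node (.node (.node (.leaf 723685131744) (.leaf 563025323161)) (.node (.leaf 421648286597) (.leaf 653041718600))) (.node (.node (.leaf 280484307546) (.leaf 332659753672)) (.node (.leaf 880493291284) (.leaf 219038618085)))) (.node (.node (.node (.leaf 474266325993) (.leaf 957924194265)) (.node (.leaf 1068898347207) (.leaf 25515102285))) (.node (.node (.leaf 426199249812) (.leaf 1055873906862)) (.node (.leaf 176964161929) (.leaf 981013628949))))) (.node (.node (.node (.node (.leaf 407586673508) (.leaf 578468545726)) (.node (.leaf 1016422606926) (.leaf 760525067821))) (.node (.node (.leaf 949303146433) (.leaf 8192)) (.node (.leaf 332659753672) (.leaf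 869855889155)))) (.node (.node (.node (.leaf 12832927788) (.leaf 943818262446)) (.node (.leaf 1071364520141) (.leaf 733240944119))) (.node (.node (.leaf 392732865356) (.leaf 426641777560)) (.node (.leaf 1036997167229) (.leaf 542469952632))))))) (.node (.node (.node (.node (.node (.node (.leaf 112132690177) (.leaf 563199415449)) (.node (.leaf 547370624126) (.leaf 376892220195))) (.node (.node (.leaf 450158216137) (.leaf 811678160537)) (.node (.leaf 1072596097232) (.leaf 947102255030)))) (.node (.node (.node (.leaf 1046649645205) (.leaf 885916407586)) (.node (.leaf 1066655492287) (.leaf 571570402475))) (.node (.node (.leaf 858381018862) (.leaf 859472987888)) (.node (.leaf 407380927330) (.leaf 484246561803))))) (.node (.node (.node (.node (.leaf 399958451030) (.leaf 470894023651)) (.node (.leaf 419806815106) (.leaf 788020729447))) (.node (.node (.leaf 448320902085) (.leaf 1036991273085)) (.node (.leaf 718053230039) (.leaf 189210268071)))) (.node (.node (.node (.leaf 679403480441) (.leaf 447836353474)) (.node (.leaf 1098629884158) (.leaf 233771966976)))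 (.node (.node (.leaf 982961797142) (.leaf 495111525417)) (.node (.leaf 228344615414) (.leaf 913935886187)))))) (.node (.node (.node (.node (.node (.leaf 953182504911) (.leaf 902806927182)) (.node (.leaf 772614395474) (.leaf 1023296653399))) (.node (.node (.leaf 997421045806) (.leaf 402598368093)) (.node (.leaf 1003087648822) (.leaf 388803785537)))) (.node (.node (.node (.leaf 162241241450) (.leaf 574646289592)) (.node (.leaf 15673974838) (.leaf 187135308193))) (.node (.node (.leaf 761881781808) (.leaf 969854261234)) (.node (.leaf 671332816229) (.leaf 644509959486))))) (.node (.node (.node (.node (.leaf 212584079830) (.leaf 1073927362775)) (.node (.leaf 948098983868) (.leaf 113684615429))) (.node (.node (.leaf 683249034627) (.leaf 973581559804)) (.node (.leaf 409371513704) (.leaf 992375801894)))) (.node (.node (.node (.leaf 860032841456) (.leaf 7608332318)) (.node (.leaf 85517439182) (.leaf 383577609009))) (.node (.node (.leaf 655043704139) (.leaf 613315421439)) (.node (.leaf 252019401251) (.leaf 0))))))))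

/-- Part of `hintBOne`. -/
def hintBOne_p0101 : Tr := .node (.node (.node (.node (.node (.node (.node (.node (.leaf 785670157923) (.leaf 902806927182)) (.node (.leaf 586051589325) (.leaf 567872259236))) (.node (.node (.leaf 1046973515926) (.leaf 623470421272)) (.node (.leaf 95988965602) (.leaf 1037966940289)))) (.node (.node (.node (.leaf 977295259661) (.leaf 329817916099)) (.node (.leaf 714842154453) (.leaf 494568412200))) (.node (.node (.leaf 75759579320) (.leaf 514947941456)) (.node (.leaf 924350478213) (.leaf 704280196549))))) (.node (.node (.node (.node (.leaf 911853504356) (.leaf 1037924817024)) (.node (.leaf 385441096507) (.leaf 817994823331))) (.node (.node (.leaf 8691073057) (.leaf 56090726530)) (.node (.leaf 1073927362775) (.leaf 665318950233)))) (.node (.node (.node (.leaf 794583570035) (.leaf 412792722288)) (.node (.leaf 824055154350) (.leaf 374732567327))) (.node (.node (.leaf 680785446270) (.leaf 357056054010)) (.node (.leaf 274555920976) (.leaf 30739251284)))))) (.node (.node (.node (.node (.node (.leaf 502783358011) (.leaf 285487346278))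 (.node (.leaf 212619141590) (.leaf 264356950579))) (.node (.node (.leaf 246551585308) (.leaf 718573942233)) (.node (.leaf 583528182981) (.leaf 902526560077)))) (.node (.node (.node (.leaf 918102308727) (.leaf 621870945554)) (.node (.leaf 360962769666) (.leaf 950270359493))) (.node (.node (.leaf 1039274952838) (.leaf 919986857855)) (.node (.leaf 163485720940) (.leaf 986176481306))))) (.node (.node (.node (.node (.leaf 403602449247) (.leaf 562499925142)) (.node (.leaf 813560247966) (.leaf 95799546081))) (.node (.node (.leaf 212935090646) (.leaf 1036991273085)) (.node (.leaf 112132690177) (.leaf 669658449252)))) (.node (.node (.node (.leaf 407810495333) (.leaf 494734697512)) (.node (.leaf 71093981352) (.leaf 522521556059))) (.node (.node (.leaf 72803860656) (.leaf 1017523185743)) (.node (.leaf 885588817697) (.leaf 350292173544))))))) (.node (.node (.node (.node (.node (.node (.leaf 86144557264) (.leaf 356689437434)) (.node (.leaf 371856646939) (.leaf 491843347485))) (.node (.node (.leaf 987402741790) (.leaf 814378296991)) (.node (.leaf 974012864509) (.leaf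 357775803131)))) (.node (.node (.node (.leaf 513096381515) (.leaf 427998999449)) (.node (.leaf 880971622165) (.leaf 1039089735812))) (.node (.node (.leaf 950499620805) (.leaf 452115964875)) (.node (.leaf 535590188139) (.leaf 562417951894))))) (.node (.node (.node (.node (.leaf 967136147434) (.leaf 188863861157)) (.node (.leaf 145284002125) (.leaf 750826333724))) (.node (.node (.leaf 843688457932) (.leaf 884673730336)) (.node (.leaf 884878731041) (.leaf 331545563847)))) (.node (.node (.node (.leaf 152130982231) (.leaf 98623365349)) (.node (.leaf 34875285597) (.leaf 68521210020))) (.node (.node (.leaf 797781358196) (.leaf 43221028975)) (.node (.leaf 727965386219) (.leaf 153155846489)))))) (.node (.node (.node (.node (.node (.leaf 418813309823) (.leaf 1017523185743)) (.node (.leaf 951634720715) (.leaf 369769796373))) (.node (.node (.leaf 738775033346) (.leaf 569135674534)) (.node (.leaf 187547337124) (.leaf 376892220195)))) (.node (.node (.node (.leaf 974468249599) (.leaf 1075214403801)) (.node (.leaf 955103188947) (.leaf 531752330340))) (.node (.node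 (.leaf 579775915202) (.leaf 494381986854)) (.node (.leaf 665098061145) (.leaf 90336870616))))) (.node (.node (.node (.node (.leaf 688844424598) (.leaf 794583570035)) (.node (.leaf 929815644054) (.leaf 951490238410))) (.node (.node (.leaf 779493443160) (.leaf 129478005032)) (.node (.leaf 608353965297) (.leaf 103534440686)))) (.node (.node (.node (.leaf 406076605280) (.leaf 842283763404)) (.node (.leaf 191692386736) (.leaf 389076792129))) (.node (.node (.leaf 889347909421) (.leaf 304683983496)) (.node (.leaf 947629819833) (.leaf 0)))))))) (.node (.node (.node (.node (.node (.node (.node (.leaf 928568780690) (.leaf 464118666200)) (.node (.leaf 507788833858) (.leaf 682515846530))) (.node (.node (.leaf 40821244005) (.leaf 467969655776)) (.node (.leaf 837153711808) (.leaf 777142826582)))) (.node (.node (.node (.leaf 966533601257) (.leaf 141684187460)) (.node (.leaf 578219558077) (.leaf 123817124125))) (.node (.node (.leaf 36002930783) (.leaf 190671442349)) (.node (.leaf 236426326531) (.leaf 733547578871))))) (.node (.node (.node (.node (.leaf 1029193737)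 (.leaf 967123769321)) (.node (.leaf 530692248675) (.leaf 230809674235))) (.node (.node (.leaf 785991788132) (.leaf 110016958715)) (.node (.leaf 252406133283) (.leaf 1019378833487)))) (.node (.node (.node (.leaf 292448699006) (.leaf 674404218222)) (.node (.leaf 924630943622) (.leaf 87275438291))) (.node (.node (.leaf 800477005432) (.leaf 362214425350)) (.node (.leaf 65692348575) (.leaf 360962769666)))))) (.node (.node (.node (.node (.node (.leaf 366716175120) (.leaf 420627817346)) (.node (.leaf 1026772854879) (.leaf 690412467612))) (.node (.node (.leaf 1089697364208) (.leaf 852092180185)) (.node (.leaf 1092908402934) (.leaf 879954888467)))) (.node (.node (.node (.leaf 325155824309) (.leaf 261865120302)) (.node (.leaf 389858161476) (.leaf 299676353155))) (.node (.node (.leaf 884268791582) (.leaf 615743513861)) (.node (.leaf 171806003584) (.leaf 176136139144))))) (.node (.node (.node (.node (.leaf 38338289763) (.leaf 559986443412)) (.node (.leaf 354570289908) (.leaf 45971198066))) (.node (.node (.leaf 282087010912) (.leaf 321500140206)) (.node (.leaf 723241645535)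 (.leaf 1007460296766)))) (.node (.node (.node (.leaf 966533601257) (.leaf 266503135802)) (.node (.leaf 792775788143) (.leaf 192891724210))) (.node (.node (.leaf 808920315538) (.leaf 1030134143083)) (.node (.leaf 554537256069) (.leaf 371087016729))))))) (.node (.node (.node (.node (.node (.node (.leaf 179213222288) (.leaf 711312709070)) (.node (.leaf 1036227848314) (.leaf 835797026493))) (.node (.node (.leaf 1062775666872) (.leaf 536821331054)) (.node (.leaf 270725272132) (.leaf 62006345875)))) (.node (.node (.node (.leaf 788083451495) (.leaf 1062775666872)) (.node (.leaf 1073136769234) (.leaf 353528890096))) (.node (.node (.leaf 490945279001) (.leaf 636379755826)) (.node (.leaf 61381968017) (.leaf 339870614230))))) (.node (.node (.node (.node (.leaf 475705320433) (.leaf 515571508304)) (.node (.leaf 461934367703) (.leaf 67247567009))) (.node (.node (.leaf 574646289592) (.leaf 872634394376)) (.node (.leaf 1017523185743) (.leaf 711987996111)))) (.node (.node (.node (.leaf 210755920339) (.leaf 305860940425)) (.node (.leaf 164996944240) (.leaf 113684615429)))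 (.node (.node (.leaf 1070010640588) (.leaf 820528653992)) (.node (.leaf 379935728424) (.leaf 31142617174)))))) (.node (.node (.node (.node (.node (.leaf 480399377409) (.leaf 678633039223)) (.node (.leaf 1031116822636) (.leaf 776799966805))) (.node (.node (.leaf 425532416914) (.leaf 567872259236)) (.node (.leaf 711224825293) (.leaf 1072752486609)))) (.node (.node (.node (.leaf 15673974838) (.leaf 513899189326)) (.node (.leaf 321156833964) (.leaf 874760533771))) (.node (.node (.leaf 864879990519) (.leaf 753148294685)) (.node (.leaf 645333996865) (.leaf 448507581382))))) (.node (.node (.node (.node (.leaf 326407996089) (.leaf 621958829331)) (.node (.leaf 168070451575) (.leaf 1031116822636))) (.node (.node (.leaf 130607821100) (.leaf 43158261870)) (.node (.leaf 39693738084) (.leaf 292762514046)))) (.node (.node (.node (.leaf 625784227101) (.leaf 617652471048)) (.node (.leaf 931891152795) (.leaf 796945593971))) (.node (.node (.leaf 217832079844) (.leaf 499990795315)) (.node (.leaf 197305201084) (.leaf 0))))))))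

/-- Part of `hintBOne`. -/
def hintBOne_p0110 : Tr := .node (.node (.node (.node (.node (.node (.node (.node (.leaf 246759207453) (.leaf 11500376103)) (.node (.leaf 943870846895) (.leaf 617719317769))) (.node (.node (.leaf 408930722662) (.leaf 44384055409)) (.node (.leaf 1008528226370) (.leaf 899489580869)))) (.node (.node (.node (.leaf 408293847909) (.leaf 357775803131)) (.node (.leaf 837290079936) (.leaf 284898583139))) (.node (.node (.leaf 29519278163) (.leaf 976053811203)) (.node (.leaf 1013845317704) (.leaf 326996095674))))) (.node (.node (.node (.node (.leaf 678633039223) (.leaf 191181541807)) (.node (.leaf 222062260713) (.leaf 1083807877350))) (.node (.node (.leaf 415413580659) (.leaf 899042977603)) (.node (.leaf 446570562495) (.leaf 784057534048)))) (.node (.node (.node (.leaf 944278874032) (.leaf 585474348235)) (.node (.leaf 842249291468) (.leaf 223001641453))) (.node (.node (.leaf 485540492303) (.leaf 170101498237)) (.node (.leaf 424512983952) (.leaf 910148294493)))))) (.node (.node (.node (.node (.node (.leaf 403194393438) (.leaf 65611772062))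 (.node (.leaf 763736307256) (.leaf 400550101846))) (.node (.node (.leaf 793422939760) (.leaf 969166673905)) (.node (.leaf 173545763202) (.leaf 384306107187)))) (.node (.node (.node (.leaf 391813149513) (.leaf 724923151843)) (.node (.leaf 196043506104) (.leaf 963509991396))) (.node (.node (.leaf 906264598356) (.leaf 729636324845)) (.node (.leaf 75551277240) (.leaf 415449387892))))) (.node (.node (.node (.node (.leaf 110016958715) (.leaf 28201291856)) (.node (.leaf 286073270890) (.leaf 28483371089))) (.node (.node (.leaf 1059071092915) (.leaf 391243330375)) (.node (.leaf 1044157507730) (.leaf 981013628949)))) (.node (.node (.node (.leaf 328690184895) (.leaf 931495446425)) (.node (.leaf 1068801951942) (.leaf 394459538254))) (.node (.node (.leaf 1036227848314) (.leaf 807610107534)) (.node (.leaf 353528890096) (.leaf 660326888786))))))) (.node (.node (.node (.node (.node (.node (.leaf 344581194461) (.leaf 418371359615)) (.node (.leaf 940284245925) (.leaf 927680501648))) (.node (.node (.leaf 712239764945) (.leaf 788083451495)) (.node (.leaf 381500691244)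 (.leaf 697227179439)))) (.node (.node (.node (.leaf 306034008714) (.leaf 531960239204)) (.node (.leaf 73484529842) (.leaf 870255048452))) (.node (.node (.leaf 865825117944) (.leaf 19062333504)) (.node (.leaf 1037262096509) (.leaf 938907604900))))) (.node (.node (.node (.node (.leaf 195107738037) (.leaf 1079342983391)) (.node (.leaf 187043328415) (.leaf 100496388328))) (.node (.node (.leaf 711728190927) (.leaf 1029197289575)) (.node (.leaf 855642592996) (.leaf 636256421169)))) (.node (.node (.node (.leaf 187547337124) (.leaf 292137615998)) (.node (.leaf 1036997167229) (.leaf 43158261870))) (.node (.node (.leaf 303047795333) (.leaf 898969728834)) (.node (.leaf 265765438008) (.leaf 949094229952)))))) (.node (.node (.node (.node (.node (.leaf 978601461780) (.leaf 950531946438)) (.node (.leaf 783156938334) (.leaf 144365777227))) (.node (.node (.leaf 494734697512) (.leaf 191181541807)) (.node (.leaf 503093441596) (.leaf 946478602165)))) (.node (.node (.node (.leaf 471913772005) (.leaf 268884943424)) (.node (.leaf 767053928001) (.leaf 291784147580))) (.node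 (.node (.leaf 789433005676) (.leaf 496781415468)) (.node (.leaf 900164179784) (.leaf 888850904874))))) (.node (.node (.node (.node (.leaf 488691504149) (.leaf 751817086493)) (.node (.leaf 986306238492) (.leaf 995485153323))) (.node (.node (.leaf 736324826619) (.leaf 706706036168)) (.node (.leaf 269152223809) (.leaf 211777847764)))) (.node (.node (.node (.leaf 121637036312) (.leaf 599081309406)) (.node (.leaf 245083021847) (.leaf 621846426897))) (.node (.node (.leaf 1041080248459) (.leaf 938907604900)) (.node (.leaf 669282219362) (.leaf 0)))))))) (.node (.node (.node (.node (.node (.node (.node (.leaf 1055949379759) (.leaf 130394042667)) (.node (.leaf 379935728424) (.leaf 596781282524))) (.node (.node (.leaf 45301911666) (.leaf 289209770614)) (.node (.leaf 593815528665) (.leaf 736324826619)))) (.node (.node (.node (.leaf 794553546355) (.leaf 738775033346)) (.node (.leaf 378880152359) (.leaf 926277724043))) (.node (.node (.leaf 788618712681) (.leaf 986234124314)) (.node (.leaf 85054783694) (.leaf 995474970666))))) (.node (.node (.node (.node (.leaf 723224319455)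 (.leaf 1055793596589)) (.node (.leaf 43221028975) (.leaf 3536207889))) (.node (.node (.leaf 206649622988) (.leaf 783915005536)) (.node (.leaf 457356219345) (.leaf 609531778293)))) (.node (.node (.node (.leaf 436677284776) (.leaf 774141290066)) (.node (.leaf 664827381080) (.leaf 202848793031))) (.node (.node (.leaf 686309393805) (.leaf 723241645535)) (.node (.leaf 357056054010) (.leaf 891052500785)))))) (.node (.node (.node (.node (.node (.leaf 884125886237) (.leaf 418012861309)) (.node (.leaf 25366204492) (.leaf 499520459827))) (.node (.node (.leaf 1084764539114) (.leaf 40005091429)) (.node (.leaf 900164179784) (.leaf 203767202248)))) (.node (.node (.node (.leaf 60064379023) (.leaf 858761488111)) (.node (.leaf 32346370138) (.leaf 1000807835699))) (.node (.node (.leaf 48659345525) (.leaf 881885443864)) (.node (.leaf 199288005058) (.leaf 948668626877))))) (.node (.node (.node (.node (.leaf 1079032727772) (.leaf 948668626877)) (.node (.leaf 1042814421136) (.leaf 29493112914))) (.node (.node (.leaf 764379887162) (.leaf 425661084563)) (.node (.leaf 1042332747918)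 (.leaf 941347334053)))) (.node (.node (.node (.leaf 123696767261) (.leaf 62772056213)) (.node (.leaf 371687760666) (.leaf 975596345346))) (.node (.node (.leaf 110413938941) (.leaf 556601087116)) (.node (.leaf 575008015545) (.leaf 666991105373))))))) (.node (.node (.node (.node (.node (.node (.leaf 885916407586) (.leaf 273512817231)) (.node (.leaf 977186093066) (.leaf 727513155050))) (.node (.node (.leaf 723170215390) (.leaf 802494961278)) (.node (.leaf 416444474232) (.leaf 943870846895)))) (.node (.node (.node (.leaf 959286200283) (.leaf 126597624097)) (.node (.leaf 1023246313559) (.leaf 282984997473))) (.node (.node (.leaf 216127574492) (.leaf 83943805132)) (.node (.leaf 986764441629) (.leaf 402598368093))))) (.node (.node (.node (.node (.leaf 1089720547569) (.leaf 339387531988)) (.node (.leaf 340522590935) (.leaf 575008015545))) (.node (.node (.leaf 812251518618) (.leaf 1090026993906)) (.node (.leaf 963509991396) (.leaf 404493812575)))) (.node (.node (.node (.leaf 416444474232) (.leaf 1060748847287)) (.node (.leaf 664077989207) (.leaf 696321516972)))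 (.node (.node (.leaf 543883310202) (.leaf 1465614346)) (.node (.leaf 510469899332) (.leaf 91998183641)))))) (.node (.node (.node (.node (.node (.leaf 325155824309) (.leaf 154634801498)) (.node (.leaf 733547578871) (.leaf 8192))) (.node (.node (.leaf 104737734897) (.leaf 987617904671)) (.node (.leaf 297390576258) (.leaf 909318027101)))) (.node (.node (.node (.leaf 448322532293) (.leaf 941347334053)) (.node (.leaf 71162249384) (.leaf 630026499366))) (.node (.node (.leaf 60010365069) (.leaf 564063491228)) (.node (.leaf 518245807187) (.leaf 949068085184))))) (.node (.node (.node (.node (.leaf 1084764539114) (.leaf 546109838460)) (.node (.leaf 287578882674) (.leaf 827733370546))) (.node (.node (.leaf 973437515772) (.leaf 88023625940)) (.node (.leaf 1010067241027) (.leaf 75759579320)))) (.node (.node (.node (.leaf 1081684011234) (.leaf 141454934340)) (.node (.leaf 297681990274) (.leaf 604042347751))) (.node (.node (.leaf 8596234272) (.leaf 830694512310)) (.node (.leaf 943870846895) (.leaf 0))))))))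

/-- Part of `hintBOne`. -/
def hintBOne_p0111 : Tr := .node (.node (.node (.node (.node (.node (.node (.node (.leaf 928568780690) (.leaf 722068428253)) (.node (.leaf 711728190927) (.leaf 365647459086))) (.node (.node (.leaf 737827272191) (.leaf 266432324154)) (.node (.leaf 938907604900) (.leaf 467115910110)))) (.node (.node (.node (.leaf 76383801530) (.leaf 49271324790)) (.node (.leaf 1059071092915) (.leaf 622870185238))) (.node (.node (.leaf 365851869967) (.leaf 811244709529)) (.node (.leaf 884878731041) (.leaf 496297903148))))) (.node (.node (.node (.node (.leaf 224729768431) (.leaf 804237444736)) (.node (.leaf 14252023859) (.leaf 110170300668))) (.node (.node (.leaf 1070484101324) (.leaf 375161713440)) (.node (.leaf 664141223255) (.leaf 450158216137)))) (.node (.node (.node (.leaf 155580608860) (.leaf 727965386219)) (.node (.leaf 75551277240) (.leaf 415936578423))) (.node (.node (.leaf 808382051982) (.leaf 78650626236)) (.node (.leaf 1067718715587) (.leaf 422492201865)))))) (.node (.node (.node (.node (.node (.leaf 170598146430) (.leaf 219414634981))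 (.node (.leaf 1026810587232) (.leaf 281615696478))) (.node (.node (.leaf 326078812856) (.leaf 215086162392)) (.node (.leaf 87007518930) (.leaf 526227473500)))) (.node (.node (.node (.leaf 352231453420) (.leaf 464118666200)) (.node (.leaf 991608154150) (.leaf 858761488111))) (.node (.node (.leaf 610877035767) (.leaf 418012861309)) (.node (.leaf 375527113506) (.leaf 353430008560))))) (.node (.node (.node (.node (.leaf 664458626392) (.leaf 330741199557)) (.node (.leaf 427285820312) (.leaf 819895281317))) (.node (.node (.leaf 528810456157) (.leaf 756390856228)) (.node (.leaf 547370624126) (.leaf 971763468280)))) (.node (.node (.node (.leaf 522115499099) (.leaf 839145666243)) (.node (.leaf 204341797321) (.leaf 898969728834))) (.node (.node (.leaf 287283966575) (.leaf 884873709345)) (.node (.leaf 597603108061) (.leaf 919779252093))))))) (.node (.node (.node (.node (.node (.node (.leaf 474474030059) (.leaf 1087116331245)) (.node (.leaf 177112015242) (.leaf 484744004622))) (.node (.node (.leaf 657234154829) (.leaf 471729034212)) (.node (.leaf 329700553410)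 (.leaf 247000629789)))) (.node (.node (.node (.leaf 16306421817) (.leaf 904504543056)) (.node (.leaf 711987996111) (.leaf 911853504356))) (.node (.node (.leaf 873480947465) (.leaf 573025125554)) (.node (.leaf 803192112768) (.leaf 317007168164))))) (.node (.node (.node (.node (.leaf 65611772062) (.leaf 829852100276)) (.node (.leaf 1096724793597) (.leaf 15120822324))) (.node (.node (.leaf 168057987446) (.leaf 24701878345)) (.node (.leaf 395142345550) (.leaf 931459577752)))) (.node (.node (.node (.leaf 133533077815) (.leaf 347360813793)) (.node (.leaf 763459040821) (.leaf 724031940065))) (.node (.node (.leaf 731837060598) (.leaf 628433433890)) (.node (.leaf 426199249812) (.leaf 42251153515)))))) (.node (.node (.node (.node (.node (.leaf 679358432632) (.leaf 309491868308)) (.node (.leaf 375527113506) (.leaf 360432644865))) (.node (.node (.leaf 128214872358) (.leaf 574646289592)) (.node (.leaf 791308416620) (.leaf 230060732921)))) (.node (.node (.node (.leaf 329412629185) (.leaf 155580608860)) (.node (.leaf 73003442353) (.leaf 741183137291))) (.node (.node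 (.leaf 277001347669) (.leaf 884268791582)) (.node (.leaf 475553788912) (.leaf 752696342045))))) (.node (.node (.node (.node (.leaf 728502908396) (.leaf 820326430375)) (.node (.leaf 204341797321) (.leaf 137251582272))) (.node (.node (.leaf 538729870448) (.leaf 658956133712)) (.node (.leaf 767951291969) (.leaf 183626289561)))) (.node (.node (.node (.leaf 1052727474339) (.leaf 248986645023)) (.node (.leaf 514822640719) (.leaf 1092908402934))) (.node (.node (.leaf 909318027101) (.leaf 940284245925)) (.node (.leaf 1065281464508) (.leaf 0)))))))) (.node (.node (.node (.node (.node (.node (.node (.leaf 128220246310) (.leaf 1020937123922)) (.node (.leaf 833698371257) (.leaf 998076254254))) (.node (.node (.leaf 364752306956) (.leaf 184675537308)) (.node (.leaf 690412467612) (.leaf 824055154350)))) (.node (.node (.node (.leaf 496259925035) (.leaf 82344800457)) (.node (.leaf 174136910213) (.leaf 94123643100))) (.node (.node (.leaf 449191457735) (.leaf 1010067241027)) (.node (.leaf 440066655152) (.leaf 685924332941))))) (.node (.node (.node (.node (.leaf 502977639484)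 (.leaf 586244453582)) (.node (.leaf 267053519419) (.leaf 1013246707783))) (.node (.node (.leaf 475667071984) (.leaf 509513999427)) (.node (.leaf 13527662637) (.leaf 213804163542)))) (.node (.node (.node (.leaf 276329468498) (.leaf 799691912822)) (.node (.leaf 266432324154) (.leaf 107814224117))) (.node (.node (.leaf 494387545127) (.leaf 889223227181)) (.node (.leaf 124623585568) (.leaf 463532676056)))))) (.node (.node (.node (.node (.node (.leaf 578188932285) (.leaf 185603264925)) (.node (.leaf 13527662637) (.leaf 227505947124))) (.node (.node (.leaf 737953023487) (.leaf 406338347872)) (.node (.leaf 40005091429) (.leaf 885142693665)))) (.node (.node (.node (.leaf 447832941505) (.leaf 538729870448)) (.node (.leaf 85885382864) (.leaf 467332518880))) (.node (.node (.leaf 327106409147) (.leaf 121637036312)) (.node (.leaf 949035022271) (.leaf 909121345369))))) (.node (.node (.node (.node (.leaf 258097918506) (.leaf 595513849051)) (.node (.leaf 353731621618) (.leaf 214665490903))) (.node (.node (.leaf 114349383943) (.leaf 1024130480217)) (.node (.leaf 545162175610)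 (.leaf 322315846320)))) (.node (.node (.node (.leaf 562499925142) (.leaf 23197859909)) (.node (.leaf 1020937123922) (.leaf 13549686830))) (.node (.node (.leaf 78169243835) (.leaf 37368356961)) (.node (.leaf 1043029510288) (.leaf 0))))))) (.node (.node (.node (.node (.node (.node (.leaf 552591139972) (.leaf 986324420637)) (.node (.leaf 772521991) (.leaf 80025338047))) (.node (.node (.leaf 72127365292) (.leaf 478060581881)) (.node (.leaf 316395115172) (.leaf 856698357478)))) (.node (.node (.node (.leaf 332834730696) (.leaf 771714410060)) (.node (.leaf 766792021567) (.leaf 605503050987))) (.node (.node (.leaf 260252660267) (.leaf 802494961278)) (.node (.leaf 73003442353) (.leaf 141684187460))))) (.node (.node (.node (.node (.leaf 718318937560) (.leaf 90821169369)) (.node (.leaf 374732567327) (.leaf 269130801728))) (.node (.node (.leaf 603124696291) (.leaf 911606093667)) (.node (.leaf 977518827535) (.leaf 893919299381)))) (.node (.node (.node (.leaf 150264475990) (.leaf 810373179031)) (.node (.leaf 178355536269) (.leaf 632527238444))) (.node (.node (.leaf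 25039675466) (.leaf 959831418844)) (.node (.leaf 687815300500) (.leaf 986324420637)))))) (.node (.node (.node (.node (.node (.leaf 320156148394) (.leaf 1098606627069)) (.node (.leaf 418813309823) (.leaf 18335031358))) (.node (.node (.leaf 509822202947) (.leaf 483938407434)) (.node (.leaf 465986786269) (.leaf 589043967188)))) (.node (.node (.node (.leaf 154138423642) (.leaf 841794717386)) (.node (.leaf 90058248407) (.leaf 36532510816))) (.node (.node (.leaf 733240944119) (.leaf 520658527319)) (.node (.leaf 816443209378) (.leaf 375161713440))))) (.node (.node (.node (.node (.leaf 861394294513) (.leaf 685615162764)) (.node (.leaf 401809220443) (.leaf 98399776996))) (.node (.node (.leaf 407380927330) (.leaf 723648570848)) (.node (.leaf 959831418844) (.leaf 710638409163)))) (.node (.node (.node (.leaf 58721050761) (.leaf 1049005119641)) (.node (.leaf 1055410096300) (.leaf 825067898544))) (.node (.node (.leaf 971451873271) (.leaf 239489819150)) (.node (.leaf 1068562688198) (.leaf 0))))))))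

/-- Part of `hintBOne`. -/
def hintBOne_p1000 : Tr := .node (.node (.node (.node (.node (.node (.node (.node (.leaf 261865120302) (.leaf 19062333504)) (.node (.leaf 399958451030) (.leaf 971346069494))) (.node (.node (.leaf 424448856975) (.leaf 360149463808)) (.node (.leaf 255559696933) (.leaf 382665335600)))) (.node (.node (.node (.leaf 464691274713) (.leaf 23436660807)) (.node (.leaf 971346069494) (.leaf 480604812290))) (.node (.node (.leaf 736520492540) (.leaf 137251582272)) (.node (.leaf 622046123284) (.leaf 95850160353))))) (.node (.node (.node (.node (.leaf 64074756249) (.leaf 960962955231)) (.node (.leaf 761435059759) (.leaf 347360813793))) (.node (.node (.leaf 562333889685) (.leaf 905689225042)) (.node (.leaf 977295259661) (.leaf 416444474232)))) (.node (.node (.node (.leaf 744501147153) (.leaf 923260639108)) (.node (.leaf 789433005676) (.leaf 62041014420))) (.node (.node (.leaf 931762878362) (.leaf 1062335854776)) (.node (.leaf 445804962749) (.leaf 545262367866)))))) (.node (.node (.node (.node (.node (.leaf 183626289561) (.leaf 252019401251))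 (.node (.leaf 47972298868) (.leaf 281390162525))) (.node (.node (.leaf 955067164626) (.leaf 29493112914)) (.node (.leaf 738847475206) (.leaf 769294652998)))) (.node (.node (.node (.leaf 223001641453) (.leaf 513096381515)) (.node (.leaf 529015063647) (.leaf 247787057694))) (.node (.node (.leaf 450082165704) (.leaf 995485153323)) (.node (.leaf 488691504149) (.leaf 208215982544))))) (.node (.node (.node (.node (.leaf 281390162525) (.leaf 537854362735)) (.node (.leaf 567872259236) (.leaf 582440694980))) (.node (.node (.leaf 844937819856) (.leaf 877885736720)) (.node (.leaf 220227949030) (.leaf 656886392141)))) (.node (.node (.node (.leaf 126907085090) (.leaf 603950142694)) (.node (.leaf 422339052424) (.leaf 969854261234))) (.node (.node (.leaf 904989570897) (.leaf 918361786233)) (.node (.leaf 328361857727) (.leaf 395513992015))))))) (.node (.node (.node (.node (.node (.node (.leaf 779493443160) (.leaf 776210564692)) (.node (.leaf 1095389575420) (.leaf 918361786233))) (.node (.node (.leaf 478229664762) (.leaf 131711115570)) (.node (.leaf 817994823331) (.leaf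 747806037527)))) (.node (.node (.node (.leaf 41989574763) (.leaf 185603264925)) (.node (.leaf 403602449247) (.leaf 856398419685))) (.node (.node (.leaf 759074797099) (.leaf 1023246313559)) (.node (.leaf 491443975196) (.leaf 16643321916))))) (.node (.node (.node (.node (.leaf 14252023859) (.leaf 1021477849172)) (.node (.leaf 213512507862) (.leaf 287346451057))) (.node (.node (.leaf 478229664762) (.leaf 268703789631)) (.node (.leaf 904053585744) (.leaf 64074756249)))) (.node (.node (.node (.leaf 438541513643) (.leaf 238106059270)) (.node (.leaf 471913772005) (.leaf 729636324845))) (.node (.node (.leaf 1042468157583) (.leaf 904053585744)) (.node (.leaf 415413580659) (.leaf 3858092049)))))) (.node (.node (.node (.node (.node (.leaf 821199431336) (.leaf 585474348235)) (.node (.leaf 29676425300) (.leaf 628550796579))) (.node (.node (.leaf 510469899332) (.leaf 61804331155)) (.node (.leaf 360149463808) (.leaf 601407419616)))) (.node (.node (.node (.leaf 741183137291) (.leaf 1072912603346)) (.node (.leaf 562509419670) (.leaf 7608332318))) (.node (.node (.leaf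 541985854582) (.leaf 388306420543)) (.node (.leaf 1023296653399) (.leaf 29676425300))))) (.node (.node (.node (.node (.leaf 749555471898) (.leaf 529969353826)) (.node (.leaf 845118002896) (.leaf 66350100640))) (.node (.node (.leaf 677150311795) (.leaf 637834126646)) (.node (.leaf 132021580084) (.leaf 777746380375)))) (.node (.node (.node (.leaf 72615698608) (.leaf 740740965898)) (.node (.leaf 641848259897) (.leaf 54689099902))) (.node (.node (.leaf 911853504356) (.leaf 49271324790)) (.node (.leaf 909034551128) (.leaf 0)))))))) (.node (.node (.node (.node (.node (.node (.node (.leaf 338971407059) (.leaf 636915201332)) (.node (.leaf 46486851699) (.leaf 911853504356))) (.node (.node (.leaf 474266325993) (.leaf 1039883982982)) (.node (.leaf 943238555561) (.leaf 361237549827)))) (.node (.node (.node (.leaf 915858732912) (.leaf 214864368088)) (.node (.leaf 118854803731) (.leaf 753306961437))) (.node (.node (.leaf 521975116890) (.leaf 472568161254)) (.node (.leaf 361961034502) (.leaf 500158465075))))) (.node (.node (.node (.node (.leaf 481031857156) (.leaf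 384956035899)) (.node (.leaf 852520232669) (.leaf 1031723194477))) (.node (.node (.leaf 4581617683) (.leaf 931762878362)) (.node (.leaf 736961988093) (.leaf 832894211769)))) (.node (.node (.node (.leaf 464971248603) (.leaf 464118666200)) (.node (.leaf 453931664333) (.leaf 801618577020))) (.node (.node (.leaf 399248053077) (.leaf 586884224207)) (.node (.leaf 1042864019600) (.leaf 772327003728)))))) (.node (.node (.node (.node (.node (.leaf 812273571483) (.leaf 327106409147)) (.node (.leaf 601314075872) (.leaf 268396237374))) (.node (.node (.leaf 257292812841) (.leaf 461298115540)) (.node (.leaf 325155824309) (.leaf 509822202947)))) (.node (.node (.node (.leaf 677944440182) (.leaf 771949041229)) (.node (.leaf 303047795333) (.leaf 821361608360))) (.node (.node (.leaf 475553788912) (.leaf 545675883643)) (.node (.leaf 667238950238) (.leaf 468300854241))))) (.node (.node (.node (.node (.leaf 360432644865) (.leaf 1015457364045)) (.node (.leaf 715113579989) (.leaf 187085238687))) (.node (.node (.leaf 725505291748) (.leaf 546574324861)) (.node (.leaf 552861594756)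 (.leaf 890916411184)))) (.node (.node (.node (.leaf 287051781) (.leaf 217832079844)) (.node (.leaf 127435133220) (.leaf 406076605280))) (.node (.node (.leaf 273423454798) (.leaf 14606700595)) (.node (.leaf 95988965602) (.leaf 131538239793))))))) (.node (.node (.node (.node (.node (.node (.leaf 914703472492) (.leaf 34392490076)) (.node (.leaf 1073662970070) (.leaf 83014176969))) (.node (.node (.leaf 446570562495) (.leaf 820528653992)) (.node (.leaf 833698371257) (.leaf 717256177110)))) (.node (.node (.node (.leaf 148709949778) (.leaf 400032416598)) (.node (.leaf 803192112768) (.leaf 1007748982848))) (.node (.node (.leaf 364649444108) (.leaf 823081485995)) (.node (.leaf 478351234043) (.leaf 420218880898))))) (.node (.node (.node (.node (.leaf 514062464078) (.leaf 849765607125)) (.node (.leaf 754604295712) (.leaf 620804048143))) (.node (.node (.leaf 513899189326) (.leaf 213512507862)) (.node (.leaf 848045057749) (.leaf 904989570897)))) (.node (.node (.node (.leaf 425054286736) (.leaf 186499473821)) (.node (.leaf 369411175188) (.leaf 1024967194715))) (.node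 (.node (.leaf 821361608360) (.leaf 687054206350)) (.node (.leaf 188072247716) (.leaf 162171441513)))))) (.node (.node (.node (.node (.node (.leaf 860993210096) (.leaf 1083215333605)) (.node (.leaf 884125886237) (.leaf 533971620967))) (.node (.node (.leaf 75759579320) (.leaf 621427512592)) (.node (.leaf 135473275195) (.leaf 1024436394073)))) (.node (.node (.node (.leaf 851785471704) (.leaf 1089764014321)) (.node (.leaf 110016958715) (.leaf 1044058392721))) (.node (.node (.leaf 305382724232) (.leaf 1965473804)) (.node (.leaf 727038887397) (.leaf 631561045290))))) (.node (.node (.node (.node (.leaf 921053079426) (.leaf 238106059270)) (.node (.leaf 562417951894) (.leaf 1046052731029))) (.node (.node (.leaf 72615698608) (.leaf 26769223760)) (.node (.leaf 738782463491) (.leaf 113684615429)))) (.node (.node (.node (.leaf 330832982726) (.leaf 352231453420)) (.node (.leaf 569135674534) (.leaf 124623585568))) (.node (.node (.leaf 339108053716) (.leaf 608949687539)) (.node (.leaf 211998171605) (.leaf 0))))))))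

/-- Part of `hintBOne`. -/
def hintBOne_p1001 : Tr := .node (.node (.node (.node (.node (.node (.node (.node (.leaf 658045850959) (.leaf 941347334053)) (.node (.leaf 435030635427) (.leaf 542469952632))) (.node (.node (.leaf 939570694052) (.leaf 491443975196)) (.node (.leaf 868009834238) (.leaf 700959073721)))) (.node (.node (.node (.leaf 462383432664) (.leaf 131073163566)) (.node (.leaf 188906279334) (.leaf 418850169727))) (.node (.node (.leaf 556039222410) (.leaf 601607103712)) (.node (.leaf 977518827535) (.leaf 693237568930))))) (.node (.node (.node (.node (.leaf 775476389460) (.leaf 832435701431)) (.node (.leaf 150857253207) (.leaf 825067898544))) (.node (.node (.leaf 596781847772) (.leaf 312736866973)) (.node (.leaf 899672471366) (.leaf 618280273163)))) (.node (.node (.node (.leaf 263451734577) (.leaf 261929587246)) (.node (.leaf 20064780353) (.leaf 98399776996))) (.node (.node (.leaf 750826333724) (.leaf 914359883627)) (.node (.leaf 287097586286) (.leaf 227924357622)))))) (.node (.node (.node (.node (.node (.leaf 686219720077) (.leaf 870449334021))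 (.node (.leaf 629845972261) (.leaf 804668667524))) (.node (.node (.leaf 131538239793) (.leaf 193522839988)) (.node (.leaf 690835367325) (.leaf 242683855378)))) (.node (.node (.node (.leaf 732252812790) (.leaf 14606700595)) (.node (.leaf 500858131509) (.leaf 6250700827))) (.node (.node (.leaf 259494158890) (.leaf 316166722211)) (.node (.leaf 420218880898) (.leaf 754662954529))))) (.node (.node (.node (.node (.leaf 955067164626) (.leaf 603651437798)) (.node (.leaf 963509991396) (.leaf 957749127129))) (.node (.node (.leaf 441452528563) (.leaf 538840974449)) (.node (.leaf 386144342844) (.leaf 457849250769)))) (.node (.node (.node (.leaf 651678487879) (.leaf 58655375497)) (.node (.leaf 312899334813) (.leaf 909338367837))) (.node (.node (.leaf 480044430337) (.leaf 714506507733)) (.node (.leaf 170598146430) (.leaf 718628451802))))))) (.node (.node (.node (.node (.node (.node (.leaf 116260000011) (.leaf 268356424254)) (.node (.leaf 439777502126) (.leaf 1036079306873))) (.node (.node (.leaf 457849250769) (.leaf 697123743150)) (.node (.leaf 578318988477) (.leaf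 519887733846)))) (.node (.node (.node (.leaf 23091638340) (.leaf 810065368726)) (.node (.leaf 246452666906) (.leaf 566812718244))) (.node (.node (.leaf 188641292709) (.leaf 941521090470)) (.node (.leaf 675171841390) (.leaf 937489782690))))) (.node (.node (.node (.node (.leaf 839141287619) (.leaf 510603711557)) (.node (.leaf 488090555411) (.leaf 956025968597))) (.node (.node (.leaf 757179835943) (.leaf 154088239450)) (.node (.leaf 174086369668) (.leaf 421547078533)))) (.node (.node (.node (.leaf 44384055409) (.leaf 238334784007)) (.node (.leaf 128214872358) (.leaf 858381018862))) (.node (.node (.leaf 545262367866) (.leaf 603124696291)) (.node (.leaf 667652670816) (.leaf 593001977049)))))) (.node (.node (.node (.node (.node (.leaf 1039274952838) (.leaf 226734318066)) (.node (.leaf 153155846489) (.leaf 354599142132))) (.node (.node (.leaf 306034008714) (.leaf 14765854772)) (.node (.leaf 940178823077) (.leaf 490441872408)))) (.node (.node (.node (.leaf 213804163542) (.leaf 954842851282)) (.node (.leaf 744501147153) (.leaf 799691912822))) (.node (.node (.leaf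 727229871592) (.leaf 582731506884)) (.node (.leaf 367503438610) (.leaf 401809220443))))) (.node (.node (.node (.node (.leaf 71661437098) (.leaf 495020975145)) (.node (.leaf 749555471898) (.leaf 268916617792))) (.node (.node (.leaf 346225234654) (.leaf 619540026637)) (.node (.leaf 394437002062) (.leaf 469141959650)))) (.node (.node (.node (.leaf 806460749452) (.leaf 271067038279)) (.node (.leaf 710638409163) (.leaf 276477411922))) (.node (.node (.leaf 530549220451) (.leaf 1042163710091)) (.node (.leaf 442857345973) (.leaf 0)))))))) (.node (.node (.node (.node (.node (.node (.node (.leaf 938907604900) (.leaf 484455678988)) (.node (.leaf 624512775450) (.leaf 1015457364045))) (.node (.node (.leaf 497840018479) (.leaf 382156485423)) (.node (.leaf 811244709529) (.leaf 914359883627)))) (.node (.node (.node (.leaf 879342880530) (.leaf 604698211560)) (.node (.leaf 25361784907) (.leaf 597593801948))) (.node (.node (.leaf 704355755462) (.leaf 1040371382409)) (.node (.leaf 417389446011) (.leaf 901385570124))))) (.node (.node (.node (.node (.leaf 894597633846) (.leaf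 196043506104)) (.node (.leaf 512724825162) (.leaf 1032380598384))) (.node (.node (.leaf 614482490623) (.leaf 1904037900)) (.node (.leaf 1089022695663) (.leaf 328549401279)))) (.node (.node (.node (.leaf 1074435889367) (.leaf 27214221392)) (.node (.leaf 1965473804) (.leaf 216127574492))) (.node (.node (.leaf 592419734744) (.leaf 466570437598)) (.node (.leaf 680743867774) (.leaf 531377341539)))))) (.node (.node (.node (.node (.node (.leaf 736324826619) (.leaf 191181541807)) (.node (.leaf 332372488904) (.leaf 9549807649))) (.node (.node (.leaf 868037986046) (.leaf 278998327896)) (.node (.leaf 188863861157) (.leaf 347360813793)))) (.node (.node (.node (.leaf 12562022443) (.leaf 124623585568)) (.node (.leaf 950270359493) (.leaf 631558927657))) (.node (.node (.leaf 1018882799695) (.leaf 285287236197)) (.node (.leaf 864879990519) (.leaf 1076366518492))))) (.node (.node (.node (.node (.leaf 517633303633) (.leaf 654232839497)) (.node (.leaf 479291716608) (.leaf 975596345346))) (.node (.node (.leaf 262092436015) (.leaf 405651497824)) (.node (.leaf 1026772854879)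 (.leaf 212935090646)))) (.node (.node (.node (.leaf 330875847366) (.leaf 490945279001)) (.node (.leaf 593815528665) (.leaf 351252321002))) (.node (.node (.leaf 1001444796467) (.leaf 353731621618)) (.node (.leaf 189053084070) (.leaf 752696342045))))))) (.node (.node (.node (.node (.node (.node (.leaf 1042332698765) (.leaf 204341797321)) (.node (.leaf 997421045806) (.leaf 727596525035))) (.node (.node (.leaf 256719028776) (.leaf 759939446317)) (.node (.leaf 399739446102) (.leaf 671211165028)))) (.node (.node (.node (.leaf 169499324795) (.leaf 999181662256)) (.node (.leaf 1018804549711) (.leaf 198828691904))) (.node (.node (.leaf 197303976379) (.leaf 1074271152343)) (.node (.leaf 1055245625513) (.leaf 199288005058))))) (.node (.node (.node (.node (.leaf 247620063774) (.leaf 428231213979)) (.node (.leaf 884873647905) (.leaf 1057922070705))) (.node (.node (.leaf 14699262004) (.leaf 446570562495)) (.node (.leaf 723176543711) (.leaf 380933509932)))) (.node (.node (.node (.leaf 545262367866) (.leaf 694862398889)) (.node (.leaf 718318937560) (.leaf 73484529842)))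 (.node (.node (.leaf 622857925910) (.leaf 110901477630)) (.node (.leaf 85761302736) (.leaf 634545755439)))))) (.node (.node (.node (.node (.node (.leaf 371856646939) (.leaf 494387545127)) (.node (.leaf 584817304776) (.leaf 952807933903))) (.node (.node (.leaf 296726995585) (.leaf 484564296717)) (.node (.leaf 132850123061) (.leaf 43604717680)))) (.node (.node (.node (.leaf 41421791337) (.leaf 3858092049)) (.node (.leaf 941351585702) (.leaf 3296444432))) (.node (.node (.leaf 610574718198) (.leaf 664016676182)) (.node (.leaf 827535005362) (.leaf 263205524016))))) (.node (.node (.node (.node (.leaf 888850904874) (.leaf 254535971364)) (.node (.leaf 197181395387) (.leaf 564162815133))) (.node (.node (.leaf 308848710288) (.leaf 601663177952)) (.node (.leaf 622273230101) (.leaf 142241558854)))) (.node (.node (.node (.leaf 761435059759) (.leaf 221620871656)) (.node (.leaf 727596525035) (.leaf 963241007075))) (.node (.node (.leaf 150857253207) (.leaf 416888157049)) (.node (.leaf 393287283533) (.leaf 0))))))))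

/-- Part of `hintBOne`. -/
def hintBOne_p1010 : Tr := .node (.node (.node (.node (.node (.node (.node (.node (.leaf 933361698719) (.leaf 188535910821)) (.node (.leaf 923313198981) (.leaf 898276345665))) (.node (.node (.leaf 1051371329695) (.leaf 869733205761)) (.node (.leaf 336193528524) (.leaf 223799525870)))) (.node (.node (.node (.leaf 1039149791364) (.leaf 135465615675)) (.node (.leaf 222328938987) (.leaf 666991105373))) (.node (.node (.leaf 928088270736) (.leaf 85885382864)) (.node (.leaf 1069068024008) (.leaf 352767939310))))) (.node (.node (.node (.node (.leaf 158580371808) (.leaf 599280850142)) (.node (.leaf 309574120085) (.leaf 641834972472))) (.node (.node (.leaf 528073770077) (.leaf 690377950619)) (.node (.leaf 446246691773) (.leaf 978601461780)))) (.node (.node (.node (.leaf 384467628854) (.leaf 419375375232)) (.node (.leaf 846718387922) (.leaf 388663419712))) (.node (.node (.leaf 469001425889) (.leaf 68023840930)) (.node (.leaf 464691274713) (.leaf 204289147337)))))) (.node (.node (.node (.node (.node (.leaf 136377758013) (.leaf 480773051395))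 (.node (.leaf 375484683041) (.leaf 1038784899202))) (.node (.node (.leaf 132967469365) (.leaf 311250555543)) (.node (.leaf 165170917745) (.leaf 753306961437)))) (.node (.node (.node (.leaf 273423454798) (.leaf 697227179439)) (.node (.leaf 432935097248) (.leaf 454246515662))) (.node (.node (.leaf 168828023161) (.leaf 493918008355)) (.node (.leaf 702263469503) (.leaf 44649795697))))) (.node (.node (.node (.node (.leaf 135481344316) (.leaf 305382724232)) (.node (.leaf 71093981352) (.leaf 247787057694))) (.node (.node (.leaf 267388916283) (.leaf 857100543720)) (.node (.leaf 850972571350) (.leaf 463532676056)))) (.node (.node (.node (.leaf 1074271152343) (.leaf 449191457735)) (.node (.leaf 879172081425) (.leaf 869739120386))) (.node (.node (.leaf 938907604900) (.leaf 344477631196)) (.node (.leaf 196043506104) (.leaf 689930794393))))))) (.node (.node (.node (.node (.node (.node (.leaf 461298115540) (.leaf 402723705694)) (.node (.leaf 271067038279) (.leaf 382156485423))) (.node (.node (.leaf 598233703646) (.leaf 712475190737)) (.node (.leaf 135465615675) (.leaf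 748777412120)))) (.node (.node (.node (.leaf 978307041297) (.leaf 358212211452)) (.node (.leaf 931459577752) (.leaf 884268791582))) (.node (.node (.leaf 1090026993906) (.leaf 299622707843)) (.node (.leaf 399792214870) (.leaf 702333871552))))) (.node (.node (.node (.node (.leaf 781353313882) (.leaf 1046649645205)) (.node (.leaf 564063491228) (.leaf 571726865580))) (.node (.node (.leaf 879954888467) (.leaf 4581617683)) (.node (.leaf 969166673905) (.leaf 941351585702)))) (.node (.node (.node (.leaf 675953849711) (.leaf 578219558077)) (.node (.leaf 32356937819) (.leaf 539691123827))) (.node (.node (.leaf 16402190393) (.leaf 557901317262)) (.node (.leaf 354715321077) (.leaf 335195230923)))))) (.node (.node (.node (.node (.node (.leaf 1029559855209) (.leaf 732252812790)) (.node (.leaf 94548058333) (.leaf 323672634035))) (.node (.node (.leaf 474266325993) (.leaf 957641959385)) (.node (.leaf 30739251284) (.leaf 828039628467)))) (.node (.node (.node (.leaf 347761631971) (.leaf 178294768013)) (.node (.leaf 892272772915) (.leaf 87959883988))) (.node (.node (.leaf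 870255048452) (.leaf 910831048543)) (.node (.leaf 222062260713) (.leaf 1002257983541))))) (.node (.node (.node (.node (.leaf 808920315538) (.leaf 765819618876)) (.node (.leaf 648905086274) (.leaf 85054783694))) (.node (.node (.leaf 1036991273085) (.leaf 514333926478)) (.node (.leaf 264325935667) (.leaf 797781358196)))) (.node (.node (.node (.leaf 904989570897) (.leaf 775203227219)) (.node (.leaf 1039089735812) (.leaf 918102308727))) (.node (.node (.leaf 792157673070) (.leaf 884873647905)) (.node (.leaf 1072262179023) (.leaf 0)))))))) (.node (.node (.node (.node (.node (.node (.node (.leaf 57185525894) (.leaf 655145682251)) (.node (.leaf 506583925826) (.leaf 772614395474))) (.node (.node (.leaf 759074797099) (.leaf 49271324790)) (.node (.leaf 298123891330) (.leaf 938516309923)))) (.node (.node (.node (.leaf 131711115570) (.leaf 461864252374)) (.node (.leaf 268884943424) (.leaf 689930794393))) (.node (.node (.leaf 534638982249) (.leaf 582731506884)) (.node (.leaf 150857253207) (.leaf 1062775666872))))) (.node (.node (.node (.node (.leaf 807610107534)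 (.leaf 689930794393)) (.node (.leaf 265082118709) (.leaf 373424075550))) (.node (.node (.leaf 756390856228) (.leaf 916452374387)) (.node (.leaf 81709682885) (.leaf 74546118836)))) (.node (.node (.node (.leaf 628042528033) (.leaf 664077989207)) (.node (.leaf 499520459827) (.leaf 622857925910))) (.node (.node (.leaf 915560634223) (.leaf 564917466270)) (.node (.leaf 910148294493) (.leaf 643798385981)))))) (.node (.node (.node (.node (.node (.leaf 1049014315162) (.leaf 530418168931)) (.node (.leaf 295186268801) (.leaf 736520492540))) (.node (.node (.leaf 357775803131) (.leaf 1086809020652)) (.node (.leaf 1020969977939) (.leaf 424309158799)))) (.node (.node (.node (.leaf 920727177088) (.leaf 14238900274)) (.node (.leaf 189579481514) (.leaf 183795126682))) (.node (.node (.leaf 1079342983391) (.leaf 492229817374)) (.node (.leaf 121158611223) (.leaf 698338379187))))) (.node (.node (.node (.node (.leaf 283909739106) (.leaf 883096696603)) (.node (.leaf 689891841433) (.leaf 753306961437))) (.node (.node (.leaf 85054783694) (.leaf 399964259158)) (.node (.leaf 464971248603)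 (.leaf 665633285467)))) (.node (.node (.node (.leaf 923198363524) (.leaf 923058493315)) (.node (.leaf 1084764539114) (.leaf 189368799656))) (.node (.node (.leaf 1017529366607) (.leaf 793633126001)) (.node (.leaf 910831048543) (.leaf 978288773137))))))) (.node (.node (.node (.node (.node (.node (.leaf 555205710984) (.leaf 365851869967)) (.node (.leaf 1033207101556) (.leaf 399800992598))) (.node (.node (.leaf 627307996447) (.leaf 126931312931)) (.node (.leaf 145284002125) (.leaf 706615326151)))) (.node (.node (.node (.leaf 136377758013) (.leaf 520869344343)) (.node (.leaf 887962040104) (.leaf 513413665868))) (.node (.node (.leaf 29493112914) (.leaf 842173372107)) (.node (.leaf 387227554621) (.leaf 1042600650895))))) (.node (.node (.node (.node (.leaf 864879990519) (.leaf 42690568301)) (.node (.leaf 698032080306) (.leaf 978511230995))) (.node (.node (.leaf 756883867174) (.leaf 202848793031)) (.node (.leaf 607894947055) (.leaf 873494660874)))) (.node (.node (.node (.leaf 1072262179023) (.leaf 915858732912)) (.node (.leaf 74558636213) (.leaf 657176593741)))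 (.node (.node (.leaf 342510138075) (.leaf 392028586826)) (.node (.leaf 753483802141) (.leaf 163485720940)))))) (.node (.node (.node (.node (.node (.leaf 949670565828) (.leaf 415413580659)) (.node (.leaf 714506507733) (.leaf 8130658334))) (.node (.node (.leaf 48137703541) (.leaf 96887484643)) (.node (.leaf 809509783190) (.leaf 774141290066)))) (.node (.node (.node (.leaf 960962955231) (.leaf 763256452660)) (.node (.leaf 265881850425) (.leaf 947525216184))) (.node (.node (.leaf 298123891330) (.leaf 914359883627)) (.node (.leaf 966193493993) (.leaf 978307041297))))) (.node (.node (.node (.node (.leaf 484455678988) (.leaf 929130502037)) (.node (.leaf 805126284936) (.leaf 364969087758))) (.node (.node (.leaf 123817124125) (.leaf 36639264864)) (.node (.leaf 188863861157) (.leaf 518245807187)))) (.node (.node (.node (.leaf 166503842164) (.leaf 304683983496)) (.node (.leaf 852092180185) (.leaf 972878759930))) (.node (.node (.leaf 723939120609) (.leaf 735498003961)) (.node (.leaf 219038618085) (.leaf 0))))))))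

/-- Part of `hintBOne`. -/
def hintBOne_p1011 : Tr := .node (.node (.node (.node (.node (.node (.node (.node (.leaf 727229871592) (.leaf 1052371224737)) (.node (.leaf 951687563212) (.leaf 685615162764))) (.node (.node (.leaf 87007518930) (.leaf 354599142132)) (.node (.leaf 99828809959) (.leaf 65223344283)))) (.node (.node (.node (.leaf 1092910987511) (.leaf 265044816436)) (.node (.leaf 141684187460) (.leaf 657378747725))) (.node (.node (.leaf 900444755784) (.leaf 535756354667)) (.node (.leaf 32235216985) (.leaf 743889810960))))) (.node (.node (.node (.node (.leaf 684848592262) (.leaf 1008528226370)) (.node (.leaf 136251576637) (.leaf 657810003278))) (.node (.node (.leaf 589368911060) (.leaf 865401624311)) (.node (.leaf 1072260962510) (.leaf 839141287619)))) (.node (.node (.node (.leaf 447836353474) (.leaf 289921589879)) (.node (.leaf 14699262004) (.leaf 723224319455))) (.node (.node (.leaf 628550796579) (.leaf 511131526215)) (.node (.leaf 487593153555) (.leaf 378713572134)))))) (.node (.node (.node (.node (.node (.leaf 468300854241) (.leaf 1026189523038))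 (.node (.leaf 153541783898) (.leaf 418371359615))) (.node (.node (.leaf 514924790863) (.leaf 747365025302)) (.node (.leaf 951126067145) (.leaf 133501284663)))) (.node (.node (.node (.leaf 435017401250) (.leaf 316198060707)) (.node (.leaf 481031857156) (.leaf 730226714095))) (.node (.node (.leaf 52794130555) (.leaf 1095063574780)) (.node (.leaf 392692417355) (.leaf 203543130567))))) (.node (.node (.node (.node (.leaf 578903327936) (.leaf 529015063647)) (.node (.leaf 316198060707) (.leaf 702462084545))) (.node (.node (.leaf 880493291284) (.leaf 165430620530)) (.node (.leaf 396849955664) (.leaf 362338808584)))) (.node (.node (.node (.leaf 323694146228) (.leaf 65310826651)) (.node (.leaf 620924912911) (.leaf 832752150200))) (.node (.node (.leaf 300530836099) (.leaf 906285688660)) (.node (.leaf 1053220542628) (.leaf 767951291969))))))) (.node (.node (.node (.node (.node (.node (.leaf 685097010567) (.leaf 286706381421)) (.node (.leaf 821361608360) (.leaf 354340995827))) (.node (.node (.leaf 957491337177) (.leaf 772001371727)) (.node (.leaf 250030907935) (.leaf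 132850123061)))) (.node (.node (.node (.leaf 1068065016004) (.leaf 205034693066)) (.node (.leaf 94983319774) (.leaf 265089548854))) (.node (.node (.leaf 604042347751) (.leaf 629889557798)) (.node (.leaf 977283606540) (.leaf 1014749100107))))) (.node (.node (.node (.node (.leaf 44649795697) (.leaf 713710183891)) (.node (.leaf 800863950460) (.leaf 243200528915))) (.node (.node (.leaf 744501147153) (.leaf 587575182546)) (.node (.leaf 912265107301) (.leaf 461298115540)))) (.node (.node (.node (.leaf 766984287807) (.leaf 724923151843)) (.node (.leaf 16536510523) (.leaf 348362834662))) (.node (.node (.leaf 37787222113) (.leaf 79285395645)) (.node (.leaf 827535005362) (.leaf 501524948024)))))) (.node (.node (.node (.node (.node (.leaf 558060414096) (.leaf 572445439151)) (.node (.leaf 988023814177) (.leaf 1048635332761))) (.node (.node (.leaf 1055245625513) (.leaf 679248377208)) (.node (.leaf 807344133773) (.leaf 878781822736)))) (.node (.node (.node (.leaf 904432080720) (.leaf 1046649645205)) (.node (.leaf 369769796373) (.leaf 995705710635))) (.node (.node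 (.leaf 987817654303) (.leaf 158042247520)) (.node (.leaf 353528890096) (.leaf 484298253324))))) (.node (.node (.node (.node (.leaf 363359933193) (.leaf 327883092668)) (.node (.leaf 870426150661) (.leaf 478198236154))) (.node (.node (.leaf 71420031145) (.leaf 244551315990)) (.node (.leaf 5884829722) (.leaf 1052371224737)))) (.node (.node (.node (.leaf 16402190393) (.leaf 830859531958)) (.node (.leaf 1078953765084) (.leaf 8781826))) (.node (.node (.leaf 1036229372027) (.leaf 1468293131)) (.node (.leaf 963241007075) (.leaf 0)))))))) (.node (.node (.node (.node (.node (.node (.node (.leaf 1024130480217) (.leaf 384712913720)) (.node (.leaf 1006950733884) (.leaf 868332082943))) (.node (.node (.leaf 316161069730) (.leaf 723571164639)) (.node (.leaf 631558927657) (.leaf 321156833964)))) (.node (.node (.node (.leaf 857100543720) (.leaf 1055410096300)) (.node (.leaf 869739120386) (.leaf 159573377379))) (.node (.node (.leaf 112132690177) (.leaf 191181541807)) (.node (.leaf 1047759923352) (.leaf 820014986919))))) (.node (.node (.node (.node (.leaf 900164179784)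 (.leaf 3536207889)) (.node (.leaf 610987029752) (.leaf 531960239204))) (.node (.node (.leaf 384328520500) (.leaf 384451420981)) (.node (.leaf 382665335600) (.leaf 1040371382409)))) (.node (.node (.node (.leaf 588580013268) (.leaf 644509959486)) (.node (.leaf 373424075550) (.leaf 793581643377))) (.node (.node (.leaf 84898750669) (.leaf 679401915768)) (.node (.leaf 207778857421) (.leaf 597593801948)))))) (.node (.node (.node (.node (.node (.leaf 409129259879) (.leaf 1030816053356)) (.node (.leaf 244246262293) (.leaf 937474111394))) (.node (.node (.leaf 693168784802) (.leaf 671356204390)) (.node (.leaf 1032517769329) (.leaf 854436734690)))) (.node (.node (.node (.leaf 915976214385) (.leaf 338412589778)) (.node (.leaf 1054306957478) (.leaf 221225304551))) (.node (.node (.leaf 520175141974) (.leaf 435791864739)) (.node (.leaf 565806797985) (.leaf 483219637254))))) (.node (.node (.node (.node (.leaf 975596345346) (.leaf 804237444736)) (.node (.leaf 777247610455) (.leaf 785122104929))) (.node (.node (.leaf 578468545726) (.leaf 464927290330)) (.node (.leaf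 198234575295) (.leaf 60064379023)))) (.node (.node (.node (.leaf 240216478223) (.leaf 746913244694)) (.node (.leaf 41989574763) (.leaf 632612640045))) (.node (.node (.leaf 274555920976) (.leaf 322455655090)) (.node (.leaf 840376104646) (.leaf 0))))))) (.node (.node (.node (.node (.node (.node (.leaf 1016079325261) (.leaf 239399612941)) (.node (.leaf 200602915267) (.leaf 263031095856))) (.node (.node (.leaf 673863787884) (.leaf 906567858005)) (.node (.leaf 367467881234) (.leaf 210744308179)))) (.node (.node (.node (.leaf 14385827891) (.leaf 585097045193)) (.node (.leaf 311858504346) (.leaf 876926813966))) (.node (.node (.leaf 253665546787) (.leaf 722743784926)) (.node (.leaf 851509675735) (.leaf 752696342045))))) (.node (.node (.node (.node (.leaf 510469899332) (.leaf 335024603850)) (.node (.leaf 316166722211) (.leaf 75270869176))) (.node (.node (.leaf 72185319598) (.leaf 673650779497)) (.node (.leaf 521975116890) (.leaf 876074768141)))) (.node (.node (.node (.leaf 827733370546) (.leaf 488090555411)) (.node (.leaf 1098253682941) (.leaf 467760047072)))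 (.node (.node (.leaf 864810133238) (.leaf 190590054828)) (.node (.leaf 312899334813) (.leaf 480773051395)))))) (.node (.node (.node (.node (.node (.leaf 857017431783) (.leaf 1082368776420)) (.node (.leaf 1058393335986) (.leaf 78169243835))) (.node (.node (.leaf 775476389460) (.leaf 872807487241)) (.node (.leaf 687100241295) (.leaf 718053230039)))) (.node (.node (.node (.leaf 1018260883535) (.leaf 477945578488)) (.node (.leaf 571012965546) (.leaf 5671317528))) (.node (.node (.leaf 630551012647) (.leaf 175063306631)) (.node (.leaf 804447725185) (.leaf 491932234781))))) (.node (.node (.node (.node (.leaf 1031116822636) (.leaf 1049167669403)) (.node (.leaf 1071364520141) (.leaf 100699664617))) (.node (.node (.leaf 984780298262) (.leaf 764834170428)) (.node (.leaf 690412467612) (.leaf 161726468)))) (.node (.node (.node (.leaf 248986645023) (.leaf 497293579310)) (.node (.leaf 730532099569) (.leaf 12844916780))) (.node (.node (.leaf 1036227848314) (.leaf 384613143351)) (.node (.leaf 513413665868) (.leaf 0))))))))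

/-- Part of `hintBOne`. -/
def hintBOne_p1100 : Tr := .node (.node (.node (.node (.node (.node (.node (.node (.leaf 497094005805) (.leaf 929130502037)) (.node (.leaf 549502334079) (.leaf 409129259879))) (.node (.node (.leaf 706995725768) (.leaf 618280273163)) (.node (.leaf 8253354014) (.leaf 749008041497)))) (.node (.node (.node (.leaf 827197908657) (.leaf 102016250091)) (.node (.leaf 706615326151) (.leaf 957094389720))) (.node (.node (.leaf 818251089572) (.leaf 502783358011)) (.node (.leaf 937339017122) (.leaf 863507953396))))) (.node (.node (.node (.node (.leaf 82110976199) (.leaf 491843347485)) (.node (.leaf 590991459542) (.leaf 552535307396))) (.node (.node (.leaf 855642592996) (.leaf 785929356900)) (.node (.leaf 509139829826) (.leaf 738508457473)))) (.node (.node (.node (.leaf 990638917669) (.leaf 368896238356)) (.node (.leaf 1058649036979) (.leaf 258097918506))) (.node (.node (.leaf 826895017648) (.leaf 800740902522)) (.node (.leaf 625458152731) (.leaf 351355208426)))))) (.node (.node (.node (.node (.node (.leaf 771693508171) (.leaf 106308620532))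 (.node (.leaf 415449387892) (.leaf 1031116822636))) (.node (.node (.leaf 630066074919) (.leaf 421673292677)) (.node (.leaf 131149119791) (.leaf 76389155002)))) (.node (.node (.node (.leaf 83591856331) (.leaf 95799546081)) (.node (.leaf 180084724113) (.leaf 882005301016))) (.node (.node (.leaf 272597111371) (.leaf 133533077815)) (.node (.leaf 675105666414) (.leaf 953182504911))))) (.node (.node (.node (.node (.leaf 448374334405) (.leaf 510603711557)) (.node (.leaf 1098629884158) (.leaf 449191457735))) (.node (.node (.leaf 554537256069) (.leaf 384940163898)) (.node (.leaf 616648598790) (.leaf 634545755439)))) (.node (.node (.node (.leaf 401365750616) (.leaf 768713803333)) (.node (.leaf 585731810508) (.leaf 772001371727))) (.node (.node (.leaf 502765229114) (.leaf 866467026681)) (.node (.leaf 711224825293) (.leaf 1025108613212))))))) (.node (.node (.node (.node (.node (.node (.leaf 727101003237) (.leaf 478198236154)) (.node (.leaf 338314785490) (.leaf 967916541934))) (.node (.node (.leaf 136377758013) (.leaf 207297855948)) (.node (.leaf 332834730696) (.leaf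 960611997661)))) (.node (.node (.node (.leaf 1066883401920) (.leaf 870449334021)) (.node (.leaf 163944132974) (.leaf 93494907099))) (.node (.node (.leaf 1004770912313) (.leaf 255781773862)) (.node (.leaf 542469952632) (.leaf 172634804610))))) (.node (.node (.node (.node (.leaf 1023246313559) (.leaf 853978150624)) (.node (.leaf 625119900954) (.leaf 1001444796467))) (.node (.node (.leaf 1018931972175) (.leaf 284898583139)) (.node (.leaf 390425027397) (.leaf 163485720940)))) (.node (.node (.node (.leaf 885841835810) (.leaf 596781847772)) (.node (.leaf 312497087132) (.leaf 639148041527))) (.node (.node (.leaf 953526265808) (.leaf 770949215817)) (.node (.leaf 962574723042) (.leaf 110685438205)))))) (.node (.node (.node (.node (.node (.leaf 292762514046) (.leaf 356689437434)) (.node (.leaf 129872097578) (.leaf 684848592262))) (.node (.node (.leaf 488389624852) (.leaf 55277891713)) (.node (.leaf 1073363970261) (.leaf 1065074706620)))) (.node (.node (.node (.leaf 165430620530) (.leaf 717256177110)) (.node (.leaf 606403917036) (.leaf 144103412041))) (.node (.node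 (.leaf 538582119535) (.leaf 484564296717)) (.node (.leaf 932830046111) (.leaf 154138423642))))) (.node (.node (.node (.node (.leaf 323932701364) (.leaf 564162815133)) (.node (.leaf 481268139013) (.leaf 718053230039))) (.node (.node (.leaf 5079511060) (.leaf 718573942233)) (.node (.leaf 907995289430) (.leaf 375484683041)))) (.node (.node (.node (.leaf 759777322541) (.leaf 495242363945)) (.node (.leaf 205034693066) (.leaf 171679089024))) (.node (.node (.leaf 899424794436) (.leaf 916712064884)) (.node (.leaf 477945578488) (.leaf 0)))))))) (.node (.node (.node (.node (.node (.node (.node (.leaf 28201291856) (.leaf 782929614428)) (.node (.leaf 997421045806) (.leaf 634164843822))) (.node (.node (.leaf 492229817374) (.leaf 1049014315162)) (.node (.leaf 1082306210019) (.leaf 844034488014)))) (.node (.node (.node (.leaf 967712663533) (.leaf 1047768447128)) (.node (.leaf 353430008560) (.leaf 543883310202))) (.node (.node (.leaf 598662468830) (.leaf 1075404048602)) (.node (.leaf 791308416620) (.leaf 951000864712))))) (.node (.node (.node (.node (.leaf 288480559733)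 (.leaf 238334784007)) (.node (.leaf 10369421346) (.leaf 998953134127))) (.node (.node (.leaf 3536207889) (.leaf 528810456157)) (.node (.leaf 61104025744) (.leaf 941592356775)))) (.node (.node (.node (.leaf 628433433890) (.leaf 1026870605921)) (.node (.leaf 740740965898) (.leaf 146551189840))) (.node (.node (.leaf 1058393335986) (.leaf 325883101879)) (.node (.leaf 484564296717) (.leaf 5799702553)))))) (.node (.node (.node (.node (.node (.leaf 723939120609) (.leaf 653248517449)) (.node (.leaf 466136413149) (.leaf 606403917036))) (.node (.node (.leaf 754073290271) (.leaf 220227949030)) (.node (.leaf 227924357622) (.leaf 885142693665)))) (.node (.node (.node (.leaf 584538055880) (.leaf 103273300204)) (.node (.leaf 885916407586) (.leaf 680154219899))) (.node (.node (.leaf 522115499099) (.leaf 13600280623)) (.node (.leaf 81632809156) (.leaf 840728372935))))) (.node (.node (.node (.node (.leaf 757109982758) (.leaf 421547078533)) (.node (.leaf 171033399679) (.leaf 174646321542))) (.node (.node (.leaf 706995725768) (.leaf 187547337124)) (.node (.leaf 94882087133)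 (.leaf 768108361282)))) (.node (.node (.node (.leaf 366084416272) (.leaf 356014027512)) (.node (.leaf 857255761641) (.leaf 992375801894))) (.node (.node (.leaf 556928607373) (.leaf 102016250091)) (.node (.leaf 937474111394) (.leaf 400032416598))))))) (.node (.node (.node (.node (.node (.node (.leaf 804810352261) (.leaf 616984282374)) (.node (.leaf 4779544596) (.leaf 116260000011))) (.node (.node (.leaf 1069100312777) (.leaf 1019384547408)) (.node (.leaf 946478602165) (.leaf 879394486035)))) (.node (.node (.node (.leaf 630551012647) (.leaf 1049631574173)) (.node (.leaf 669689165156) (.leaf 452503483340))) (.node (.node (.leaf 407387722594) (.leaf 360654836482)) (.node (.leaf 578869294271) (.leaf 203543130567))))) (.node (.node (.node (.node (.leaf 35493212253) (.leaf 916452374387)) (.node (.leaf 634814858544) (.leaf 998854801455))) (.node (.node (.leaf 265089548854) (.leaf 668667319648)) (.node (.leaf 674042865006) (.leaf 723170215390)))) (.node (.node (.node (.leaf 564162815133) (.leaf 1047759923352)) (.node (.leaf 338314785490) (.leaf 327883092668)))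 (.node (.node (.leaf 395142345550) (.leaf 772127790671)) (.node (.leaf 126597624097) (.leaf 98261311716)))))) (.node (.node (.node (.node (.node (.leaf 1069100312777) (.leaf 205113831883)) (.node (.leaf 174136910213) (.leaf 617394107655))) (.node (.node (.leaf 96368193763) (.leaf 127288520996)) (.node (.leaf 998392326191) (.leaf 145862000973)))) (.node (.node (.node (.leaf 517633303633) (.leaf 763735045688)) (.node (.leaf 842249291468) (.leaf 5085253653))) (.node (.node (.leaf 343269393115) (.leaf 411816944495)) (.node (.leaf 547370624126) (.leaf 733240944119))))) (.node (.node (.node (.node (.leaf 59171098764) (.leaf 34875285597)) (.node (.leaf 415449387892) (.leaf 838528386754))) (.node (.node (.leaf 1089720547569) (.leaf 785525007970)) (.node (.leaf 940178823077) (.leaf 329245332161)))) (.node (.node (.node (.leaf 915073234797) (.leaf 685167658377)) (.node (.leaf 586051589325) (.leaf 940361381797))) (.node (.node (.leaf 20118364225) (.leaf 332191228616)) (.node (.leaf 892272772915) (.leaf 0))))))))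

/-- Part of `hintBOne`. -/
def hintBOne_p1101 : Tr := .node (.node (.node (.node (.node (.node (.node (.node (.leaf 1074435889367) (.leaf 889222305580)) (.node (.leaf 85539139791) (.leaf 180977164690))) (.node (.node (.leaf 317567525542) (.leaf 788923496043)) (.node (.leaf 254535971364) (.leaf 224911311345)))) (.node (.node (.node (.leaf 805171402377) (.leaf 808920315538)) (.node (.leaf 55303987329) (.leaf 884391712542))) (.node (.node (.leaf 825323546288) (.leaf 290759996026)) (.node (.leaf 975596345346) (.leaf 109055697144))))) (.node (.node (.node (.node (.leaf 918102308727) (.leaf 78650626236)) (.node (.leaf 24269783112) (.leaf 135416328506))) (.node (.node (.leaf 644853085503) (.leaf 32265121882)) (.node (.leaf 436589114279) (.leaf 972567353338)))) (.node (.node (.node (.leaf 565679277216) (.leaf 212935090646)) (.node (.leaf 22637019203) (.leaf 68220698788))) (.node (.node (.leaf 212619141590) (.leaf 815133025951)) (.node (.leaf 1070010640588) (.leaf 940633597861)))))) (.node (.node (.node (.node (.node (.leaf 445024924602) (.leaf 671390799206))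 (.node (.leaf 399792214870) (.leaf 925530937225))) (.node (.node (.leaf 636242978096) (.leaf 1037262096509)) (.node (.leaf 913102260071) (.leaf 1032592988274)))) (.node (.node (.node (.leaf 85517439182) (.leaf 673763784043)) (.node (.leaf 934356084640) (.leaf 912436918118))) (.node (.node (.leaf 973884061692) (.leaf 577479546043)) (.node (.leaf 913102260071) (.leaf 563025323161))))) (.node (.node (.node (.node (.leaf 1053220542628) (.leaf 1094495201531)) (.node (.leaf 701222213050) (.leaf 558377321618))) (.node (.node (.leaf 533844665446) (.leaf 688521651606)) (.node (.leaf 340028752598) (.leaf 560066069652)))) (.node (.node (.node (.leaf 246759207453) (.leaf 187547337124)) (.node (.leaf 860993210096) (.leaf 487397671955))) (.node (.node (.leaf 933277705) (.leaf 897928492863)) (.node (.leaf 585281397962) (.leaf 968856344559))))))) (.node (.node (.node (.node (.node (.node (.leaf 915073234797) (.leaf 731660539381)) (.node (.leaf 746913244694) (.leaf 494568412200))) (.node (.node (.leaf 621958829331) (.leaf 421933671303)) (.node (.leaf 234562961921) (.leaf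 16276627513)))) (.node (.node (.node (.leaf 290246509177) (.leaf 353678234353)) (.node (.leaf 280594358874) (.leaf 541985854582))) (.node (.node (.leaf 484298253324) (.leaf 497815692335)) (.node (.leaf 645878183234) (.leaf 287519523441))))) (.node (.node (.node (.node (.leaf 133413024054) (.leaf 807344133773)) (.node (.leaf 1012557703238) (.leaf 389319111489))) (.node (.node (.leaf 651647137094) (.leaf 662433482067)) (.node (.leaf 418813309823) (.leaf 706615326151)))) (.node (.node (.node (.leaf 825067898544) (.leaf 108280164598)) (.node (.leaf 974358562814) (.leaf 550446400640))) (.node (.node (.leaf 838528386754) (.leaf 268314763837)) (.node (.leaf 960962955231) (.leaf 546802062461)))))) (.node (.node (.node (.node (.node (.leaf 418194772861) (.leaf 483938407434)) (.node (.leaf 912436918118) (.leaf 73484529842))) (.node (.node (.leaf 907720525654) (.leaf 366996177681)) (.node (.leaf 133501284663) (.leaf 976545196038)))) (.node (.node (.node (.leaf 237515776517) (.leaf 7331471389)) (.node (.leaf 403460580191) (.leaf 191181541807))) (.node (.node (.leaf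 817591625378) (.leaf 846948542162)) (.node (.leaf 39693738084) (.leaf 772577072721))))) (.node (.node (.node (.node (.leaf 963625965541) (.leaf 815876265632)) (.node (.leaf 351427707626) (.leaf 117259534607))) (.node (.node (.leaf 929890965400) (.leaf 653486892361)) (.node (.leaf 222062260713) (.leaf 1089720547569)))) (.node (.node (.node (.leaf 997680130094) (.leaf 659750090064)) (.node (.leaf 104111866096) (.leaf 120909160725))) (.node (.node (.leaf 852092180185) (.leaf 867134236413)) (.node (.leaf 447836353474) (.leaf 0)))))))) (.node (.node (.node (.node (.node (.node (.node (.leaf 602734576866) (.leaf 622548124949)) (.node (.leaf 337919513297) (.leaf 25515102285))) (.node (.node (.leaf 653041718600) (.leaf 604698211560)) (.node (.leaf 602372687073) (.leaf 246526099995)))) (.node (.node (.node (.leaf 55510216833) (.leaf 686890317197)) (.node (.leaf 446545761214) (.leaf 1032129189998))) (.node (.node (.leaf 320156148394) (.leaf 733240944119)) (.node (.leaf 875411683084) (.leaf 446570562495))))) (.node (.node (.node (.node (.leaf 847042123475) (.leaf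 587465065681)) (.node (.leaf 661711426898) (.leaf 722068428253))) (.node (.node (.leaf 572445439151) (.leaf 85054783694)) (.node (.leaf 773535712850) (.leaf 63803240600)))) (.node (.node (.node (.leaf 11568574505) (.leaf 940178823077)) (.node (.leaf 162641142123) (.leaf 13527662637))) (.node (.node (.leaf 611980514555) (.leaf 675953849711)) (.node (.leaf 797736060532) (.leaf 273512817231)))))) (.node (.node (.node (.node (.node (.leaf 460210701267) (.leaf 982877231126)) (.node (.leaf 775476389460) (.leaf 630066074919))) (.node (.node (.leaf 404493812575) (.leaf 1027997423716)) (.node (.leaf 85885382864) (.leaf 366996177681)))) (.node (.node (.node (.leaf 323672634035) (.leaf 900164179784)) (.node (.leaf 8589942815) (.leaf 1024779982938))) (.node (.node (.leaf 412467073904) (.leaf 995485153323)) (.node (.leaf 330465952452) (.leaf 675171841390))))) (.node (.node (.node (.node (.leaf 163485720940) (.leaf 721529112027)) (.node (.leaf 247620063774) (.leaf 616984282374))) (.node (.node (.leaf 215203426777) (.leaf 665098061145)) (.node (.leaf 737827272191)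 (.leaf 112201535745)))) (.node (.node (.node (.leaf 685167658377) (.leaf 398197130068)) (.node (.leaf 426199249812) (.leaf 895910291258))) (.node (.node (.leaf 210744308179) (.leaf 304048812679)) (.node (.leaf 564162815133) (.leaf 421731464070))))))) (.node (.node (.node (.node (.node (.node (.leaf 527859106908) (.leaf 197181395387)) (.node (.leaf 535886435436) (.leaf 902445643597))) (.node (.node (.leaf 788618712681) (.leaf 565212693664)) (.node (.leaf 899489580869) (.leaf 786570974822)))) (.node (.node (.node (.leaf 501546226745) (.leaf 558377321618)) (.node (.leaf 440066655152) (.leaf 520869344343))) (.node (.node (.leaf 563199415449) (.leaf 158042247520)) (.node (.leaf 5079511060) (.leaf 621846426897))))) (.node (.node (.node (.node (.leaf 73484529842) (.leaf 387227554621)) (.node (.leaf 847085659859) (.leaf 217054327264))) (.node (.node (.leaf 215344124378) (.leaf 476699726838)) (.node (.leaf 1065055373500) (.leaf 131907084595)))) (.node (.node (.node (.leaf 170540814718) (.leaf 766756697662)) (.node (.leaf 962301798369) (.leaf 243288732180)))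 (.node (.node (.leaf 148889919827) (.leaf 1096906709245)) (.node (.leaf 402075247452) (.leaf 269152223809)))))) (.node (.node (.node (.node (.node (.leaf 643552245053) (.leaf 230145077754)) (.node (.leaf 1042864019600) (.leaf 217133142498))) (.node (.node (.leaf 350807573225) (.leaf 191824204208)) (.node (.leaf 1049906800798) (.leaf 541985854582)))) (.node (.node (.node (.leaf 29991809108) (.leaf 1026810587232)) (.node (.leaf 206144463308) (.leaf 347881501412))) (.node (.node (.leaf 296221139585) (.leaf 538688468079)) (.node (.leaf 273282269773) (.leaf 998953134127))))) (.node (.node (.node (.node (.leaf 511131526215) (.leaf 132021580084)) (.node (.leaf 354989798134) (.leaf 527859106908))) (.node (.node (.leaf 1067718715587) (.leaf 336560685773)) (.node (.leaf 219938370021) (.leaf 866641983227)))) (.node (.node (.node (.leaf 30739251284) (.leaf 56439632004)) (.node (.leaf 246759207453) (.leaf 641949910330))) (.node (.node (.leaf 809391498900) (.leaf 184269635995)) (.node (.leaf 729933424110) (.leaf 0))))))))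

/-- Part of `hintBOne`. -/
def hintBOne_p1110 : Tr := .node (.node (.node (.node (.node (.node (.node (.node (.leaf 154088239450) (.leaf 657879524686)) (.node (.leaf 772390918) (.leaf 99167662310))) (.node (.node (.leaf 421160395652) (.leaf 332883133128)) (.node (.leaf 466136413149) (.leaf 329245332161)))) (.node (.node (.node (.leaf 955858708436) (.leaf 65597304989)) (.node (.leaf 244551315990) (.leaf 317007168164))) (.node (.node (.leaf 887962040104) (.leaf 94548058333)) (.node (.leaf 421464884100) (.leaf 745059726868))))) (.node (.node (.node (.node (.leaf 446477829054) (.leaf 1065373018301)) (.node (.leaf 463532676056) (.leaf 603645306085))) (.node (.node (.leaf 25361784907) (.leaf 738839062021)) (.node (.leaf 880493291284) (.leaf 602734576866)))) (.node (.node (.node (.leaf 272630973004) (.leaf 20118364225)) (.node (.leaf 913935886187) (.leaf 666435470685))) (.node (.node (.leaf 529104409696) (.leaf 556928607373)) (.node (.leaf 858381018862) (.leaf 949035022271)))))) (.node (.node (.node (.node (.node (.leaf 446594769855) (.leaf 329817916099))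 (.node (.leaf 164035395950) (.leaf 1046973515926))) (.node (.node (.leaf 296829637249) (.leaf 809479886485)) (.node (.leaf 362338808584) (.leaf 233147105790)))) (.node (.node (.node (.leaf 842757220044) (.leaf 461934367703)) (.node (.leaf 665633285467) (.leaf 14022086705))) (.node (.node (.leaf 500689892404) (.leaf 359649719039)) (.node (.leaf 390776734534) (.leaf 135416328506))))) (.node (.node (.node (.node (.leaf 643552245053) (.leaf 957491337177)) (.node (.leaf 426636813207) (.leaf 288480559733))) (.node (.node (.leaf 182376935828) (.leaf 475891368946)) (.node (.leaf 845118002896) (.leaf 308895822480)))) (.node (.node (.node (.leaf 265044816436) (.leaf 308895822480)) (.node (.leaf 811377997465) (.leaf 1060470831287))) (.node (.node (.leaf 58097852553) (.leaf 270382125634)) (.node (.leaf 1075143338200) (.leaf 700959073721))))))) (.node (.node (.node (.node (.node (.node (.leaf 613315421439) (.leaf 522521556059)) (.node (.leaf 484468753420) (.leaf 2637479949))) (.node (.node (.leaf 421933671303) (.leaf 58020036744)) (.node (.leaf 852155483866) (.leaf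 37950050402)))) (.node (.node (.node (.leaf 144248389962) (.leaf 820326430375)) (.node (.leaf 909310818140) (.leaf 554537256069))) (.node (.node (.leaf 730532099569) (.leaf 897475987261)) (.node (.leaf 339387531988) (.leaf 187043328415))))) (.node (.node (.node (.node (.leaf 766792021567) (.leaf 832435701431)) (.node (.leaf 884878731041) (.leaf 10420654115))) (.node (.node (.leaf 818734765733) (.leaf 882205624089)) (.node (.leaf 476414370804) (.leaf 837153711808)))) (.node (.node (.node (.leaf 1005573302330) (.leaf 630026499366)) (.node (.leaf 425466356625) (.leaf 81353334979))) (.node (.node (.leaf 118450127121) (.leaf 766263150140)) (.node (.leaf 836396213950) (.leaf 242683855378)))))) (.node (.node (.node (.node (.node (.leaf 416444474232) (.leaf 563327521946)) (.node (.leaf 541325001845) (.leaf 118854803731))) (.node (.node (.leaf 227505947124) (.leaf 1061672343736)) (.node (.leaf 1041441036427) (.leaf 382665335600)))) (.node (.node (.node (.leaf 941460944806) (.leaf 884391712542)) (.node (.leaf 844963882704) (.leaf 753306961437))) (.node (.node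 (.leaf 469141959650) (.leaf 109552632057)) (.node (.leaf 1044058392721) (.leaf 30992400469))))) (.node (.node (.node (.node (.leaf 968856344559) (.leaf 1063674534074)) (.node (.leaf 503921939516) (.leaf 111439024383))) (.node (.node (.leaf 148946932051) (.leaf 832472348344)) (.node (.leaf 122240323868) (.leaf 35493212253)))) (.node (.node (.node (.leaf 637286208820) (.leaf 588580013268)) (.node (.leaf 291784147580) (.leaf 285287236197))) (.node (.node (.leaf 304382780039) (.leaf 178398515598)) (.node (.leaf 40821244005) (.leaf 0)))))))) (.node (.node (.node (.node (.node (.node (.node (.leaf 879191557905) (.leaf 951322810314)) (.node (.leaf 70969778344) (.leaf 262092436015))) (.node (.node (.leaf 420716921731) (.leaf 178398515598)) (.node (.leaf 1084154325223) (.leaf 279029744216)))) (.node (.node (.node (.leaf 879342880530) (.leaf 110926307582)) (.node (.leaf 311322448536) (.leaf 276329468498))) (.node (.node (.leaf 412844323696) (.leaf 109582901498)) (.node (.leaf 1042864031888) (.leaf 488389624852))))) (.node (.node (.node (.node (.leaf 13835526192)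 (.leaf 521337320536)) (.node (.leaf 1032370624623) (.leaf 264588304947))) (.node (.node (.leaf 504801408065) (.leaf 246696477212)) (.node (.leaf 302501110404) (.leaf 497815692335)))) (.node (.node (.node (.leaf 465210016732) (.leaf 641848259897)) (.node (.leaf 768108361282) (.leaf 130451370284))) (.node (.node (.leaf 92968476889) (.leaf 1091667343605)) (.node (.leaf 513096381515) (.leaf 656303805772)))))) (.node (.node (.node (.node (.node (.leaf 658113475920) (.leaf 589043967188)) (.node (.leaf 12832927788) (.leaf 298055959170))) (.node (.node (.leaf 896067884859) (.leaf 312497087132)) (.node (.leaf 403602449247) (.leaf 155580608860)))) (.node (.node (.node (.leaf 106308620532) (.leaf 136377758013)) (.node (.leaf 829251425971) (.leaf 672689493352))) (.node (.node (.leaf 94882087133) (.leaf 510603711557)) (.node (.leaf 63726895256) (.leaf 440884704177))))) (.node (.node (.node (.node (.leaf 1060748847287) (.leaf 775203227219)) (.node (.leaf 665098061145) (.leaf 263205524016))) (.node (.node (.leaf 182777840022) (.leaf 707782313416)) (.node (.leaf 819895281317)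 (.leaf 694423831976)))) (.node (.node (.node (.leaf 384712913720) (.leaf 86659920080)) (.node (.leaf 833758848698) (.leaf 884673730336))) (.node (.node (.leaf 876540323598) (.leaf 685542315403)) (.node (.leaf 195446780342) (.leaf 625742578973))))))) (.node (.node (.node (.node (.node (.node (.leaf 427401388953) (.leaf 389772157763)) (.node (.leaf 909279188828) (.leaf 272630973004))) (.node (.node (.leaf 347360813793) (.leaf 998392326191)) (.node (.leaf 681030251903) (.leaf 944455133105)))) (.node (.node (.node (.leaf 513096381515) (.leaf 943435204524)) (.node (.leaf 996952205356) (.leaf 203767202248))) (.node (.node (.leaf 291784147580) (.leaf 799691912822)) (.node (.leaf 943274723242) (.leaf 392732865356))))) (.node (.node (.node (.node (.leaf 1005573302330) (.leaf 701222213050)) (.node (.leaf 772127790671) (.leaf 577479546043))) (.node (.node (.leaf 779493443160) (.leaf 691359430047)) (.node (.leaf 897509893950) (.leaf 171679089024)))) (.node (.node (.node (.leaf 1078953765084) (.leaf 811678160537)) (.node (.leaf 538712745071) (.leaf 425054286736)))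 (.node (.node (.leaf 318968378024) (.leaf 611472975097)) (.node (.leaf 686219720077) (.leaf 2978381838)))))) (.node (.node (.node (.node (.node (.leaf 475480966127) (.leaf 1053387548836)) (.node (.leaf 617719317769) (.leaf 14705418292))) (.node (.node (.leaf 852520232669) (.leaf 1027997423716)) (.node (.leaf 919986857855) (.leaf 375904887586)))) (.node (.node (.node (.leaf 477945578488) (.leaf 773663925842)) (.node (.leaf 401677103960) (.leaf 137251582272))) (.node (.node (.leaf 303250313862) (.leaf 462058914775)) (.node (.leaf 426105500564) (.leaf 158042247520))))) (.node (.node (.node (.node (.leaf 1072752486609) (.leaf 740441900553)) (.node (.leaf 621388985615) (.leaf 558340560017))) (.node (.node (.leaf 104737734897) (.leaf 615347000580)) (.node (.leaf 660314678609) (.leaf 1028521752678)))) (.node (.node (.node (.leaf 420851815300) (.leaf 808920315538)) (.node (.leaf 467760047072) (.leaf 64074756249))) (.node (.node (.leaf 836396213950) (.leaf 467115910110)) (.node (.leaf 654934435146) (.leaf 0))))))))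

/-- Part of `hintBOne`. -/
def hintBOne_p1111 : Tr := .node (.node (.node (.node (.node (.node (.node (.node (.leaf 596364887260) (.leaf 453931664333)) (.node (.leaf 994807748649) (.leaf 419806815106))) (.node (.node (.leaf 328174518973) (.leaf 1079747119328)) (.node (.leaf 497815692335) (.leaf 454246515662)))) (.node (.node (.node (.leaf 929737090965) (.leaf 13835526192)) (.node (.leaf 965249722343) (.leaf 1052417800354))) (.node (.node (.leaf 994708654120) (.leaf 1018931972175)) (.node (.leaf 546802062461) (.leaf 481268139013))))) (.node (.node (.node (.node (.leaf 421933671303) (.leaf 69617438884)) (.node (.leaf 885588817697) (.leaf 750530631195))) (.node (.node (.leaf 104478425328) (.leaf 645333996865)) (.node (.leaf 568524850340) (.leaf 72615698608)))) (.node (.node (.node (.leaf 918337427321) (.leaf 504162649151)) (.node (.leaf 992375801894) (.leaf 371010409240))) (.node (.node (.leaf 290153624185) (.leaf 297681990274)) (.node (.leaf 411238818670) (.leaf 1067718715587)))))) (.node (.node (.node (.node (.node (.leaf 425830917011) (.leaf 709436601801))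 (.node (.leaf 835220321980) (.leaf 714506507733))) (.node (.node (.leaf 371687760666) (.leaf 536821331054)) (.node (.leaf 361501491973) (.leaf 743030650382)))) (.node (.node (.node (.leaf 776331650644) (.leaf 875411683084)) (.node (.leaf 833758848698) (.leaf 507788833858))) (.node (.node (.leaf 65593225372) (.leaf 628116616482)) (.node (.leaf 484468753420) (.leaf 105460343025))))) (.node (.node (.node (.node (.leaf 490452943896) (.leaf 554935923846)) (.node (.leaf 809329018515) (.leaf 849765607125))) (.node (.node (.leaf 389401641794) (.leaf 967561308139)) (.node (.leaf 631004828967) (.leaf 739477161481)))) (.node (.node (.node (.leaf 14238900274) (.leaf 353731621618)) (.node (.leaf 510469899332) (.leaf 688521651606))) (.node (.node (.leaf 622870185238) (.leaf 1025582065757)) (.node (.leaf 325880607414) (.leaf 400471704406))))))) (.node (.node (.node (.node (.node (.node (.leaf 919779252093) (.leaf 356095947513)) (.node (.leaf 700373554616) (.leaf 957094389720))) (.node (.node (.leaf 901134976842) (.leaf 538895811698)) (.node (.leaf 122079281435) (.leaf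 579372025025)))) (.node (.node (.node (.leaf 590676919509) (.leaf 348995785447)) (.node (.leaf 281541542494) (.leaf 980637620244))) (.node (.node (.leaf 378548884261) (.leaf 58655375497)) (.node (.leaf 8602951713) (.leaf 890701903663))))) (.node (.node (.node (.node (.leaf 364649444108) (.leaf 24569098313)) (.node (.leaf 123863212318) (.leaf 474741744620))) (.node (.node (.leaf 953664968657) (.leaf 446246691773)) (.node (.leaf 261865120302) (.leaf 77978472635)))) (.node (.node (.node (.leaf 479122764798) (.leaf 321015890603)) (.node (.leaf 499520459827) (.leaf 65310826651))) (.node (.node (.leaf 1001243498547) (.leaf 686309393805)) (.node (.leaf 212584079830) (.leaf 599280850142)))))) (.node (.node (.node (.node (.node (.leaf 348362834662) (.leaf 1054667602088)) (.node (.leaf 972567353338) (.leaf 133501284663))) (.node (.node (.leaf 804511139459) (.leaf 820528653992)) (.node (.leaf 962254940128) (.leaf 679403529594)))) (.node (.node (.node (.leaf 328174518973) (.leaf 60010365069)) (.node (.leaf 1016171411533) (.leaf 95799558369))) (.node (.node (.leaf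 394437002062) (.leaf 241955430930)) (.node (.leaf 992927316006) (.leaf 90898956505))))) (.node (.node (.node (.node (.leaf 330875847366) (.leaf 860954081008)) (.node (.leaf 224753910256) (.leaf 889223227181))) (.node (.node (.leaf 240962404880) (.leaf 1026189523038)) (.node (.leaf 940284245925) (.leaf 864810133238)))) (.node (.node (.node (.leaf 836788819648) (.leaf 1072260962510)) (.node (.leaf 464176346073) (.leaf 290759996026))) (.node (.node (.leaf 23091638340) (.leaf 1053852305573)) (.node (.leaf 914151548779) (.leaf 0)))))))) (.node (.node (.node (.node (.node (.node (.node (.leaf 615347000580) (.leaf 615347000580)) (.node (.leaf 960792926174) (.leaf 1072596097232))) (.node (.node (.leaf 32769) (.leaf 1000807835699)) (.node (.leaf 291593740923) (.leaf 490202727447)))) (.node (.node (.node (.leaf 26769223760) (.leaf 322315846320)) (.node (.leaf 662270448978) (.leaf 307882197646))) (.node (.node (.leaf 476269233138) (.leaf 279192904280)) (.node (.leaf 360962769666) (.leaf 216451801565))))) (.node (.node (.node (.node (.leaf 554935923846) (.leaf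 784187400)) (.node (.leaf 70147567784) (.leaf 724923151843))) (.node (.node (.leaf 898969728834) (.leaf 407555285859)) (.node (.leaf 743072773646) (.leaf 797463660147)))) (.node (.node (.node (.leaf 123909857566) (.leaf 132850123061)) (.node (.leaf 565976392866) (.leaf 537463465071))) (.node (.node (.leaf 47674036340) (.leaf 699717985718)) (.node (.leaf 48137703541) (.leaf 898444289857)))))) (.node (.node (.node (.node (.node (.leaf 545855116412) (.leaf 687147496848)) (.node (.leaf 967561308139) (.leaf 1076366518492))) (.node (.node (.leaf 764034881081) (.leaf 618104911114)) (.node (.leaf 113041600772) (.leaf 1001742362675)))) (.node (.node (.node (.leaf 534032270439) (.leaf 723170215390)) (.node (.leaf 674042865006) (.leaf 395142345550))) (.node (.node (.leaf 387906155326) (.leaf 1001503983667)) (.node (.leaf 513899189326) (.leaf 2637479949))))) (.node (.node (.node (.node (.leaf 687054206350) (.leaf 216863027678)) (.node (.leaf 1019001981007) (.leaf 69882728614))) (.node (.node (.leaf 448507581382) (.leaf 442259387316)) (.node (.leaf 877885736720)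 (.leaf 171033399679)))) (.node (.node (.node (.leaf 949670565828) (.leaf 273282269773)) (.node (.leaf 3858092049) (.leaf 727965386219))) (.node (.node (.leaf 35493212253) (.leaf 894597633846)) (.node (.leaf 743257019919) (.leaf 0))))))) (.node (.node (.node (.node (.node (.node (.leaf 426636813207) (.leaf 386011517756)) (.node (.leaf 475667071984) (.leaf 147639140689))) (.node (.node (.leaf 884391712542) (.leaf 145284002125)) (.node (.leaf 383488938800) (.leaf 810373179031)))) (.node (.node (.node (.leaf 944455133105) (.leaf 408325788517)) (.node (.leaf 763735045688) (.leaf 502783358011))) (.node (.node (.leaf 800814610043) (.leaf 951126067145)) (.node (.leaf 23091638340) (.leaf 4779544596))))) (.node (.node (.node (.node (.leaf 238526370313) (.leaf 987871655968)) (.node (.leaf 769294652998) (.leaf 233771966976))) (.node (.node (.leaf 334068359881) (.leaf 981993846805)) (.node (.leaf 549213348991) (.leaf 701226259899)))) (.node (.node (.node (.leaf 40821244005) (.leaf 272330789450)) (.node (.leaf 1018804549711) (.leaf 47375138932))) (.node (.node (.leaf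 614964712704) (.leaf 806169970315)) (.node (.leaf 723909391841) (.leaf 89290739925)))))) (.node (.node (.node (.node (.node (.leaf 1004770912313) (.leaf 86144557264)) (.node (.leaf 857278277355) (.leaf 650787611974))) (.node (.node (.leaf 763736307256) (.leaf 869354149632)) (.node (.leaf 322315846320) (.leaf 572445439151)))) (.node (.node (.node (.leaf 826707392176) (.leaf 944455133105)) (.node (.leaf 441081623474) (.leaf 645878183234))) (.node (.node (.leaf 190590054828) (.leaf 863129233140)) (.node (.leaf 1027222374497) (.leaf 210755920339))))) (.node (.node (.node (.node (.leaf 495020975145) (.leaf 1036997167229)) (.node (.leaf 456652182481) (.leaf 871141795590))) (.node (.node (.leaf 1093301033208) (.leaf 149869322580)) (.node (.leaf 312497087132) (.leaf 102165307628)))) (.node (.node (.node (.leaf 926277724043) (.leaf 10530885668)) (.node (.leaf 483548165127) (.leaf 362321462023))) (.node (.node (.leaf 254535971364) (.leaf 723170215390)) (.node (.leaf 837880391360) (.leaf 0))))))))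

/-- Second coordinates and positions for the centraliser of the element of order 14. -/
def hintBOne : Tr := (.node (.node (.node (.node hintBOne_p0000 hintBOne_p0001) (.node hintBOne_p0010 hintBOne_p0011)) (.node (.node hintBOne_p0100 hintBOne_p0101) (.node hintBOne_p0110 hintBOne_p0111))) (.node (.node (.node hintBOne_p1000 hintBOne_p1001) (.node hintBOne_p1010 hintBOne_p1011)) (.node (.node hintBOne_p1100 hintBOne_p1101) (.node hintBOne_p1110 hintBOne_p1111))))

/-- Part of `hintBTwo`. -/
def hintBTwo_p0000 : Tr := .node (.node (.node (.node (.node (.node (.node (.node (.leaf 16384) (.leaf 169028497560)) (.node (.leaf 0) (.leaf 932256654127))) (.node (.node (.leaf 758202094223) (.leaf 0)) (.node (.leaf 0) (.leaf 81811529800)))) (.node (.node (.node (.leaf 669417398850) (.leaf 546109837787)) (.node (.leaf 0) (.leaf 0))) (.node (.node (.leaf 1058516640686) (.leaf 0)) (.node (.leaf 0) (.leaf 472568160670))))) (.node (.node (.node (.node (.leaf 0) (.leaf 0)) (.node (.leaf 406338347357) (.leaf 351252320565))) (.node (.node (.leaf 0) (.leaf 1032224920474))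 (.node (.leaf 702333870690) (.leaf 123909857394)))) (.node (.node (.node (.leaf 1054667600811) (.leaf 174136909979)) (.node (.leaf 711312708199) (.leaf 0))) (.node (.node (.leaf 104866578531) (.leaf 391348384082)) (.node (.leaf 0) (.leaf 0)))))) (.node (.node (.node (.node (.node (.leaf 0) (.leaf 130285797497)) (.node (.leaf 0) (.leaf 0))) (.node (.node (.leaf 0) (.leaf 0)) (.node (.leaf 57896357937) (.leaf 915261199140)))) (.node (.node (.node (.leaf 1025008460688) (.leaf 340499218735)) (.node (.leaf 171033399450) (.leaf 883772764931))) (.node (.node (.leaf 185603264673) (.leaf 0)) (.node (.leaf 0) (.leaf 0))))) (.node (.node (.node (.node (.leaf 0) (.leaf 0)) (.node (.leaf 871780639476) (.leaf 382665335116))) (.node (.node (.leaf 622870184471) (.leaf 613066682891)) (.node (.leaf 0) (.leaf 0)))) (.node (.node (.node (.leaf 953664967494) (.leaf 1091667342280)) (.node (.leaf 497094005173) (.leaf 816242262727))) (.node (.node (.leaf 332372488484) (.leaf 340522590511)) (.node (.leaf 243141357772) (.leaf 997767881591))))))) (.node (.node (.node (.node (.node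 (.node (.leaf 0) (.leaf 0)) (.node (.leaf 0) (.leaf 0))) (.node (.node (.leaf 0) (.leaf 67247566905)) (.node (.leaf 401798881626) (.leaf 894655611663)))) (.node (.node (.node (.leaf 0) (.leaf 644693729831)) (.node (.leaf 0) (.leaf 630066074141))) (.node (.node (.leaf 0) (.leaf 0)) (.node (.leaf 760656183953) (.leaf 685167657560))))) (.node (.node (.node (.node (.leaf 0) (.leaf 0)) (.node (.leaf 944455070526) (.leaf 0))) (.node (.node (.leaf 372030882121) (.leaf 98399776860)) (.node (.leaf 978601460579) (.leaf 577442849266)))) (.node (.node (.node (.leaf 0) (.leaf 7331471373)) (.node (.leaf 0) (.leaf 0))) (.node (.node (.leaf 0) (.leaf 1036997165983)) (.node (.leaf 0) (.leaf 0)))))) (.node (.node (.node (.node (.node (.leaf 0) (.leaf 0)) (.node (.leaf 0) (.leaf 0))) (.node (.node (.leaf 317567525140) (.leaf 0)) (.node (.leaf 932256654127) (.leaf 0)))) (.node (.node (.node (.leaf 0) (.leaf 154088239249)) (.node (.leaf 408930722144) (.leaf 0))) (.node (.node (.leaf 0) (.leaf 0)) (.node (.leaf 0) (.leaf 0))))) (.node (.node (.node (.node (.leaf 0) (.leaf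 1075658011577)) (.node (.leaf 366716174663) (.leaf 0))) (.node (.node (.leaf 0) (.leaf 0)) (.node (.leaf 450082165127) (.leaf 0)))) (.node (.node (.node (.leaf 0) (.leaf 156647448722)) (.node (.leaf 390776734034) (.leaf 0))) (.node (.node (.leaf 418850169193) (.leaf 980805227364)) (.node (.leaf 72451280959) (.leaf 0)))))))) (.node (.node (.node (.node (.node (.node (.node (.leaf 0) (.leaf 0)) (.node (.leaf 816443208391) (.leaf 0))) (.node (.node (.leaf 688844423771) (.leaf 0)) (.node (.leaf 651647136298) (.leaf 0)))) (.node (.node (.node (.leaf 0) (.leaf 499184153015)) (.node (.leaf 1073363968952) (.leaf 0))) (.node (.node (.leaf 0) (.leaf 804810351294)) (.node (.leaf 965907501908) (.leaf 0))))) (.node (.node (.node (.node (.leaf 335195230504) (.leaf 216005013689)) (.node (.leaf 951315190597) (.leaf 0))) (.node (.node (.leaf 0) (.leaf 895910290192)) (.node (.leaf 314154164497) (.leaf 0)))) (.node (.node (.node (.leaf 884268790531) (.leaf 265044816101)) (.node (.leaf 0) (.leaf 0))) (.node (.node (.leaf 990638916465) (.leaf 339108053292)) (.node (.leaf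 572584399345) (.leaf 0)))))) (.node (.node (.node (.node (.node (.leaf 0) (.leaf 991608152946)) (.node (.leaf 267682320617) (.leaf 1043029509032))) (.node (.node (.leaf 0) (.leaf 675171840587)) (.node (.leaf 319617347861) (.leaf 0)))) (.node (.node (.node (.leaf 454701121932) (.leaf 0)) (.node (.leaf 879374177020) (.leaf 696719389279))) (.node (.node (.leaf 421648286060) (.leaf 60010364980)) (.node (.leaf 877885735674) (.leaf 0))))) (.node (.node (.node (.node (.leaf 0) (.leaf 0)) (.node (.leaf 0) (.leaf 0))) (.node (.node (.leaf 587465064955) (.leaf 823081485007)) (.node (.leaf 308848709899) (.leaf 0)))) (.node (.node (.node (.leaf 793693844147) (.leaf 271665676526)) (.node (.leaf 205034692784) (.leaf 845887894245))) (.node (.node (.leaf 986211681132) (.leaf 0)) (.node (.leaf 216863027386) (.leaf 621388984851))))))) (.node (.node (.node (.node (.node (.node (.leaf 147639140491) (.leaf 737953022590)) (.node (.leaf 0) (.leaf 354753311036))) (.node (.node (.leaf 397075034455) (.leaf 370041000265)) (.node (.leaf 735498003066) (.leaf 0)))) (.node (.node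 (.node (.leaf 832472347351) (.leaf 545813516761)) (.node (.leaf 65537) (.leaf 0))) (.node (.node (.leaf 966193492820) (.leaf 0)) (.node (.leaf 0) (.leaf 14252023822))))) (.node (.node (.node (.node (.leaf 731837059703) (.leaf 0)) (.node (.leaf 781353312931) (.leaf 338314785067))) (.node (.node (.leaf 564659593705) (.leaf 885142692614)) (.node (.leaf 899672470290) (.leaf 398799827287)))) (.node (.node (.node (.leaf 0) (.leaf 0)) (.node (.leaf 92412837972) (.leaf 0))) (.node (.node (.leaf 572584399345) (.leaf 674404217418)) (.node (.leaf 0) (.leaf 0)))))) (.node (.node (.node (.node (.node (.leaf 0) (.leaf 0)) (.node (.leaf 214665490615) (.leaf 1084764537792))) (.node (.node (.leaf 0) (.leaf 0)) (.node (.leaf 0) (.leaf 0)))) (.node (.node (.node (.leaf 669282218562) (.leaf 0)) (.node (.leaf 806169969342) (.leaf 352231452983))) (.node (.node (.leaf 909310817051) (.leaf 901134975762)) (.node (.leaf 604723593733) (.leaf 243200528589))))) (.node (.node (.node (.node (.leaf 0) (.leaf 636256420385)) (.node (.leaf 124012327026) (.leaf 1069068022709))) (.node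 (.node (.leaf 0) (.leaf 0)) (.node (.leaf 0) (.leaf 0)))) (.node (.node (.node (.leaf 0) (.leaf 319617347861)) (.node (.leaf 495943647668) (.leaf 0))) (.node (.node (.leaf 0) (.leaf 0)) (.node (.leaf 1055410095019) (.leaf 0))))))))

/-- Part of `hintBTwo`. -/
def hintBTwo_p0001 : Tr := .node (.node (.node (.node (.node (.node (.node (.node (.leaf 98399776860) (.leaf 0)) (.node (.leaf 0) (.leaf 426105500017))) (.node (.node (.leaf 965735220051) (.leaf 0)) (.node (.leaf 943339914045) (.leaf 0)))) (.node (.node (.node (.leaf 0) (.leaf 0)) (.node (.leaf 0) (.leaf 0))) (.node (.node (.leaf 997767881591) (.leaf 454485664139)) (.node (.leaf 0) (.leaf 1032370623388))))) (.node (.node (.node (.node (.leaf 94548058199) (.leaf 0)) (.node (.leaf 654232838701) (.leaf 331545563426))) (.node (.node (.leaf 985596527468) (.leaf 911871779618)) (.node (.leaf 0) (.leaf 0)))) (.node (.node (.node (.leaf 0) (.leaf 981776089957)) (.node (.leaf 1055793595308) (.leaf 0))) (.node (.node (.leaf 1036227847070) (.leaf 926362805035)) (.node (.leaf 853978149607) (.leaf 0)))))) (.node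 (.node (.node (.node (.node (.leaf 32634150944) (.leaf 0)) (.node (.leaf 299676352773) (.leaf 810785215167))) (.node (.node (.leaf 963241005903) (.leaf 0)) (.node (.leaf 0) (.leaf 0)))) (.node (.node (.node (.leaf 113992663145) (.leaf 1040245191585)) (.node (.leaf 0) (.leaf 0))) (.node (.node (.leaf 0) (.leaf 271753965807)) (.node (.leaf 590991458813) (.leaf 0))))) (.node (.node (.node (.node (.leaf 986764440430) (.leaf 0)) (.node (.leaf 0) (.leaf 0))) (.node (.node (.leaf 879374177020) (.leaf 0)) (.node (.leaf 0) (.leaf 0)))) (.node (.node (.node (.leaf 704337580643) (.leaf 739416285822)) (.node (.leaf 679114723919) (.leaf 1003087647614))) (.node (.node (.leaf 322315845910) (.leaf 38338289699)) (.node (.leaf 0) (.leaf 671439888967))))))) (.node (.node (.node (.node (.node (.node (.leaf 0) (.leaf 0)) (.node (.leaf 300530835718) (.leaf 687243616859))) (.node (.node (.leaf 714506506858) (.leaf 0)) (.node (.leaf 0) (.leaf 420716921195)))) (.node (.node (.node (.leaf 545813516761) (.leaf 793455284914)) (.node (.leaf 188785733797) (.leaf 977186091874)))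 (.node (.node (.leaf 909135692571) (.leaf 976881804130)) (.node (.leaf 393969672531) (.leaf 0))))) (.node (.node (.node (.node (.leaf 744501146241) (.leaf 0)) (.node (.leaf 706706035300) (.leaf 392028586322))) (.node (.node (.leaf 0) (.leaf 0)) (.node (.leaf 0) (.leaf 1040321754018)))) (.node (.node (.node (.leaf 0) (.leaf 842757219041)) (.node (.leaf 0) (.leaf 810785215167))) (.node (.node (.leaf 0) (.leaf 0)) (.node (.leaf 603645305349) (.leaf 534232289743)))))) (.node (.node (.node (.node (.node (.leaf 0) (.leaf 0)) (.node (.leaf 0) (.leaf 0))) (.node (.node (.leaf 0) (.leaf 364752306501)) (.node (.leaf 879374177020) (.leaf 877797221113)))) (.node (.node (.node (.leaf 764256526999) (.leaf 821361607375)) (.node (.leaf 0) (.leaf 0))) (.node (.node (.leaf 608362803720) (.leaf 0)) (.node (.leaf 79027134535) (.leaf 1019001979786))))) (.node (.node (.node (.node (.leaf 404493812060) (.leaf 490729886126)) (.node (.leaf 502727135674) (.leaf 478229664162))) (.node (.node (.leaf 0) (.leaf 0)) (.node (.leaf 0) (.leaf 0)))) (.node (.node (.node (.leaf 545855115738)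 (.leaf 96368193627)) (.node (.leaf 363917328707) (.leaf 0))) (.node (.node (.leaf 397510021463) (.leaf 131538239610)) (.node (.leaf 447862555009) (.leaf 0)))))))) (.node (.node (.node (.node (.node (.node (.node (.leaf 0) (.leaf 631561044510)) (.node (.leaf 0) (.leaf 0))) (.node (.node (.leaf 772521989) (.leaf 82344800329)) (.node (.leaf 1017285657477) (.leaf 0)))) (.node (.node (.node (.leaf 30992400413) (.leaf 32634150944)) (.node (.leaf 0) (.leaf 868332081904))) (.node (.node (.leaf 860954079979) (.leaf 0)) (.node (.leaf 414566310245) (.leaf 224753909957))))) (.node (.node (.node (.node (.leaf 90898956370) (.leaf 0)) (.node (.leaf 0) (.leaf 869874815729))) (.node (.node (.leaf 426105500017) (.leaf 0)) (.node (.leaf 643798385191) (.leaf 667652670015)))) (.node (.node (.node (.leaf 0) (.leaf 0)) (.node (.leaf 762867679891) (.leaf 0))) (.node (.node (.leaf 695603315293) (.leaf 645878182441)) (.node (.leaf 0) (.leaf 204108243119)))))) (.node (.node (.node (.node (.node (.leaf 0) (.leaf 492229816752)) (.node (.leaf 0) (.leaf 484468752810))) (.node (.node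 (.leaf 0) (.leaf 10878979)) (.node (.leaf 865532527341) (.leaf 276913549551)))) (.node (.node (.node (.leaf 68352073786) (.leaf 859472986858)) (.node (.leaf 392028586322) (.leaf 513413665216))) (.node (.node (.leaf 1055949378476) (.leaf 340522590511)) (.node (.leaf 868332081904) (.leaf 0))))) (.node (.node (.node (.node (.leaf 0) (.leaf 0)) (.node (.leaf 0) (.leaf 0))) (.node (.node (.leaf 0) (.leaf 0)) (.node (.leaf 770884141723) (.leaf 72164253759)))) (.node (.node (.node (.leaf 0) (.leaf 120852357228)) (.node (.leaf 0) (.leaf 1036227847070))) (.node (.node (.leaf 0) (.leaf 0)) (.node (.leaf 446570561919) (.leaf 971451872091))))))) (.node (.node (.node (.node (.node (.node (.leaf 0) (.leaf 174086369435)) (.node (.leaf 0) (.leaf 0))) (.node (.node (.leaf 163142590611) (.leaf 32346370079)) (.node (.leaf 0) (.leaf 464927289751)))) (.node (.node (.node (.leaf 0) (.leaf 0)) (.node (.leaf 95675183193) (.leaf 295099392259))) (.node (.node (.leaf 484468752810) (.leaf 0)) (.node (.leaf 448374333829) (.leaf 352309129527))))) (.node (.node (.node (.node (.leaf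 0) (.leaf 74484908097)) (.node (.leaf 823081485007) (.leaf 0))) (.node (.node (.leaf 384467628365) (.leaf 370886824265)) (.node (.leaf 0) (.leaf 0)))) (.node (.node (.node (.leaf 895611884304) (.leaf 0)) (.node (.leaf 500689891769) (.leaf 1091227972551))) (.node (.node (.leaf 0) (.leaf 0)) (.node (.leaf 0) (.leaf 456162210188)))))) (.node (.node (.node (.node (.node (.leaf 0) (.leaf 718053229165)) (.node (.leaf 0) (.leaf 271753965807))) (.node (.node (.leaf 0) (.leaf 0)) (.node (.leaf 0) (.leaf 0)))) (.node (.node (.node (.leaf 779493442210) (.leaf 0)) (.node (.leaf 0) (.leaf 0))) (.node (.node (.leaf 851785470695) (.leaf 0)) (.node (.leaf 0) (.leaf 0))))) (.node (.node (.node (.node (.leaf 0) (.leaf 64096391223)) (.node (.leaf 246801408210) (.leaf 322704834838))) (.node (.node (.leaf 341578846511) (.leaf 140984057988)) (.node (.leaf 563025322471) (.leaf 658956132917)))) (.node (.node (.node (.leaf 743889810048) (.leaf 0)) (.node (.leaf 0) (.leaf 693835035229))) (.node (.node (.leaf 603457925637) (.leaf 0)) (.node (.leaf 0) (.leaf 0))))))))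

/-- Part of `hintBTwo`. -/
def hintBTwo_p0010 : Tr := .node (.node (.node (.node (.node (.node (.node (.node (.leaf 628994757147) (.leaf 0)) (.node (.leaf 0) (.leaf 532866195918))) (.node (.node (.leaf 0) (.leaf 273423454447)) (.node (.leaf 522115498439) (.leaf 0)))) (.node (.node (.node (.leaf 271665676526) (.leaf 813355750083)) (.node (.leaf 0) (.leaf 120909160557))) (.node (.node (.leaf 0) (.leaf 183796842655)) (.node (.leaf 534638981583) (.leaf 657176592946))))) (.node (.node (.node (.node (.leaf 604698210821) (.leaf 0)) (.node (.leaf 926362805035) (.leaf 110926307432))) (.node (.node (.leaf 0) (.leaf 1089399948229)) (.node (.leaf 809329017534) (.leaf 941521089339)))) (.node (.node (.node (.leaf 0) (.leaf 450082165127)) (.node (.leaf 0) (.leaf 1089022694341))) (.node (.node (.leaf 962254938955) (.leaf 0)) (.node (.leaf 0) (.leaf 0)))))) (.node (.node (.node (.node (.node (.leaf 18828308501) (.leaf 660555956791)) (.node (.leaf 169731432601) (.leaf 452960932234))) (.node (.node (.leaf 567872258542) (.leaf 889223226121)) (.node (.leaf 0) (.leaf 0))))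 (.node (.node (.node (.leaf 26769223706) (.leaf 0)) (.node (.leaf 0) (.leaf 604723593733))) (.node (.node (.leaf 461864251793) (.leaf 212935090357)) (.node (.leaf 0) (.leaf 0))))) (.node (.node (.node (.node (.leaf 0) (.leaf 279029743856)) (.node (.leaf 729636323958) (.leaf 696719389279))) (.node (.node (.leaf 786570973867) (.leaf 0)) (.node (.leaf 224729768133) (.leaf 0)))) (.node (.node (.node (.leaf 0) (.leaf 1037196133280)) (.node (.leaf 0) (.leaf 803192111805))) (.node (.node (.leaf 0) (.leaf 0)) (.node (.leaf 159798694035) (.leaf 0))))))) (.node (.node (.node (.node (.node (.node (.leaf 1069281518517) (.leaf 0)) (.node (.leaf 197938565291) (.leaf 809509782206))) (.node (.node (.leaf 62772056118) (.leaf 951315190597)) (.node (.leaf 288653730044) (.leaf 331545563426)))) (.node (.node (.node (.leaf 0) (.leaf 0)) (.node (.leaf 162135634067) (.leaf 0))) (.node (.node (.leaf 0) (.leaf 0)) (.node (.leaf 0) (.leaf 0))))) (.node (.node (.node (.node (.leaf 914359882531) (.leaf 0)) (.node (.leaf 611980513803) (.leaf 346385441073))) (.node (.node (.leaf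 0) (.leaf 1005472035710)) (.node (.leaf 0) (.leaf 571726864880)))) (.node (.node (.node (.leaf 130734715002) (.leaf 1008528225154)) (.node (.leaf 740740964990) (.leaf 0))) (.node (.node (.leaf 0) (.leaf 0)) (.node (.leaf 0) (.leaf 909318026012)))))) (.node (.node (.node (.node (.node (.leaf 0) (.leaf 659750089270)) (.node (.leaf 905063523094) (.leaf 664016675386))) (.node (.node (.leaf 0) (.leaf 685175898712)) (.node (.leaf 0) (.leaf 188535910564)))) (.node (.node (.node (.leaf 536331776465) (.leaf 388470976848)) (.node (.leaf 0) (.leaf 890701902602))) (.node (.node (.leaf 636379755041) (.leaf 0)) (.node (.leaf 0) (.leaf 1026810586007))))) (.node (.node (.node (.node (.leaf 1026534228886) (.leaf 239489818827)) (.node (.leaf 34392490018) (.leaf 915000947492))) (.node (.node (.leaf 0) (.leaf 312057676047)) (.node (.leaf 0) (.leaf 0)))) (.node (.node (.node (.leaf 0) (.leaf 0)) (.node (.leaf 382130110795) (.leaf 287051780))) (.node (.node (.leaf 335195230504) (.leaf 0)) (.node (.leaf 0) (.leaf 0)))))))) (.node (.node (.node (.node (.node (.node (.node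 (.leaf 436173832566) (.leaf 0)) (.node (.leaf 0) (.leaf 0))) (.node (.node (.leaf 0) (.leaf 0)) (.node (.leaf 247763300564) (.leaf 4779544587)))) (.node (.node (.node (.leaf 0) (.leaf 0)) (.node (.leaf 188785733797) (.leaf 987817653103))) (.node (.node (.leaf 0) (.leaf 679114723919)) (.node (.leaf 317501227283) (.leaf 399739445591))))) (.node (.node (.node (.node (.leaf 0) (.leaf 655145681455)) (.node (.leaf 214864367799) (.leaf 894236898062))) (.node (.node (.leaf 5200162828) (.leaf 912265106210)) (.node (.leaf 686219719257) (.leaf 0)))) (.node (.node (.node (.leaf 704153076322) (.leaf 0)) (.node (.leaf 135473275008) (.leaf 1073149285304))) (.node (.node (.leaf 104866578531) (.leaf 462638236050)) (.node (.leaf 0) (.leaf 371856646473)))))) (.node (.node (.node (.node (.node (.leaf 0) (.leaf 841794716384)) (.node (.leaf 66350100537) (.leaf 793422938801))) (.node (.node (.leaf 673763783241) (.leaf 217067344058)) (.node (.leaf 395485237591) (.leaf 0)))) (.node (.node (.node (.leaf 0) (.leaf 0)) (.node (.leaf 497840017847) (.leaf 330741199136))) (.node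 (.node (.leaf 256719028447) (.leaf 0)) (.node (.leaf 203543130285) (.leaf 0))))) (.node (.node (.node (.node (.leaf 501189755321) (.leaf 0)) (.node (.leaf 492311658929) (.leaf 0))) (.node (.node (.leaf 0) (.leaf 0)) (.node (.leaf 0) (.leaf 630026498589)))) (.node (.node (.node (.leaf 60855185460) (.leaf 738508456574)) (.node (.leaf 0) (.leaf 0))) (.node (.node (.leaf 197181395114) (.leaf 285287235830)) (.node (.leaf 1025061594001) (.leaf 730663359094))))))) (.node (.node (.node (.node (.node (.node (.leaf 628621672987) (.leaf 0)) (.node (.leaf 0) (.leaf 0))) (.node (.node (.leaf 10369421326) (.leaf 0)) (.node (.leaf 0) (.leaf 528986243532)))) (.node (.node (.node (.leaf 0) (.leaf 0)) (.node (.leaf 0) (.leaf 0))) (.node (.node (.leaf 1026772853655) (.leaf 731064529527)) (.node (.leaf 0) (.leaf 0))))) (.node (.node (.node (.node (.leaf 0) (.leaf 0)) (.node (.leaf 441811706234) (.leaf 72803860544))) (.node (.node (.leaf 966193492820) (.leaf 277001347311)) (.node (.leaf 885841834760) (.leaf 982231180135)))) (.node (.node (.node (.leaf 0) (.leaf 0)) (.node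 (.leaf 0) (.leaf 502374236602))) (.node (.node (.leaf 280594358514) (.leaf 462383432081)) (.node (.leaf 741675680382) (.leaf 1098629882830)))))) (.node (.node (.node (.node (.node (.leaf 0) (.leaf 0)) (.node (.leaf 227715682502) (.leaf 0))) (.node (.node (.leaf 1060888196019) (.leaf 892272771851)) (.node (.leaf 0) (.leaf 365851869511)))) (.node (.node (.node (.leaf 32071401502) (.leaf 191040487592)) (.node (.leaf 1018882798473) (.leaf 0))) (.node (.node (.leaf 0) (.leaf 1041080247202)) (.node (.leaf 694216790621) (.leaf 72164253759))))) (.node (.node (.node (.node (.leaf 0) (.leaf 838528385758)) (.node (.leaf 145284001928) (.leaf 0))) (.node (.node (.leaf 145862000777) (.leaf 122038345839)) (.node (.leaf 844034487012) (.leaf 0)))) (.node (.node (.node (.leaf 688844423771) (.leaf 0)) (.node (.leaf 750530630278) (.leaf 950775993156))) (.node (.node (.leaf 0) (.leaf 0)) (.node (.leaf 894236898062) (.leaf 0))))))))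

/-- Part of `hintBTwo`. -/
def hintBTwo_p0011 : Tr := .node (.node (.node (.node (.node (.node (.node (.node (.leaf 911853503265) (.leaf 0)) (.node (.leaf 871141794547) (.leaf 451847242121))) (.node (.node (.leaf 0) (.leaf 0)) (.node (.leaf 444063334782) (.leaf 0)))) (.node (.node (.node (.leaf 651678487082) (.leaf 0)) (.node (.leaf 0) (.leaf 998076253048))) (.node (.node (.leaf 0) (.leaf 0)) (.node (.leaf 0) (.leaf 123909857394))))) (.node (.node (.node (.node (.leaf 0) (.leaf 1011799933827)) (.node (.leaf 0) (.leaf 0))) (.node (.node (.leaf 0) (.leaf 925530936106)) (.node (.leaf 13527662606) (.leaf 187135307939)))) (.node (.node (.node (.leaf 0) (.leaf 0)) (.node (.leaf 755774648971) (.leaf 1036227847070))) (.node (.node (.leaf 1069068022709) (.leaf 821815657167)) (.node (.leaf 105606561893) (.leaf 0)))))) (.node (.node (.node (.node (.node (.leaf 1089764012998) (.leaf 702247039586)) (.node (.leaf 0) (.leaf 302760513802))) (.node (.node (.leaf 0) (.leaf 992375800691)) (.node (.leaf 395377631574) (.leaf 0)))) (.node (.node (.node (.leaf 0) (.leaf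 0)) (.node (.leaf 1039209030561) (.leaf 723685130865))) (.node (.node (.leaf 740441899646) (.leaf 0)) (.node (.leaf 0) (.leaf 0))))) (.node (.node (.node (.node (.leaf 785929355945) (.leaf 209019785393)) (.node (.leaf 602734576133) (.leaf 696464745054))) (.node (.node (.leaf 992927314804) (.leaf 0)) (.node (.leaf 0) (.leaf 253145338077)))) (.node (.node (.node (.leaf 26710077466) (.leaf 0)) (.node (.leaf 0) (.leaf 0))) (.node (.node (.leaf 0) (.leaf 207403688113)) (.node (.leaf 263527473380) (.leaf 124503703667))))))) (.node (.node (.node (.node (.node (.node (.leaf 0) (.leaf 871041745650)) (.node (.leaf 0) (.leaf 813269803715))) (.node (.node (.leaf 768633442971) (.leaf 0)) (.node (.leaf 1025275220883) (.leaf 415413580135)))) (.node (.node (.node (.leaf 0) (.leaf 909135692571)) (.node (.leaf 249420296405) (.leaf 1093301031881))) (.node (.node (.leaf 673763783241) (.leaf 669008912961)) (.node (.leaf 95799558234) (.leaf 2637479944))))) (.node (.node (.node (.node (.leaf 0) (.leaf 0)) (.node (.leaf 496259924404) (.leaf 0))) (.node (.node (.leaf 1029481862040)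 (.leaf 0)) (.node (.leaf 583528182263) (.leaf 785755124392)))) (.node (.node (.node (.leaf 395377631574) (.leaf 0)) (.node (.leaf 0) (.leaf 0))) (.node (.node (.leaf 0) (.leaf 289375584509)) (.node (.leaf 995203130229) (.leaf 343269392688)))))) (.node (.node (.node (.node (.node (.leaf 0) (.leaf 187547336867)) (.node (.leaf 906713449239) (.leaf 0))) (.node (.node (.leaf 0) (.leaf 322704834838)) (.node (.leaf 0) (.leaf 0)))) (.node (.node (.node (.leaf 1068898345909) (.leaf 0)) (.node (.leaf 449135944069) (.leaf 564063490537))) (.node (.node (.leaf 0) (.leaf 0)) (.node (.leaf 0) (.leaf 62997188662))))) (.node (.node (.node (.node (.leaf 865532527341) (.leaf 391243329874)) (.node (.leaf 869874815729) (.leaf 0))) (.node (.node (.leaf 0) (.leaf 0)) (.node (.leaf 0) (.leaf 0)))) (.node (.node (.node (.leaf 0) (.leaf 263205523684)) (.node (.leaf 0) (.leaf 0))) (.node (.node (.leaf 479219823010) (.leaf 579372024308)) (.node (.leaf 72185319487) (.leaf 0)))))))) (.node (.node (.node (.node (.node (.node (.node (.leaf 322433151254) (.leaf 488090554797)) (.node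 (.leaf 337919512875) (.leaf 0))) (.node (.node (.leaf 940284244791) (.leaf 0)) (.node (.leaf 603645305349) (.leaf 856398418664)))) (.node (.node (.node (.leaf 793633125043) (.leaf 0)) (.node (.leaf 30992400413) (.leaf 0))) (.node (.node (.leaf 140984078469) (.leaf 0)) (.node (.leaf 925962478379) (.leaf 621842444820))))) (.node (.node (.node (.node (.leaf 0) (.leaf 856398418664)) (.node (.leaf 970350064474) (.leaf 79027134535))) (.node (.node (.leaf 632598856223) (.leaf 0)) (.node (.leaf 0) (.leaf 637834125859)))) (.node (.node (.node (.leaf 0) (.leaf 145862000777)) (.node (.leaf 924630942506) (.leaf 791308415664))) (.node (.node (.leaf 133533077628) (.leaf 0)) (.node (.leaf 420716921195) (.leaf 501103354297)))))) (.node (.node (.node (.node (.node (.leaf 449191457158) (.leaf 0)) (.node (.leaf 0) (.leaf 0))) (.node (.node (.leaf 0) (.leaf 0)) (.node (.leaf 72164253759) (.leaf 813269803715)))) (.node (.node (.node (.leaf 463319507347) (.leaf 916817126180)) (.node (.leaf 0) (.leaf 0))) (.node (.node (.leaf 0) (.leaf 0)) (.node (.leaf 407810494814) (.leaf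 0))))) (.node (.node (.node (.node (.leaf 0) (.leaf 0)) (.node (.leaf 124623585395) (.leaf 0))) (.node (.node (.leaf 559986442724) (.leaf 115311759466)) (.node (.leaf 992927314804) (.leaf 909034550043)))) (.node (.node (.node (.leaf 316166721809) (.leaf 0)) (.node (.leaf 621958828565) (.leaf 925962478379))) (.node (.node (.leaf 0) (.leaf 0)) (.node (.leaf 0) (.leaf 0))))))) (.node (.node (.node (.node (.node (.node (.leaf 0) (.leaf 0)) (.node (.leaf 0) (.leaf 448320901508))) (.node (.node (.leaf 670674342469) (.leaf 250030907606)) (.node (.leaf 0) (.leaf 0)))) (.node (.node (.node (.leaf 162135634067) (.leaf 0)) (.node (.leaf 173545762970) (.leaf 466136412568))) (.node (.node (.leaf 193522839722) (.leaf 0)) (.node (.leaf 0) (.leaf 0))))) (.node (.node (.node (.node (.leaf 0) (.leaf 398799827287)) (.node (.leaf 528757141963) (.leaf 0))) (.node (.node (.leaf 0) (.leaf 367185981767)) (.node (.leaf 351355207990) (.leaf 950499619652)))) (.node (.node (.node (.leaf 64096391223) (.leaf 1062335853491)) (.node (.leaf 0) (.leaf 0))) (.node (.node (.leaf 0) (.leaf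 0)) (.node (.leaf 494293864883) (.leaf 1025316291476)))))) (.node (.node (.node (.node (.node (.leaf 0) (.leaf 0)) (.node (.leaf 189210267815) (.leaf 270170906861))) (.node (.node (.leaf 4315295754) (.leaf 585731809787)) (.node (.leaf 713155326569) (.leaf 0)))) (.node (.node (.node (.leaf 438301864311) (.leaf 0)) (.node (.leaf 0) (.leaf 0))) (.node (.node (.leaf 0) (.leaf 618280272400)) (.node (.leaf 0) (.leaf 0))))) (.node (.node (.node (.node (.leaf 0) (.leaf 745059725954)) (.node (.leaf 288480559355) (.leaf 0))) (.node (.node (.leaf 1025316291476) (.leaf 0)) (.node (.leaf 0) (.leaf 1021804991373)))) (.node (.node (.node (.leaf 0) (.leaf 0)) (.node (.leaf 0) (.leaf 164035395731))) (.node (.node (.leaf 631561044510) (.leaf 0)) (.node (.leaf 0) (.leaf 0))))))))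

/-- Part of `hintBTwo`. -/
def hintBTwo_p0100 : Tr := .node (.node (.node (.node (.node (.node (.node (.node (.leaf 0) (.leaf 118854803563)) (.node (.leaf 588315136507) (.leaf 0))) (.node (.node (.leaf 0) (.leaf 829251424980)) (.node (.leaf 0) (.leaf 88676876367)))) (.node (.node (.node (.leaf 0) (.leaf 190488584360)) (.node (.leaf 829964333780) (.leaf 0))) (.node (.node (.leaf 191040487592) (.leaf 289375584509)) (.node (.leaf 152408400015) (.leaf 0))))) (.node (.node (.node (.node (.leaf 0) (.leaf 731837059703)) (.node (.leaf 0) (.leaf 330465952031))) (.node (.node (.leaf 0) (.leaf 0)) (.node (.leaf 877616718585) (.leaf 744845419138)))) (.node (.node (.node (.leaf 986211681132) (.leaf 409129259361)) (.node (.leaf 481999626664) (.leaf 1042864018342))) (.node (.node (.leaf 967614567257) (.leaf 0)) (.node (.leaf 480604811685) (.leaf 0)))))) (.node (.node (.node (.node (.node (.leaf 43616976937) (.leaf 0)) (.node (.leaf 871141794547) (.leaf 0))) (.node (.node (.leaf 771564819099) (.leaf 653486891563)) (.node (.leaf 0) (.leaf 319617347861)))) (.node (.node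 (.node (.leaf 217819156666) (.leaf 94548058199)) (.node (.leaf 0) (.leaf 664077988410))) (.node (.node (.leaf 0) (.leaf 74847481921)) (.node (.leaf 0) (.leaf 0))))) (.node (.node (.node (.node (.leaf 0) (.leaf 585731809787)) (.node (.leaf 751817085575) (.leaf 0))) (.node (.node (.leaf 197181395114) (.leaf 0)) (.node (.leaf 0) (.leaf 0)))) (.node (.node (.node (.leaf 685293322840) (.leaf 159573377171)) (.node (.leaf 0) (.leaf 0))) (.node (.node (.leaf 0) (.leaf 0)) (.node (.leaf 0) (.leaf 995203130229))))))) (.node (.node (.node (.node (.node (.node (.leaf 0) (.leaf 243200528589)) (.node (.leaf 1034495075229) (.leaf 202814922925))) (.node (.node (.leaf 651678487082) (.leaf 0)) (.node (.leaf 0) (.leaf 780061385379)))) (.node (.node (.node (.leaf 0) (.leaf 857041380072)) (.node (.leaf 0) (.leaf 0))) (.node (.node (.leaf 176118243484) (.leaf 1084786967489)) (.node (.leaf 546802061788) (.leaf 0))))) (.node (.node (.node (.node (.leaf 0) (.leaf 0)) (.node (.leaf 0) (.leaf 0))) (.node (.node (.leaf 804511138494) (.leaf 1037966939041)) (.node (.leaf 0) (.leaf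 644693729831)))) (.node (.node (.node (.leaf 454485664139) (.leaf 337443807530)) (.node (.leaf 83591856202) (.leaf 973884060511))) (.node (.node (.leaf 0) (.leaf 0)) (.node (.leaf 388306420048) (.leaf 331545563426)))))) (.node (.node (.node (.node (.node (.leaf 800814609083) (.leaf 247620063443)) (.node (.leaf 90898956370) (.leaf 0))) (.node (.node (.leaf 0) (.leaf 877326996217)) (.node (.leaf 403460579674) (.leaf 0)))) (.node (.node (.node (.leaf 1067767813045) (.leaf 307882197259)) (.node (.leaf 763030733460) (.leaf 0))) (.node (.node (.leaf 894655611663) (.leaf 964017546067)) (.node (.leaf 70147567677) (.leaf 744501146241))))) (.node (.node (.node (.node (.leaf 815133024964) (.leaf 0)) (.node (.leaf 965907501908) (.leaf 65440006200))) (.node (.node (.leaf 0) (.leaf 900620718866)) (.node (.leaf 11568574478) (.leaf 1008528225154)))) (.node (.node (.node (.leaf 0) (.leaf 0)) (.node (.leaf 0) (.leaf 1044841763753))) (.node (.node (.leaf 403194392922) (.leaf 0)) (.node (.leaf 0) (.leaf 0)))))))) (.node (.node (.node (.node (.node (.node (.node (.leaf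 797463659193) (.leaf 0)) (.node (.leaf 0) (.leaf 1091227972551))) (.node (.node (.leaf 1040245191585) (.leaf 292137615616)) (.node (.leaf 0) (.leaf 0)))) (.node (.node (.node (.leaf 566812717549) (.leaf 896362623760)) (.node (.leaf 0) (.leaf 0))) (.node (.node (.leaf 0) (.leaf 528986243532)) (.node (.leaf 497815691702) (.leaf 0))))) (.node (.node (.node (.node (.leaf 937234174772) (.leaf 752298693256)) (.node (.leaf 0) (.leaf 0))) (.node (.node (.leaf 1080124163006) (.leaf 0)) (.node (.leaf 0) (.leaf 0)))) (.node (.node (.node (.leaf 0) (.leaf 123696767089)) (.node (.leaf 656234684975) (.leaf 0))) (.node (.node (.leaf 608919921161) (.leaf 139963273347)) (.node (.leaf 0) (.leaf 0)))))) (.node (.node (.node (.node (.node (.leaf 897928491793) (.leaf 0)) (.node (.leaf 0) (.leaf 6188408844))) (.node (.node (.leaf 0) (.leaf 0)) (.node (.leaf 957749125960) (.leaf 0)))) (.node (.node (.node (.leaf 330465952031) (.leaf 118578438251)) (.node (.leaf 221339566273) (.leaf 76383801410))) (.node (.node (.leaf 683083563605) (.leaf 68220698681)) (.node (.leaf 595513848318)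 (.leaf 0))))) (.node (.node (.node (.node (.leaf 0) (.leaf 18828308501)) (.node (.leaf 679114723919) (.leaf 360432644416))) (.node (.node (.leaf 122184978543) (.leaf 621388984851)) (.node (.leaf 0) (.leaf 302760513802)))) (.node (.node (.node (.leaf 0) (.leaf 869874815729)) (.node (.leaf 767951291034) (.leaf 0))) (.node (.node (.leaf 0) (.leaf 0)) (.node (.leaf 0) (.leaf 353029271865))))))) (.node (.node (.node (.node (.node (.node (.leaf 0) (.leaf 0)) (.node (.leaf 0) (.leaf 0))) (.node (.node (.leaf 0) (.leaf 144585937031)) (.node (.leaf 184840540321) (.leaf 401697395034)))) (.node (.node (.node (.leaf 1079342982077) (.leaf 769294652059)) (.node (.leaf 631480590878) (.leaf 808382051006))) (.node (.node (.leaf 0) (.leaf 0)) (.node (.leaf 0) (.leaf 171033399450))))) (.node (.node (.node (.node (.leaf 0) (.leaf 1093301031881)) (.node (.leaf 0) (.leaf 0))) (.node (.node (.leaf 0) (.leaf 0)) (.node (.leaf 17923018772) (.leaf 98623365212)))) (.node (.node (.node (.leaf 733547577977) (.leaf 1005573301119)) (.node (.leaf 0) (.leaf 446246691199))) (.node (.node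 (.leaf 0) (.leaf 0)) (.node (.leaf 0) (.leaf 0)))))) (.node (.node (.node (.node (.node (.leaf 841794716384) (.leaf 378159456586)) (.node (.leaf 0) (.leaf 3296444425))) (.node (.node (.leaf 0) (.leaf 1055793595308)) (.node (.leaf 267388915944) (.leaf 0)))) (.node (.node (.node (.leaf 0) (.leaf 620924912146)) (.node (.leaf 0) (.leaf 534232289743))) (.node (.node (.leaf 281390162162) (.leaf 83591856202)) (.node (.leaf 62772056118) (.leaf 384940163406))))) (.node (.node (.node (.node (.leaf 0) (.leaf 0)) (.node (.leaf 584016065015) (.leaf 951315190597))) (.node (.node (.leaf 0) (.leaf 0)) (.node (.leaf 569135673839) (.leaf 0)))) (.node (.node (.node (.leaf 0) (.leaf 0)) (.node (.leaf 941521089339) (.leaf 543084356054))) (.node (.node (.leaf 0) (.leaf 0)) (.node (.leaf 0) (.leaf 0))))))))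

/-- Part of `hintBTwo`. -/
def hintBTwo_p0101 : Tr := .node (.node (.node (.node (.node (.node (.node (.node (.leaf 191027372200) (.leaf 441452527993)) (.node (.leaf 309596999948) (.leaf 0))) (.node (.node (.leaf 0) (.leaf 0)) (.node (.leaf 737615647357) (.leaf 14192513038)))) (.node (.node (.node (.leaf 104111865952) (.leaf 0)) (.node (.leaf 0) (.leaf 0))) (.node (.node (.leaf 215203426488) (.leaf 0)) (.node (.leaf 0) (.leaf 0))))) (.node (.node (.node (.node (.leaf 0) (.leaf 584175755768)) (.node (.leaf 783156937381) (.leaf 164294705299))) (.node (.node (.leaf 0) (.leaf 199213945004)) (.node (.leaf 0) (.leaf 731837059703)))) (.node (.node (.node (.leaf 0) (.leaf 0)) (.node (.leaf 290246508799) (.leaf 90268491856))) (.node (.node (.leaf 747365024387) (.leaf 0)) (.node (.leaf 0) (.leaf 316097597713)))))) (.node (.node (.node (.node (.node (.leaf 661711426104) (.leaf 859472986858)) (.node (.leaf 0) (.leaf 0))) (.node (.node (.leaf 0) (.leaf 536331776465)) (.node (.leaf 571729146353) (.leaf 167050018967)))) (.node (.node (.node (.leaf 656234684975) (.leaf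 354763333949)) (.node (.leaf 735558574715) (.leaf 0))) (.node (.node (.leaf 0) (.leaf 830694511317)) (.node (.leaf 611980513803) (.leaf 0))))) (.node (.node (.node (.node (.leaf 0) (.leaf 0)) (.node (.leaf 374732566858) (.leaf 0))) (.node (.node (.leaf 0) (.leaf 0)) (.node (.leaf 0) (.leaf 0)))) (.node (.node (.node (.leaf 0) (.leaf 1098629882830)) (.node (.leaf 0) (.leaf 673650778697))) (.node (.node (.leaf 622548124182) (.leaf 0)) (.node (.leaf 0) (.leaf 596781847038))))))) (.node (.node (.node (.node (.node (.node (.leaf 0) (.leaf 0)) (.node (.leaf 363917328707) (.leaf 0))) (.node (.node (.leaf 480399376805) (.leaf 0)) (.node (.leaf 165170917524) (.leaf 622273229333)))) (.node (.node (.node (.leaf 468300853660) (.leaf 1039209030561)) (.node (.leaf 365647458631) (.leaf 0))) (.node (.node (.leaf 977295258466) (.leaf 1018882798473)) (.node (.leaf 0) (.leaf 0))))) (.node (.node (.node (.node (.leaf 4779544587) (.leaf 497815691702)) (.node (.leaf 0) (.leaf 0))) (.node (.node (.leaf 833197875929) (.leaf 764834169495)) (.node (.leaf 0) (.leaf 191692386472))))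 (.node (.node (.node (.leaf 444063334782) (.leaf 373424075081)) (.node (.leaf 0) (.leaf 0))) (.node (.node (.leaf 701866603106) (.leaf 17912344595)) (.node (.leaf 0) (.leaf 444846121342)))))) (.node (.node (.node (.node (.node (.leaf 0) (.leaf 0)) (.node (.leaf 890690941706) (.leaf 0))) (.node (.node (.leaf 480044429731) (.leaf 794553545398)) (.node (.leaf 0) (.leaf 0)))) (.node (.node (.node (.leaf 477852803489) (.leaf 364902904133)) (.node (.leaf 0) (.leaf 0))) (.node (.node (.leaf 723241644656) (.leaf 704337580643)) (.node (.leaf 0) (.leaf 0))))) (.node (.node (.node (.node (.leaf 14238900238) (.leaf 0)) (.node (.leaf 219038617788) (.leaf 978288771938))) (.node (.node (.leaf 0) (.leaf 20503351317)) (.node (.leaf 359259705663) (.leaf 670922109510)))) (.node (.node (.node (.leaf 0) (.leaf 0)) (.node (.leaf 0) (.leaf 0))) (.node (.node (.leaf 796031533751) (.leaf 0)) (.node (.leaf 1043029509032) (.leaf 0)))))))) (.node (.node (.node (.node (.node (.node (.node (.leaf 359259705663) (.leaf 911212704543)) (.node (.leaf 0) (.leaf 0))) (.node (.node (.leaf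 322433151254) (.leaf 0)) (.node (.leaf 0) (.leaf 444846121342)))) (.node (.node (.node (.leaf 0) (.leaf 198828691627)) (.node (.leaf 0) (.leaf 480399376805))) (.node (.node (.leaf 1091281486791) (.leaf 0)) (.node (.leaf 672508232264) (.leaf 334068359463))))) (.node (.node (.node (.node (.leaf 0) (.leaf 450158215559)) (.node (.leaf 0) (.leaf 579923669492))) (.node (.node (.leaf 0) (.leaf 61804331061)) (.node (.leaf 0) (.leaf 674021388873)))) (.node (.node (.node (.leaf 0) (.leaf 0)) (.node (.leaf 1071605851063) (.leaf 224753909957))) (.node (.node (.leaf 47375138861) (.leaf 1090322895814)) (.node (.leaf 0) (.leaf 23197859862)))))) (.node (.node (.node (.node (.node (.leaf 768713802395) (.leaf 223001641154)) (.node (.leaf 940361380664) (.leaf 540241850837))) (.node (.node (.leaf 287346450681) (.leaf 690412466780)) (.node (.leaf 384940163406) (.leaf 0)))) (.node (.node (.node (.leaf 32634150944) (.leaf 0)) (.node (.leaf 700479332961) (.leaf 0))) (.node (.node (.leaf 0) (.leaf 949200917314)) (.node (.leaf 261494276321) (.leaf 356351291711))))) (.node (.node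 (.node (.node (.leaf 0) (.leaf 0)) (.node (.leaf 0) (.leaf 402075246938))) (.node (.node (.leaf 908328067865) (.leaf 3296444425)) (.node (.leaf 0) (.leaf 582440694262)))) (.node (.node (.node (.leaf 0) (.leaf 741183136382)) (.node (.leaf 412647338339) (.leaf 370163786057))) (.node (.node (.leaf 1080181253054) (.leaf 422339051886)) (.node (.leaf 0) (.leaf 414836367718))))))) (.node (.node (.node (.node (.node (.node (.leaf 885142692614) (.leaf 816443208391)) (.node (.leaf 702462083682) (.leaf 259494158560))) (.node (.node (.leaf 0) (.leaf 1021856756621)) (.node (.leaf 202814922925) (.leaf 1031723193242)))) (.node (.node (.node (.leaf 952974041925) (.leaf 0)) (.node (.leaf 68521209915) (.leaf 314104291601))) (.node (.node (.leaf 857041380072) (.leaf 268396237035)) (.node (.leaf 268356423914) (.leaf 0))))) (.node (.node (.node (.node (.leaf 1054306956203) (.leaf 0)) (.node (.leaf 0) (.leaf 478229664162))) (.node (.node (.leaf 679401914963) (.leaf 876074767095)) (.node (.leaf 0) (.leaf 0)))) (.node (.node (.node (.leaf 406338347357) (.leaf 1011799933827))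 (.node (.leaf 31777648670) (.leaf 247000629459))) (.node (.node (.leaf 0) (.leaf 0)) (.node (.leaf 109552631911) (.leaf 0)))))) (.node (.node (.node (.node (.node (.leaf 277856178415) (.leaf 939570692918)) (.node (.leaf 0) (.leaf 642919805478))) (.node (.node (.leaf 47375138861) (.leaf 0)) (.node (.leaf 957063086920) (.leaf 0)))) (.node (.node (.node (.leaf 0) (.leaf 0)) (.node (.leaf 797463659193) (.leaf 247620063443))) (.node (.node (.leaf 0) (.leaf 0)) (.node (.leaf 0) (.leaf 582440694262))))) (.node (.node (.node (.node (.leaf 342510137647) (.leaf 923384742697)) (.node (.leaf 563712385513) (.leaf 0))) (.node (.node (.leaf 118854803563) (.leaf 978511229795)) (.node (.leaf 153155846288) (.leaf 910831047455)))) (.node (.node (.node (.leaf 770863686299) (.leaf 153155846288)) (.node (.leaf 628621672987) (.leaf 0))) (.node (.node (.leaf 23318204439) (.leaf 0)) (.node (.leaf 456652181901) (.leaf 0))))))))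

/-- Part of `hintBTwo`. -/
def hintBTwo_p0110 : Tr := .node (.node (.node (.node (.node (.node (.node (.node (.leaf 0) (.leaf 420218818921)) (.node (.leaf 487593152940) (.leaf 631558926878))) (.node (.node (.leaf 0) (.leaf 0)) (.node (.leaf 771564819099) (.leaf 159203487891)))) (.node (.node (.node (.leaf 0) (.leaf 395485237591)) (.node (.leaf 0) (.leaf 14192513038))) (.node (.node (.leaf 911212704543) (.leaf 71162249279)) (.node (.leaf 817840276169) (.leaf 947711353664))))) (.node (.node (.node (.node (.leaf 90058248272) (.leaf 409410609506)) (.node (.leaf 997680128886) (.leaf 685097009752))) (.node (.node (.leaf 933277701) (.leaf 784187397)) (.node (.leaf 0) (.leaf 1046649643946)))) (.node (.node (.node (.leaf 957063086920) (.leaf 750530630278)) (.node (.leaf 0) (.leaf 0))) (.node (.node (.leaf 0) (.leaf 0)) (.node (.leaf 0) (.leaf 586051588603)))))) (.node (.node (.node (.node (.node (.leaf 745567036034) (.leaf 481268138405)) (.node (.leaf 1098629882830) (.leaf 1008528225154))) (.node (.node (.leaf 0) (.leaf 1037924815777)) (.node (.leaf 564858585578)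 (.leaf 130285797497)))) (.node (.node (.node (.leaf 422021505389) (.leaf 1098253681613)) (.node (.leaf 265089548518) (.leaf 0))) (.node (.node (.leaf 0) (.leaf 941521089339)) (.node (.leaf 0) (.leaf 567872258542))))) (.node (.node (.node (.node (.leaf 781378200227) (.leaf 98399776860)) (.node (.leaf 0) (.leaf 731660538487))) (.node (.node (.leaf 89760227408) (.leaf 286053970167)) (.node (.leaf 139963273347) (.leaf 0)))) (.node (.node (.node (.leaf 411883729250) (.leaf 217819156666)) (.node (.leaf 582440694262) (.leaf 0))) (.node (.node (.leaf 1465614343) (.leaf 0)) (.node (.leaf 957094388552) (.leaf 0))))))) (.node (.node (.node (.node (.node (.node (.leaf 737953022590) (.leaf 0)) (.node (.leaf 0) (.leaf 0))) (.node (.node (.leaf 0) (.leaf 737827271293)) (.node (.leaf 83943805002) (.leaf 654232838701)))) (.node (.node (.node (.leaf 466570437016) (.leaf 0)) (.node (.leaf 0) (.leaf 438561587576))) (.node (.node (.leaf 782565876387) (.leaf 425466356080)) (.node (.leaf 585474347515) (.leaf 0))))) (.node (.node (.node (.node (.leaf 988834927472) (.leaf 0))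 (.node (.leaf 0) (.leaf 388470976848))) (.node (.node (.leaf 0) (.leaf 0)) (.node (.leaf 170131660953) (.leaf 541985853909)))) (.node (.node (.node (.leaf 0) (.leaf 0)) (.node (.leaf 0) (.leaf 135481344128))) (.node (.node (.leaf 203661103278) (.leaf 528073769418)) (.node (.leaf 907995288345) (.leaf 0)))))) (.node (.node (.node (.node (.node (.leaf 0) (.leaf 360962769218)) (.node (.leaf 820014985931) (.leaf 0))) (.node (.node (.leaf 584016065015) (.leaf 811678159554)) (.node (.leaf 0) (.leaf 0)))) (.node (.node (.node (.leaf 0) (.leaf 0)) (.node (.leaf 0) (.leaf 129872097400))) (.node (.node (.leaf 0) (.leaf 17923018772)) (.node (.leaf 0) (.leaf 817269748424))))) (.node (.node (.node (.node (.leaf 1054306956203) (.leaf 0)) (.node (.leaf 541896786389) (.leaf 0))) (.node (.node (.leaf 492311658929) (.leaf 0)) (.node (.leaf 0) (.leaf 329245331741)))) (.node (.node (.node (.leaf 0) (.leaf 0)) (.node (.leaf 1049631572907) (.leaf 693997498973))) (.node (.node (.leaf 0) (.leaf 0)) (.node (.leaf 425140248944) (.leaf 0)))))))) (.node (.node (.node (.node (.node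 (.node (.node (.leaf 605564363270) (.leaf 85885382732)) (.node (.leaf 793455284914) (.leaf 0))) (.node (.node (.leaf 0) (.leaf 0)) (.node (.leaf 0) (.leaf 892027519755)))) (.node (.node (.node (.leaf 0) (.leaf 530692248013)) (.node (.leaf 0) (.leaf 794133725877))) (.node (.node (.leaf 503921938876) (.leaf 678487982669)) (.node (.leaf 0) (.leaf 1084764537792))))) (.node (.node (.node (.node (.leaf 0) (.leaf 365261336901)) (.node (.leaf 436173832566) (.leaf 0))) (.node (.node (.leaf 0) (.leaf 0)) (.node (.leaf 0) (.leaf 54689099824)))) (.node (.node (.node (.leaf 1006582207361) (.leaf 0)) (.node (.leaf 280594358514) (.leaf 0))) (.node (.node (.leaf 0) (.leaf 0)) (.node (.leaf 0) (.leaf 1042600649636)))))) (.node (.node (.node (.node (.node (.leaf 5200162828) (.leaf 0)) (.node (.leaf 1078953763772) (.leaf 0))) (.node (.node (.leaf 0) (.leaf 0)) (.node (.leaf 0) (.leaf 678569706062)))) (.node (.node (.node (.leaf 0) (.leaf 624546091544)) (.node (.leaf 441819705723) (.leaf 0))) (.node (.node (.leaf 0) (.leaf 0)) (.node (.leaf 0) (.leaf 447832940929)))))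 (.node (.node (.node (.node (.leaf 328549400860) (.leaf 714506506858)) (.node (.leaf 0) (.leaf 1069281518517))) (.node (.node (.leaf 865825116910) (.leaf 0)) (.node (.leaf 197303976107) (.leaf 1091281486791)))) (.node (.node (.node (.leaf 0) (.leaf 137141432450)) (.node (.leaf 873480946422) (.leaf 481722634662))) (.node (.node (.leaf 0) (.leaf 303250313482)) (.node (.leaf 0) (.leaf 43604717609))))))) (.node (.node (.node (.node (.node (.node (.leaf 614233096716) (.leaf 929890964269)) (.node (.leaf 339108053292) (.leaf 266432323815))) (.node (.node (.leaf 281863909618) (.leaf 0)) (.node (.leaf 824987222735) (.leaf 1005627683712)))) (.node (.node (.node (.leaf 885824566024) (.leaf 1042163708836)) (.node (.leaf 0) (.leaf 4779544587))) (.node (.node (.leaf 0) (.leaf 501524947385)) (.node (.leaf 183796842655) (.leaf 925530936106))))) (.node (.node (.node (.node (.leaf 0) (.leaf 37368356898)) (.node (.leaf 160711061651) (.leaf 0))) (.node (.node (.leaf 403602448731) (.leaf 0)) (.node (.leaf 0) (.leaf 144585937031)))) (.node (.node (.node (.leaf 963625964369)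 (.leaf 0)) (.node (.leaf 0) (.leaf 137141432450))) (.node (.node (.leaf 0) (.leaf 265089548518)) (.node (.leaf 1079032726461) (.leaf 0)))))) (.node (.node (.node (.node (.node (.leaf 365851869511) (.leaf 134642217087)) (.node (.leaf 41934397479) (.leaf 856398418664))) (.node (.node (.leaf 0) (.leaf 0)) (.node (.leaf 0) (.leaf 0)))) (.node (.node (.node (.leaf 0) (.leaf 144585937031)) (.node (.leaf 569669669359) (.leaf 554935923171))) (.node (.node (.leaf 786428879531) (.leaf 1032264745883)) (.node (.leaf 736961987197) (.leaf 0))))) (.node (.node (.node (.node (.leaf 0) (.leaf 349287477555)) (.node (.leaf 213512507574) (.leaf 0))) (.node (.node (.leaf 0) (.leaf 0)) (.node (.leaf 0) (.leaf 927329129260)))) (.node (.node (.node (.leaf 809509782206) (.leaf 0)) (.node (.leaf 0) (.leaf 911212704543))) (.node (.node (.leaf 144365777030) (.leaf 0)) (.node (.leaf 68521209915) (.leaf 0))))))))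

/-- Part of `hintBTwo`. -/
def hintBTwo_p0111 : Tr := .node (.node (.node (.node (.node (.node (.node (.node (.leaf 322315845910) (.leaf 941578306364)) (.node (.leaf 0) (.leaf 1076366517178))) (.node (.node (.leaf 0) (.leaf 0)) (.node (.leaf 0) (.leaf 51394707503)))) (.node (.node (.node (.leaf 0) (.leaf 704050586210)) (.node (.leaf 1092910986185) (.leaf 146056241290))) (.node (.node (.leaf 998392324985) (.leaf 0)) (.node (.leaf 0) (.leaf 0))))) (.node (.node (.node (.node (.leaf 843932369634) (.leaf 794553545398)) (.node (.leaf 0) (.leaf 1026189521813))) (.node (.node (.leaf 0) (.leaf 1042332697508)) (.node (.leaf 289375584509) (.leaf 0)))) (.node (.node (.node (.leaf 0) (.leaf 0)) (.node (.leaf 0) (.leaf 906567856918))) (.node (.node (.leaf 962301797195) (.leaf 0)) (.node (.leaf 0) (.leaf 401308918106)))))) (.node (.node (.node (.node (.node (.leaf 76383801410) (.leaf 0)) (.node (.leaf 253665546462) (.leaf 11550470158))) (.node (.node (.leaf 605503050245) (.leaf 656508166705)) (.node (.leaf 607205528071) (.leaf 0)))) (.node (.node (.node (.leaf 655145681455)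 (.leaf 25366204442)) (.node (.leaf 0) (.leaf 111439024232))) (.node (.node (.leaf 352189690167) (.leaf 0)) (.node (.leaf 0) (.leaf 0))))) (.node (.node (.node (.node (.leaf 0) (.leaf 37889822755)) (.node (.leaf 31142617117) (.leaf 960792925001))) (.node (.node (.leaf 921917936422) (.leaf 438541513080)) (.node (.leaf 0) (.leaf 636379755041)))) (.node (.node (.node (.leaf 0) (.leaf 0)) (.node (.leaf 397510021463) (.leaf 865401623277))) (.node (.node (.leaf 1063474332596) (.leaf 0)) (.node (.leaf 971451872091) (.leaf 422021505389))))))) (.node (.node (.node (.node (.node (.node (.leaf 530692248013) (.leaf 955067163464)) (.node (.leaf 0) (.leaf 625784226330))) (.node (.node (.leaf 0) (.leaf 894560260878)) (.node (.leaf 810785215167) (.leaf 636256420385)))) (.node (.node (.node (.leaf 0) (.leaf 0)) (.node (.leaf 0) (.leaf 0))) (.node (.node (.leaf 604799402501) (.leaf 192940708010)) (.node (.leaf 0) (.leaf 563199414760))))) (.node (.node (.node (.node (.leaf 763735044757) (.leaf 622857925142)) (.node (.leaf 0) (.leaf 1017529365383))) (.node (.node (.leaf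 1069281518517) (.leaf 801864164027)) (.node (.leaf 0) (.leaf 153155846288)))) (.node (.node (.node (.leaf 0) (.leaf 558060413412)) (.node (.leaf 316395114770) (.leaf 0))) (.node (.node (.leaf 0) (.leaf 72451280959)) (.node (.leaf 1096674370506) (.leaf 645333996072)))))) (.node (.node (.node (.node (.node (.leaf 0) (.leaf 824275055311)) (.node (.leaf 0) (.leaf 0))) (.node (.node (.leaf 0) (.leaf 479122764194)) (.node (.leaf 43604717609) (.leaf 205113831600)))) (.node (.node (.node (.leaf 616648598031) (.leaf 0)) (.node (.leaf 426235216242) (.leaf 426636812659))) (.node (.node (.leaf 567872258542) (.leaf 0)) (.node (.leaf 0) (.leaf 0))))) (.node (.node (.node (.node (.leaf 733547577977) (.leaf 0)) (.node (.leaf 779493442210) (.leaf 0))) (.node (.node (.leaf 962417718091) (.leaf 0)) (.node (.leaf 435791864182) (.leaf 966193492820)))) (.node (.node (.node (.leaf 476699726241) (.leaf 0)) (.node (.leaf 0) (.leaf 164035395731))) (.node (.node (.leaf 0) (.leaf 0)) (.node (.leaf 280594358514) (.leaf 0)))))))) (.node (.node (.node (.node (.node (.node (.node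 (.leaf 0) (.leaf 104866578531)) (.node (.leaf 978356433763) (.leaf 0))) (.node (.node (.leaf 689891840603) (.leaf 0)) (.node (.leaf 6188408844) (.leaf 384328520013)))) (.node (.node (.node (.leaf 757109981838) (.leaf 0)) (.node (.leaf 31142617117) (.leaf 924399731498))) (.node (.node (.leaf 0) (.leaf 0)) (.node (.leaf 0) (.leaf 0))))) (.node (.node (.node (.node (.leaf 0) (.leaf 1025108611986)) (.node (.leaf 0) (.leaf 392692416850))) (.node (.node (.leaf 332834730277) (.leaf 0)) (.node (.leaf 1046649643946) (.leaf 0)))) (.node (.node (.node (.leaf 0) (.leaf 43408904232)) (.node (.leaf 0) (.leaf 311384105230))) (.node (.node (.leaf 0) (.leaf 0)) (.node (.leaf 0) (.leaf 0)))))) (.node (.node (.node (.node (.node (.leaf 0) (.leaf 0)) (.node (.leaf 1036991271838) (.leaf 0))) (.node (.node (.leaf 865532527341) (.leaf 978601460579)) (.node (.leaf 0) (.leaf 0)))) (.node (.node (.node (.leaf 309596999948) (.leaf 23197859862)) (.node (.leaf 0) (.leaf 0))) (.node (.node (.leaf 0) (.leaf 0)) (.node (.leaf 467332518297) (.leaf 941521089339))))) (.node (.node (.node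 (.node (.leaf 0) (.leaf 192044802218)) (.node (.leaf 448026042755) (.leaf 911853503265))) (.node (.node (.leaf 745059725954) (.leaf 0)) (.node (.leaf 0) (.leaf 208215982257)))) (.node (.node (.node (.leaf 0) (.leaf 0)) (.node (.leaf 838528385758) (.leaf 608362803720))) (.node (.node (.leaf 0) (.leaf 0)) (.node (.leaf 0) (.leaf 0))))))) (.node (.node (.node (.node (.node (.node (.leaf 0) (.leaf 0)) (.node (.leaf 16029749266) (.leaf 698261033568))) (.node (.node (.leaf 0) (.leaf 144585937031)) (.node (.leaf 0) (.leaf 95988965467)))) (.node (.node (.node (.leaf 0) (.leaf 571570401776)) (.node (.leaf 0) (.leaf 0))) (.node (.node (.leaf 951315190597) (.leaf 0)) (.node (.leaf 701226259042) (.leaf 919986856741))))) (.node (.node (.node (.node (.leaf 1047368549290) (.leaf 0)) (.node (.leaf 538895811028) (.leaf 800625271483))) (.node (.node (.leaf 294592897282) (.leaf 0)) (.node (.leaf 1087147324354) (.leaf 0)))) (.node (.node (.node (.leaf 0) (.leaf 63696285750)) (.node (.leaf 381310447946) (.leaf 0))) (.node (.node (.leaf 775203226270) (.leaf 947371205440))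 (.node (.leaf 817994822346) (.leaf 0)))))) (.node (.node (.node (.node (.node (.leaf 420218818921) (.leaf 908373132057)) (.node (.leaf 0) (.leaf 687243616859))) (.node (.node (.leaf 68220698681) (.leaf 0)) (.node (.leaf 0) (.leaf 0)))) (.node (.node (.node (.leaf 0) (.leaf 0)) (.node (.leaf 906567856918) (.leaf 0))) (.node (.node (.leaf 0) (.leaf 0)) (.node (.leaf 0) (.leaf 1067767813045))))) (.node (.node (.node (.node (.leaf 396922532183) (.leaf 731837059703)) (.node (.leaf 949816529730) (.leaf 728502907509))) (.node (.node (.leaf 0) (.leaf 0)) (.node (.leaf 229393178824) (.leaf 285835677942)))) (.node (.node (.node (.leaf 414566310245) (.leaf 624546091544)) (.node (.leaf 0) (.leaf 0))) (.node (.node (.leaf 620924912146) (.leaf 0)) (.node (.leaf 0) (.leaf 0))))))))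

/-- Part of `hintBTwo`. -/
def hintBTwo_p1000 : Tr := .node (.node (.node (.node (.node (.node (.node (.node (.leaf 0) (.leaf 436589113718)) (.node (.leaf 0) (.leaf 98399776860))) (.node (.node (.leaf 586884223483) (.leaf 0)) (.node (.leaf 80077840455) (.leaf 0)))) (.node (.node (.node (.leaf 967614567257) (.leaf 0)) (.node (.leaf 964744614739) (.leaf 85612986443))) (.node (.node (.leaf 286278930680) (.leaf 0)) (.node (.leaf 54689099824) (.leaf 294592897282))))) (.node (.node (.node (.node (.leaf 425054286191) (.leaf 0)) (.node (.leaf 0) (.leaf 909338366749))) (.node (.node (.leaf 771564819099) (.leaf 949536981826)) (.node (.leaf 148946931852) (.leaf 911141790495)))) (.node (.node (.node (.leaf 0) (.leaf 0)) (.node (.leaf 0) (.leaf 246801408210))) (.node (.node (.leaf 334212682024) (.leaf 0)) (.node (.leaf 0) (.leaf 974171030367)))))) (.node (.node (.node (.node (.node (.leaf 929815642925) (.leaf 0)) (.node (.leaf 1010067239810) (.leaf 614735249934))) (.node (.node (.leaf 357577208127) (.leaf 631558926878)) (.node (.leaf 159203487891) (.leaf 876074767095))))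 (.node (.node (.node (.leaf 0) (.leaf 916817126180)) (.node (.leaf 0) (.leaf 86144557133))) (.node (.node (.leaf 543084356054) (.leaf 0)) (.node (.leaf 316097597713) (.leaf 14252023822))))) (.node (.node (.node (.node (.leaf 162135634067) (.leaf 0)) (.node (.leaf 0) (.leaf 0))) (.node (.node (.leaf 0) (.leaf 0)) (.node (.leaf 514547999169) (.leaf 0)))) (.node (.node (.node (.leaf 736961987197) (.leaf 962301797195)) (.node (.leaf 436370497910) (.leaf 231966900425))) (.node (.node (.leaf 0) (.leaf 241696334028)) (.node (.leaf 0) (.leaf 516433396163))))))) (.node (.node (.node (.node (.node (.node (.leaf 0) (.leaf 0)) (.node (.leaf 156647448722) (.leaf 902310601491))) (.node (.node (.leaf 669658448451) (.leaf 365851869511)) (.node (.leaf 395142345045) (.leaf 625119900185)))) (.node (.node (.node (.leaf 0) (.leaf 0)) (.node (.leaf 0) (.leaf 272551547119))) (.node (.node (.leaf 292448698625) (.leaf 0)) (.node (.leaf 0) (.leaf 0))))) (.node (.node (.node (.node (.leaf 0) (.leaf 0)) (.node (.leaf 0) (.leaf 0))) (.node (.node (.leaf 803192111805) (.leaf 212935090357))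 (.node (.leaf 0) (.leaf 364649443652)))) (.node (.node (.node (.leaf 895611884304) (.leaf 510818226624)) (.node (.leaf 0) (.leaf 565679276523))) (.node (.node (.leaf 0) (.leaf 0)) (.node (.leaf 893115061004) (.leaf 894708208400)))))) (.node (.node (.node (.node (.node (.leaf 0) (.leaf 56366690352)) (.node (.leaf 0) (.leaf 0))) (.node (.node (.leaf 856398418664) (.leaf 0)) (.node (.leaf 0) (.leaf 0)))) (.node (.node (.node (.leaf 542526378453) (.leaf 0)) (.node (.leaf 425830916465) (.leaf 0))) (.node (.node (.leaf 915073233700) (.leaf 528757141963)) (.node (.leaf 918189015844) (.leaf 0))))) (.node (.node (.node (.node (.leaf 124623585395) (.leaf 212935090357)) (.node (.leaf 0) (.leaf 762867679891))) (.node (.node (.leaf 1029872866201) (.leaf 520379240901)) (.node (.leaf 90471317585) (.leaf 0)))) (.node (.node (.node (.leaf 0) (.leaf 309157220620)) (.node (.leaf 28483371036) (.leaf 605564363270))) (.node (.node (.leaf 0) (.leaf 740441899646)) (.node (.leaf 287550386426) (.leaf 0)))))))) (.node (.node (.node (.node (.node (.node (.node (.leaf 1037966939041)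 (.leaf 0)) (.node (.leaf 0) (.leaf 0))) (.node (.node (.leaf 883096695555) (.leaf 0)) (.node (.leaf 120909160557) (.leaf 384213029197)))) (.node (.node (.node (.leaf 701226259042) (.leaf 0)) (.node (.leaf 448374333829) (.leaf 0))) (.node (.node (.leaf 63696285750) (.leaf 0)) (.node (.leaf 0) (.leaf 960792925001))))) (.node (.node (.node (.node (.leaf 0) (.leaf 0)) (.node (.leaf 126597623924) (.leaf 3531071497))) (.node (.node (.leaf 0) (.leaf 5671317516)) (.node (.leaf 107814223975) (.leaf 0)))) (.node (.node (.node (.leaf 601314075137) (.leaf 756437795470)) (.node (.leaf 990638916465) (.leaf 944455070526))) (.node (.node (.leaf 1026534228886) (.leaf 811244708545)) (.node (.leaf 0) (.leaf 72780455999)))))) (.node (.node (.node (.node (.node (.leaf 0) (.leaf 0)) (.node (.leaf 0) (.leaf 117395161194))) (.node (.node (.leaf 415910633831) (.leaf 0)) (.node (.leaf 405651497308) (.leaf 29519278108)))) (.node (.node (.node (.leaf 340499218735) (.leaf 122248314992)) (.node (.leaf 447862555009) (.leaf 23318204439))) (.node (.node (.leaf 0) (.leaf 568524849647))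 (.node (.leaf 253145338077) (.leaf 0))))) (.node (.node (.node (.node (.leaf 0) (.leaf 0)) (.node (.leaf 0) (.leaf 1042854007717))) (.node (.node (.leaf 191027372200) (.leaf 0)) (.node (.leaf 128020648052) (.leaf 908696949530)))) (.node (.node (.node (.leaf 0) (.leaf 280484307185)) (.node (.leaf 178175201438) (.leaf 0))) (.node (.node (.leaf 167155888280) (.leaf 187085238435)) (.node (.leaf 209019785393) (.leaf 0))))))) (.node (.node (.node (.node (.node (.node (.leaf 0) (.leaf 233147105482)) (.node (.leaf 1060888196019) (.leaf 694216790621))) (.node (.node (.leaf 0) (.leaf 0)) (.node (.leaf 858381017833) (.leaf 0)))) (.node (.node (.node (.leaf 904053584660) (.leaf 0)) (.node (.leaf 0) (.leaf 371687760201))) (.node (.node (.leaf 0) (.leaf 496259924404)) (.node (.leaf 409061630305) (.leaf 0))))) (.node (.node (.node (.node (.leaf 0) (.leaf 127435133044)) (.node (.leaf 870449332978) (.leaf 0))) (.node (.node (.leaf 0) (.leaf 0)) (.node (.leaf 0) (.leaf 0)))) (.node (.node (.node (.leaf 0) (.leaf 940361380664)) (.node (.leaf 732252811896) (.leaf 8781826)))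 (.node (.node (.leaf 825285010129) (.leaf 736636740220)) (.node (.leaf 1026810586007) (.leaf 818734764746)))))) (.node (.node (.node (.node (.node (.leaf 962301797195) (.leaf 0)) (.node (.leaf 332359684387) (.leaf 0))) (.node (.node (.leaf 941460943674) (.leaf 0)) (.node (.leaf 736287437435) (.leaf 192891723946)))) (.node (.node (.node (.leaf 317501227283) (.leaf 893919298317)) (.node (.leaf 744845419138) (.leaf 90471317585))) (.node (.node (.leaf 871041745650) (.leaf 995203130229)) (.node (.leaf 0) (.leaf 12808036366))))) (.node (.node (.node (.node (.leaf 0) (.leaf 950531945284)) (.node (.leaf 0) (.leaf 0))) (.node (.node (.leaf 0) (.leaf 0)) (.node (.leaf 706995724901) (.leaf 167155888280)))) (.node (.node (.node (.leaf 0) (.leaf 504081990076)) (.node (.leaf 868332081904) (.leaf 0))) (.node (.node (.leaf 0) (.leaf 285287235830)) (.node (.leaf 48926785583) (.leaf 0))))))))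

/-- Part of `hintBTwo`. -/
def hintBTwo_p1001 : Tr := .node (.node (.node (.node (.node (.node (.node (.node (.leaf 658045850164) (.leaf 191027372200)) (.node (.leaf 0) (.leaf 1026870604695))) (.node (.node (.leaf 0) (.leaf 0)) (.node (.leaf 0) (.leaf 0)))) (.node (.node (.node (.leaf 0) (.leaf 766263149208)) (.node (.leaf 0) (.leaf 315148321041))) (.node (.node (.leaf 749555470982) (.leaf 0)) (.node (.leaf 1055545279404) (.leaf 7074242573))))) (.node (.node (.node (.node (.leaf 0) (.leaf 865401623277)) (.node (.leaf 0) (.leaf 0))) (.node (.node (.leaf 0) (.leaf 0)) (.node (.leaf 1037924815777) (.leaf 0)))) (.node (.node (.node (.leaf 71162249279) (.leaf 0)) (.node (.leaf 0) (.leaf 986324419437))) (.node (.node (.leaf 0) (.leaf 441452527993)) (.node (.leaf 170131660953) (.leaf 0)))))) (.node (.node (.node (.node (.node (.leaf 0) (.leaf 526414291401)) (.node (.leaf 856398418664) (.leaf 962969473870))) (.node (.node (.leaf 0) (.leaf 673863787081)) (.node (.leaf 794074526388) (.leaf 829852099284)))) (.node (.node (.node (.leaf 642972484135) (.leaf 785991787178))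 (.node (.leaf 479122764194) (.leaf 3237662729))) (.node (.node (.leaf 0) (.leaf 0)) (.node (.leaf 0) (.leaf 366716174663))))) (.node (.node (.node (.node (.leaf 1083601773503) (.leaf 0)) (.node (.leaf 0) (.leaf 0))) (.node (.node (.leaf 0) (.leaf 552861594080)) (.node (.leaf 0) (.leaf 190249119912)))) (.node (.node (.node (.leaf 1029481862040) (.leaf 0)) (.node (.leaf 0) (.leaf 0))) (.node (.node (.leaf 0) (.leaf 0)) (.node (.leaf 425140248944) (.leaf 0))))))) (.node (.node (.node (.node (.node (.node (.leaf 436370497910) (.leaf 0)) (.node (.leaf 558060413412) (.leaf 961270313802))) (.node (.node (.leaf 340028752173) (.leaf 94548058199)) (.node (.leaf 104478425185) (.leaf 0)))) (.node (.node (.node (.leaf 637834125859) (.leaf 216863027386)) (.node (.leaf 0) (.leaf 0))) (.node (.node (.leaf 0) (.leaf 0)) (.node (.leaf 0) (.leaf 739416089214))))) (.node (.node (.node (.node (.leaf 0) (.leaf 0)) (.node (.leaf 798404264634) (.leaf 763459912341))) (.node (.node (.leaf 104737734754) (.leaf 0)) (.node (.leaf 934175593266) (.leaf 0)))) (.node (.node (.node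 (.leaf 0) (.leaf 425466356080)) (.node (.leaf 0) (.leaf 0))) (.node (.node (.leaf 265044816101) (.leaf 694216790621)) (.node (.leaf 0) (.leaf 0)))))) (.node (.node (.node (.node (.node (.leaf 0) (.leaf 149650727052)) (.node (.leaf 81811529800) (.leaf 63726895158))) (.node (.node (.leaf 949303145282) (.leaf 0)) (.node (.leaf 0) (.leaf 0)))) (.node (.node (.node (.leaf 0) (.leaf 0)) (.node (.leaf 0) (.leaf 34392490018))) (.node (.node (.leaf 1081684009919) (.leaf 723241644656)) (.node (.leaf 919779250981) (.leaf 737953022590))))) (.node (.node (.node (.node (.leaf 559562736100) (.leaf 0)) (.node (.leaf 603645305349) (.leaf 0))) (.node (.node (.leaf 486334910892) (.leaf 1058393334701)) (.node (.leaf 0) (.leaf 973884060511)))) (.node (.node (.node (.leaf 418850169193) (.leaf 358390681919)) (.node (.leaf 32265121822) (.leaf 436323795318))) (.node (.node (.leaf 0) (.leaf 941460943674)) (.node (.leaf 931495445294) (.leaf 0)))))))) (.node (.node (.node (.node (.node (.node (.node (.leaf 0) (.leaf 0)) (.node (.leaf 0) (.leaf 0))) (.node (.node (.leaf 573421191665)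 (.leaf 879191556860)) (.node (.leaf 0) (.leaf 998392324985)))) (.node (.node (.node (.leaf 295099392259) (.leaf 727101002356)) (.node (.leaf 118578438251) (.leaf 57896357937))) (.node (.node (.leaf 0) (.leaf 677526008397)) (.node (.leaf 1059559556017) (.leaf 0))))) (.node (.node (.node (.node (.leaf 356095947070) (.leaf 302472831242)) (.node (.leaf 0) (.leaf 408542499168))) (.node (.node (.leaf 0) (.leaf 0)) (.node (.leaf 1003087647614) (.leaf 0)))) (.node (.node (.node (.leaf 164114890899) (.leaf 0)) (.node (.leaf 180977164446) (.leaf 0))) (.node (.node (.leaf 870449332978) (.leaf 0)) (.node (.leaf 0) (.leaf 895910290192)))))) (.node (.node (.node (.node (.node (.leaf 321454551318) (.leaf 929737089837)) (.node (.leaf 0) (.leaf 73003442240))) (.node (.node (.leaf 468492636573) (.leaf 0)) (.node (.leaf 1086419366849) (.leaf 962969473870)))) (.node (.node (.node (.leaf 0) (.leaf 0)) (.node (.leaf 0) (.leaf 924399731498))) (.node (.node (.leaf 0) (.leaf 804814619326)) (.node (.leaf 0) (.leaf 0))))) (.node (.node (.node (.node (.leaf 488090554797) (.leaf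 0)) (.node (.leaf 493557637554) (.leaf 223204769988))) (.node (.node (.leaf 862069359340) (.leaf 0)) (.node (.leaf 920727175973) (.leaf 0)))) (.node (.node (.node (.leaf 873743688438) (.leaf 466570437016)) (.node (.leaf 0) (.leaf 0))) (.node (.node (.leaf 0) (.leaf 838446183134)) (.node (.leaf 615100949006) (.leaf 0))))))) (.node (.node (.node (.node (.node (.node (.leaf 723685130865) (.leaf 678569706062)) (.node (.leaf 0) (.leaf 0))) (.node (.node (.leaf 771564819099) (.leaf 0)) (.node (.leaf 0) (.leaf 587141362171)))) (.node (.node (.node (.leaf 1080124163006) (.leaf 104478425185)) (.node (.leaf 0) (.leaf 0))) (.node (.node (.leaf 42251153448) (.leaf 0)) (.node (.leaf 71093981246) (.leaf 0))))) (.node (.node (.node (.node (.leaf 0) (.leaf 1041080247202)) (.node (.leaf 0) (.leaf 0))) (.node (.node (.leaf 0) (.leaf 0)) (.node (.leaf 0) (.leaf 0)))) (.node (.node (.node (.leaf 825062896336) (.leaf 15120822289)) (.node (.leaf 760656183953) (.leaf 0))) (.node (.node (.leaf 0) (.leaf 0)) (.node (.leaf 0) (.leaf 542526378453)))))) (.node (.node (.node (.node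 (.node (.leaf 263451734244) (.leaf 0)) (.node (.leaf 0) (.leaf 0))) (.node (.node (.leaf 0) (.leaf 558060413412)) (.node (.leaf 0) (.leaf 991608152946)))) (.node (.node (.node (.leaf 7608332301) (.leaf 389401641298)) (.node (.leaf 0) (.leaf 189541367975))) (.node (.node (.leaf 962254938955) (.leaf 671991386696)) (.node (.leaf 0) (.leaf 877885735674))))) (.node (.node (.node (.node (.leaf 711224824423) (.leaf 0)) (.node (.leaf 0) (.leaf 702263468642))) (.node (.node (.leaf 0) (.leaf 801864164027)) (.node (.leaf 0) (.leaf 0)))) (.node (.node (.node (.leaf 0) (.leaf 1042854007717)) (.node (.leaf 0) (.leaf 0))) (.node (.node (.leaf 0) (.leaf 422021505389)) (.node (.leaf 0) (.leaf 0))))))))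

/-- Part of `hintBTwo`. -/
def hintBTwo_p1010 : Tr := .node (.node (.node (.node (.node (.node (.node (.node (.leaf 0) (.leaf 0)) (.node (.leaf 0) (.leaf 0))) (.node (.node (.leaf 0) (.leaf 479122764194)) (.node (.leaf 880237646593) (.leaf 43408904232)))) (.node (.node (.node (.leaf 931459576622) (.leaf 0)) (.node (.leaf 674404217418) (.leaf 744845419138))) (.node (.node (.leaf 995203130229) (.leaf 0)) (.node (.leaf 982231180135) (.leaf 347881500977))))) (.node (.node (.node (.node (.leaf 766782874265) (.leaf 0)) (.node (.leaf 900620718866) (.leaf 292448698625))) (.node (.node (.leaf 0) (.leaf 757109981838)) (.node (.leaf 675171840587) (.leaf 0)))) (.node (.node (.node (.leaf 305860940042) (.leaf 29676425244)) (.node (.leaf 0) (.leaf 655043703342))) (.node (.node (.leaf 532866195918) (.leaf 32769)) (.node (.leaf 354763333949) (.leaf 0)))))) (.node (.node (.node (.node (.node (.leaf 1026534228886) (.leaf 1041080247202)) (.node (.leaf 622046122517) (.leaf 0))) (.node (.node (.leaf 445773017470) (.leaf 335024603432)) (.node (.leaf 1022029423502) (.leaf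 0)))) (.node (.node (.node (.leaf 851509674727) (.leaf 511575007680)) (.node (.leaf 0) (.leaf 195107737770))) (.node (.node (.leaf 517633302981) (.leaf 0)) (.node (.leaf 148946931852) (.leaf 805000352446))))) (.node (.node (.node (.node (.leaf 0) (.leaf 837290078941)) (.node (.leaf 0) (.leaf 947711353664))) (.node (.node (.leaf 0) (.leaf 555041284579)) (.node (.leaf 0) (.leaf 0)))) (.node (.node (.node (.leaf 0) (.leaf 0)) (.node (.leaf 0) (.leaf 438541513080))) (.node (.node (.leaf 0) (.leaf 879394484989)) (.node (.leaf 397075034455) (.leaf 1063474332596))))))) (.node (.node (.node (.node (.node (.node (.leaf 0) (.leaf 0)) (.node (.leaf 13835526158) (.leaf 271665676526))) (.node (.node (.leaf 0) (.leaf 0)) (.node (.leaf 0) (.leaf 311092924685)))) (.node (.node (.node (.leaf 37889822755) (.leaf 407555285341)) (.node (.leaf 287550386426) (.leaf 0))) (.node (.node (.leaf 0) (.leaf 0)) (.node (.leaf 0) (.leaf 933277701))))) (.node (.node (.node (.node (.leaf 98399776860) (.leaf 381310447946)) (.node (.leaf 624546091544) (.leaf 0))) (.node (.node (.leaf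 0) (.leaf 0)) (.node (.leaf 445773017470) (.leaf 0)))) (.node (.node (.node (.leaf 642972484135) (.leaf 0)) (.node (.leaf 0) (.leaf 0))) (.node (.node (.leaf 122038345839) (.leaf 590991458813)) (.node (.leaf 0) (.leaf 0)))))) (.node (.node (.node (.node (.node (.leaf 0) (.leaf 184840540321)) (.node (.leaf 0) (.leaf 16029749266))) (.node (.node (.leaf 841575129824) (.leaf 0)) (.node (.leaf 504801407420) (.leaf 0)))) (.node (.node (.node (.leaf 655043703342) (.leaf 0)) (.node (.leaf 0) (.leaf 0))) (.node (.node (.leaf 265288966374) (.leaf 452442038665)) (.node (.leaf 424309158254) (.leaf 619967050257))))) (.node (.node (.node (.node (.leaf 286329438456) (.leaf 0)) (.node (.leaf 4315295754) (.leaf 0))) (.node (.node (.leaf 0) (.leaf 0)) (.node (.leaf 0) (.leaf 654232838701)))) (.node (.node (.node (.leaf 0) (.leaf 793581642418)) (.node (.leaf 0) (.leaf 159203487891))) (.node (.node (.leaf 774141289117) (.leaf 0)) (.node (.leaf 386144342351) (.leaf 0)))))))) (.node (.node (.node (.node (.node (.node (.node (.leaf 0) (.leaf 485540491691)) (.node (.leaf 0)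 (.leaf 0))) (.node (.node (.leaf 300757963016) (.leaf 931637363502)) (.node (.leaf 37368356898) (.leaf 71420031039)))) (.node (.node (.node (.leaf 1005627683712) (.leaf 950531945284)) (.node (.leaf 0) (.leaf 268356423914))) (.node (.node (.leaf 124503703667) (.leaf 779493442210)) (.node (.leaf 0) (.leaf 0))))) (.node (.node (.node (.node (.leaf 0) (.leaf 1013662831491)) (.node (.leaf 216005013689) (.leaf 37889822755))) (.node (.node (.leaf 322315845910) (.leaf 868332081904)) (.node (.leaf 68521209915) (.leaf 250340667607)))) (.node (.node (.node (.leaf 174086369435) (.leaf 0)) (.node (.leaf 0) (.leaf 0))) (.node (.node (.leaf 509822202303) (.leaf 986211681132)) (.node (.leaf 131149119610) (.leaf 910148293406)))))) (.node (.node (.node (.node (.node (.leaf 939570692918) (.leaf 0)) (.node (.leaf 0) (.leaf 78650626118))) (.node (.node (.leaf 1030134141849) (.leaf 499184153015)) (.node (.leaf 928568779565) (.leaf 0)))) (.node (.node (.node (.leaf 76383801410) (.leaf 118578438251)) (.node (.leaf 0) (.leaf 0))) (.node (.node (.leaf 0) (.leaf 0)) (.node (.leaf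 0) (.leaf 0))))) (.node (.node (.node (.node (.leaf 939570692918) (.leaf 399739445591)) (.node (.leaf 0) (.leaf 0))) (.node (.node (.leaf 0) (.leaf 0)) (.node (.leaf 790038201005) (.leaf 0)))) (.node (.node (.node (.leaf 0) (.leaf 302760513802)) (.node (.leaf 0) (.leaf 657879523891))) (.node (.node (.leaf 0) (.leaf 420218880362)) (.node (.leaf 252019400921) (.leaf 0))))))) (.node (.node (.node (.node (.node (.node (.leaf 988023812975) (.leaf 962417718091)) (.node (.leaf 214665490615) (.leaf 0))) (.node (.node (.leaf 847718892263) (.leaf 730663359094)) (.node (.leaf 0) (.leaf 1018260882312)))) (.node (.node (.node (.leaf 460204605840) (.leaf 15892496401)) (.node (.leaf 992375800691) (.leaf 747806036613))) (.node (.node (.leaf 16536510483) (.leaf 203543130285)) (.node (.leaf 1005573301119) (.leaf 285287235830))))) (.node (.node (.node (.node (.leaf 0) (.leaf 513883120064)) (.node (.leaf 0) (.leaf 365647458631))) (.node (.node (.leaf 0) (.leaf 0)) (.node (.leaf 187085238435) (.leaf 118578438251)))) (.node (.node (.node (.leaf 334212682024) (.leaf 808874721982))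 (.node (.leaf 197181395114) (.leaf 0))) (.node (.node (.leaf 0) (.leaf 102926909535)) (.node (.leaf 636242977313) (.leaf 545813516761)))))) (.node (.node (.node (.node (.node (.leaf 140984057988) (.leaf 563025322471)) (.node (.leaf 0) (.leaf 0))) (.node (.node (.leaf 0) (.leaf 0)) (.node (.leaf 0) (.leaf 0)))) (.node (.node (.node (.leaf 0) (.leaf 671439888967)) (.node (.leaf 0) (.leaf 86144557133))) (.node (.node (.leaf 187043328162) (.leaf 349002502451)) (.node (.leaf 0) (.leaf 1029872866201))))) (.node (.node (.node (.node (.leaf 0) (.leaf 0)) (.node (.leaf 572584399345) (.leaf 0))) (.node (.node (.leaf 879374177020) (.leaf 918871356197)) (.node (.leaf 223005720771) (.leaf 601407418882)))) (.node (.node (.node (.leaf 0) (.leaf 0)) (.node (.leaf 462058914193) (.leaf 538895811028))) (.node (.node (.leaf 0) (.leaf 0)) (.node (.leaf 0) (.leaf 0))))))))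

/-- Part of `hintBTwo`. -/
def hintBTwo_p1011 : Tr := .node (.node (.node (.node (.node (.node (.node (.node (.leaf 327418384666) (.leaf 440782934392)) (.node (.leaf 970350064474) (.leaf 777247609504))) (.node (.node (.leaf 363917328707) (.leaf 422832386414)) (.node (.leaf 1084487381952) (.leaf 0)))) (.node (.node (.node (.leaf 911853503265) (.leaf 0)) (.node (.leaf 267671642345) (.leaf 0))) (.node (.node (.leaf 880493290242) (.leaf 118278680683)) (.node (.leaf 1073927361464) (.leaf 0))))) (.node (.node (.node (.node (.leaf 728502907509) (.leaf 605944902151)) (.node (.leaf 0) (.leaf 0))) (.node (.node (.leaf 0) (.leaf 31142617117)) (.node (.leaf 480604811685) (.leaf 0)))) (.node (.node (.node (.leaf 109552631911) (.leaf 929815642925)) (.node (.leaf 0) (.leaf 0))) (.node (.node (.leaf 0) (.leaf 131907084412)) (.node (.leaf 0) (.leaf 1055410095019)))))) (.node (.node (.node (.node (.node (.leaf 0) (.leaf 1080181253054)) (.node (.leaf 0) (.leaf 0))) (.node (.node (.leaf 467760046490) (.leaf 0)) (.node (.leaf 0) (.leaf 0)))) (.node (.node (.node (.leaf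 1032264745883) (.leaf 772577071773)) (.node (.leaf 0) (.leaf 1032264745883))) (.node (.node (.leaf 892027519755) (.leaf 0)) (.node (.leaf 430381109621) (.leaf 0))))) (.node (.node (.node (.node (.leaf 441452527993) (.leaf 0)) (.node (.leaf 690147193436) (.leaf 65440006200))) (.node (.node (.leaf 501546226105) (.leaf 0)) (.node (.leaf 607894946312) (.leaf 620924912146)))) (.node (.node (.node (.leaf 0) (.leaf 1094613423049)) (.node (.leaf 0) (.leaf 674021388873))) (.node (.node (.leaf 0) (.leaf 811220288192)) (.node (.leaf 0) (.leaf 669417398850))))))) (.node (.node (.node (.node (.node (.node (.leaf 124012327026) (.leaf 856698356456)) (.node (.leaf 409061630305) (.leaf 182777839774))) (.node (.node (.leaf 0) (.leaf 0)) (.node (.leaf 0) (.leaf 0)))) (.node (.node (.node (.leaf 1053387547563) (.leaf 1007460295554)) (.node (.leaf 879374177020) (.leaf 25039675418))) (.node (.node (.leaf 602489086468) (.leaf 0)) (.node (.leaf 879172080379) (.leaf 1039209030561))))) (.node (.node (.node (.node (.leaf 222328938690) (.leaf 758202094223)) (.node (.leaf 0) (.leaf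 349002502451))) (.node (.node (.leaf 0) (.leaf 832435700439)) (.node (.leaf 615277756943) (.leaf 0)))) (.node (.node (.node (.leaf 1086809019330) (.leaf 1058393334701)) (.node (.leaf 898969727762) (.leaf 0))) (.node (.node (.leaf 0) (.leaf 896362623760)) (.node (.leaf 0) (.leaf 203938242734)))))) (.node (.node (.node (.node (.node (.leaf 317567525140) (.leaf 1042854007717)) (.node (.leaf 0) (.leaf 0))) (.node (.node (.leaf 962417718091) (.leaf 0)) (.node (.leaf 401697395034) (.leaf 214864367799)))) (.node (.node (.node (.leaf 0) (.leaf 685293322840)) (.node (.leaf 0) (.leaf 583751008759))) (.node (.node (.leaf 1039209030561) (.leaf 0)) (.node (.leaf 873480946422) (.leaf 0))))) (.node (.node (.node (.node (.leaf 180977164446) (.leaf 0)) (.node (.leaf 0) (.leaf 0))) (.node (.node (.leaf 217819156666) (.leaf 0)) (.node (.leaf 65440006200) (.leaf 1025008460688)))) (.node (.node (.node (.leaf 908373132057) (.leaf 0)) (.node (.leaf 0) (.leaf 0))) (.node (.node (.leaf 808382051006) (.leaf 409129259361)) (.node (.leaf 0) (.leaf 0)))))))) (.node (.node (.node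 (.node (.node (.node (.node (.leaf 0) (.leaf 664458625595)) (.node (.leaf 75100139586) (.leaf 0))) (.node (.node (.leaf 0) (.leaf 687810466395)) (.node (.leaf 594460369406) (.leaf 724723577459)))) (.node (.node (.node (.leaf 68023840825) (.leaf 0)) (.node (.leaf 526414291401) (.leaf 879172080379))) (.node (.node (.leaf 0) (.leaf 919986856741)) (.node (.leaf 0) (.leaf 0))))) (.node (.node (.node (.node (.leaf 0) (.leaf 0)) (.node (.leaf 368896237895) (.leaf 0))) (.node (.node (.leaf 790038201005) (.leaf 684403417686)) (.node (.leaf 0) (.leaf 104866578531)))) (.node (.node (.node (.leaf 0) (.leaf 14192513038)) (.node (.leaf 1018882798473) (.leaf 0))) (.node (.node (.leaf 409061630305) (.leaf 841373045472)) (.node (.leaf 264356950244) (.leaf 658045850164)))))) (.node (.node (.node (.node (.node (.leaf 0) (.leaf 0)) (.node (.leaf 923384742697) (.leaf 0))) (.node (.node (.leaf 0) (.leaf 0)) (.node (.leaf 241696334028) (.leaf 0)))) (.node (.node (.node (.leaf 738775032446) (.leaf 0)) (.node (.leaf 987617903470) (.leaf 0))) (.node (.node (.leaf 988834927472)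 (.leaf 54971043888)) (.node (.leaf 474133692831) (.leaf 669658448451))))) (.node (.node (.node (.node (.leaf 352383918392) (.leaf 569135673839)) (.node (.leaf 0) (.leaf 204341797040))) (.node (.node (.leaf 714789483115) (.leaf 170131660953)) (.node (.leaf 307882197259) (.leaf 0)))) (.node (.node (.node (.leaf 862069359340) (.leaf 0)) (.node (.leaf 0) (.leaf 890701902602))) (.node (.node (.leaf 0) (.leaf 790295016110)) (.node (.leaf 0) (.leaf 0))))))) (.node (.node (.node (.node (.node (.node (.leaf 0) (.leaf 219877609663)) (.node (.leaf 152408400015) (.leaf 0))) (.node (.node (.leaf 618280272400) (.leaf 0)) (.node (.leaf 0) (.leaf 0)))) (.node (.node (.node (.leaf 0) (.leaf 494345245107)) (.node (.leaf 488871481773) (.leaf 0))) (.node (.node (.leaf 0) (.leaf 0)) (.node (.leaf 121637036142) (.leaf 0))))) (.node (.node (.node (.node (.leaf 857041380072) (.leaf 981776089957)) (.node (.leaf 0) (.leaf 0))) (.node (.node (.leaf 673863787081) (.leaf 1040245191585)) (.node (.leaf 725544989299) (.leaf 0)))) (.node (.node (.node (.leaf 0) (.leaf 1096906707916))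 (.node (.leaf 0) (.leaf 0))) (.node (.node (.leaf 807344132798) (.leaf 1017523184518)) (.node (.leaf 0) (.leaf 165170917524)))))) (.node (.node (.node (.node (.node (.leaf 1071605851063) (.leaf 171033399450)) (.node (.leaf 0) (.leaf 0))) (.node (.node (.leaf 0) (.leaf 0)) (.node (.leaf 0) (.leaf 701866603106)))) (.node (.node (.node (.leaf 0) (.leaf 510818226624)) (.node (.leaf 501546226105) (.leaf 163786928275))) (.node (.node (.leaf 0) (.leaf 0)) (.node (.leaf 129872097400) (.leaf 287550386426))))) (.node (.node (.node (.node (.leaf 0) (.leaf 543084356054)) (.node (.leaf 534232289743) (.leaf 0))) (.node (.node (.leaf 628994757147) (.leaf 0)) (.node (.leaf 32071401502) (.leaf 348995785010)))) (.node (.node (.node (.leaf 0) (.leaf 630026498589)) (.node (.leaf 453931663755) (.leaf 0))) (.node (.node (.leaf 460257780113) (.leaf 474297033120)) (.node (.leaf 962574721868) (.leaf 0))))))))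

/-- Part of `hintBTwo`. -/
def hintBTwo_p1100 : Tr := .node (.node (.node (.node (.node (.node (.node (.node (.leaf 72803860544) (.leaf 0)) (.node (.leaf 1035716051869) (.leaf 0))) (.node (.node (.leaf 0) (.leaf 0)) (.node (.leaf 104478425185) (.leaf 0)))) (.node (.node (.node (.leaf 190488584360) (.leaf 205113831600)) (.node (.leaf 184675537056) (.leaf 825742459602))) (.node (.node (.leaf 852155482855) (.leaf 608353964552)) (.node (.leaf 0) (.leaf 0))))) (.node (.node (.node (.node (.leaf 0) (.leaf 0)) (.node (.leaf 0) (.leaf 0))) (.node (.node (.leaf 408930722144) (.leaf 0)) (.node (.leaf 0) (.leaf 31777648670)))) (.node (.node (.node (.leaf 0) (.leaf 0)) (.node (.leaf 0) (.leaf 0))) (.node (.node (.leaf 0) (.leaf 503921938876)) (.node (.leaf 0) (.leaf 0)))))) (.node (.node (.node (.node (.node (.leaf 54689099824) (.leaf 909315285788)) (.node (.leaf 369411174729) (.leaf 0))) (.node (.node (.leaf 0) (.leaf 354570289467)) (.node (.leaf 872318206709) (.leaf 0)))) (.node (.node (.node (.leaf 1039209030561) (.leaf 0)) (.node (.leaf 811084153535) (.leaf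 902310601491))) (.node (.node (.leaf 793455284914) (.leaf 0)) (.node (.leaf 0) (.leaf 541896786389))))) (.node (.node (.node (.node (.leaf 162171441299) (.leaf 0)) (.node (.leaf 0) (.leaf 0))) (.node (.node (.leaf 0) (.leaf 208215982257)) (.node (.leaf 0) (.leaf 72185319487)))) (.node (.node (.node (.leaf 0) (.leaf 992927314804)) (.node (.leaf 696464745054) (.leaf 0))) (.node (.node (.leaf 425466356080) (.leaf 438561587576)) (.node (.leaf 724723577459) (.leaf 0))))))) (.node (.node (.node (.node (.node (.node (.leaf 266432323815) (.leaf 0)) (.node (.leaf 0) (.leaf 0))) (.node (.node (.leaf 223001641154) (.leaf 0)) (.node (.leaf 0) (.leaf 265089548518)))) (.node (.node (.node (.leaf 963278324560) (.leaf 526414291401)) (.node (.leaf 0) (.leaf 0))) (.node (.node (.leaf 485540491691) (.leaf 737953022590)) (.node (.leaf 369176412488) (.leaf 0))))) (.node (.node (.node (.node (.leaf 0) (.leaf 422832386414)) (.node (.leaf 0) (.leaf 0))) (.node (.node (.leaf 0) (.leaf 366716174663)) (.node (.leaf 17930162196) (.leaf 388306420048)))) (.node (.node (.node (.leaf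 0) (.leaf 0)) (.node (.leaf 829964333780) (.leaf 250392584407))) (.node (.node (.leaf 847042122470) (.leaf 490202726829)) (.node (.leaf 0) (.leaf 135895076993)))))) (.node (.node (.node (.node (.node (.leaf 479219823010) (.leaf 0)) (.node (.leaf 0) (.leaf 31471472670))) (.node (.node (.leaf 0) (.leaf 0)) (.node (.leaf 61804331061) (.leaf 0)))) (.node (.node (.node (.leaf 0) (.leaf 0)) (.node (.leaf 83577167946) (.leaf 188785733797))) (.node (.node (.leaf 0) (.leaf 583528182263)) (.node (.leaf 0) (.leaf 0))))) (.node (.node (.node (.node (.leaf 15892496401) (.leaf 364514369859)) (.node (.leaf 0) (.leaf 1025061594001))) (.node (.node (.leaf 170131660953) (.leaf 1043029509032)) (.node (.leaf 1184378887) (.leaf 768150143642)))) (.node (.node (.node (.leaf 0) (.leaf 521337319879)) (.node (.leaf 51433594928) (.leaf 0))) (.node (.node (.leaf 1084764537792) (.leaf 0)) (.node (.leaf 644693729831) (.leaf 0)))))))) (.node (.node (.node (.node (.node (.node (.node (.leaf 913911526178) (.leaf 779493442210)) (.node (.leaf 0) (.leaf 259494158560))) (.node (.node (.leaf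 0) (.leaf 901134975762)) (.node (.leaf 1080181253054) (.leaf 1084487381952)))) (.node (.node (.node (.leaf 582731506167) (.leaf 0)) (.node (.leaf 0) (.leaf 0))) (.node (.node (.leaf 0) (.leaf 29519278108)) (.node (.leaf 747597394564) (.leaf 494293864883))))) (.node (.node (.node (.node (.leaf 0) (.leaf 509822202303)) (.node (.leaf 412792721764) (.leaf 113992663145))) (.node (.node (.leaf 0) (.leaf 498490790327)) (.node (.leaf 1011799933827) (.leaf 85885382732)))) (.node (.node (.node (.leaf 480399376805) (.leaf 0)) (.node (.leaf 762620326546) (.leaf 0))) (.node (.node (.leaf 0) (.leaf 525995495880)) (.node (.leaf 408930722144) (.leaf 852322693863)))))) (.node (.node (.node (.node (.node (.leaf 0) (.leaf 0)) (.node (.leaf 736961987197) (.leaf 197735792811))) (.node (.node (.leaf 0) (.leaf 564917465579)) (.node (.leaf 0) (.leaf 0)))) (.node (.node (.node (.leaf 0) (.leaf 184840540321)) (.node (.leaf 452442038665) (.leaf 776465420959))) (.node (.node (.leaf 0) (.leaf 62772056118)) (.node (.leaf 191027372200) (.leaf 0))))) (.node (.node (.node (.node (.leaf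 357775802687) (.leaf 0)) (.node (.leaf 247787057365) (.leaf 74484908097))) (.node (.node (.leaf 0) (.leaf 0)) (.node (.leaf 607894946312) (.leaf 579372024308)))) (.node (.node (.node (.leaf 0) (.leaf 0)) (.node (.leaf 426353107315) (.leaf 0))) (.node (.node (.leaf 430828274037) (.leaf 895910290192)) (.node (.leaf 0) (.leaf 0))))))) (.node (.node (.node (.node (.node (.node (.leaf 860954079979) (.leaf 0)) (.node (.leaf 0) (.leaf 283909738742))) (.node (.node (.leaf 156647448722) (.leaf 1088891208644)) (.node (.leaf 0) (.leaf 0)))) (.node (.node (.node (.leaf 0) (.leaf 183626289311)) (.node (.leaf 0) (.leaf 191982588074))) (.node (.node (.leaf 0) (.leaf 0)) (.node (.leaf 541985853909) (.leaf 0))))) (.node (.node (.node (.node (.leaf 104866578531) (.leaf 921917936422)) (.node (.leaf 0) (.leaf 0))) (.node (.node (.leaf 785755124392) (.leaf 939570692918)) (.node (.leaf 0) (.leaf 504801407420)))) (.node (.node (.node (.leaf 55608680496) (.leaf 0)) (.node (.leaf 0) (.leaf 0))) (.node (.node (.leaf 0) (.leaf 0)) (.node (.leaf 1055410095019) (.leaf 0)))))) (.node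 (.node (.node (.node (.node (.leaf 586051588603) (.leaf 0)) (.node (.leaf 923384742697) (.leaf 420218818921))) (.node (.node (.leaf 0) (.leaf 0)) (.node (.leaf 0) (.leaf 669417398850)))) (.node (.node (.node (.leaf 23216267287) (.leaf 0)) (.node (.leaf 0) (.leaf 730663359094))) (.node (.node (.leaf 0) (.leaf 0)) (.node (.leaf 0) (.leaf 0))))) (.node (.node (.node (.node (.leaf 0) (.leaf 0)) (.node (.leaf 813269803715) (.leaf 792527307440))) (.node (.node (.leaf 0) (.leaf 764256526999)) (.node (.leaf 0) (.leaf 0)))) (.node (.node (.node (.leaf 1076366517178) (.leaf 363917328707)) (.node (.leaf 815133024964) (.leaf 0))) (.node (.node (.leaf 0) (.leaf 0)) (.node (.leaf 0) (.leaf 0))))))))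

/-- Part of `hintBTwo`. -/
def hintBTwo_p1101 : Tr := .node (.node (.node (.node (.node (.node (.node (.node (.leaf 475667071393) (.leaf 11550470158)) (.node (.leaf 0) (.leaf 514333925824))) (.node (.node (.leaf 0) (.leaf 852092179175)) (.node (.leaf 0) (.leaf 0)))) (.node (.node (.node (.leaf 571726864880) (.leaf 632612639263)) (.node (.leaf 0) (.leaf 11550470158))) (.node (.node (.leaf 0) (.leaf 8781826)) (.node (.leaf 299676352773) (.leaf 0))))) (.node (.node (.node (.node (.leaf 816138306246) (.leaf 0)) (.node (.leaf 178174873758) (.leaf 128220246134))) (.node (.node (.leaf 971451872091) (.leaf 0)) (.node (.leaf 241696334028) (.leaf 0)))) (.node (.node (.node (.leaf 11550470158) (.leaf 0)) (.node (.leaf 444063334782) (.leaf 0))) (.node (.node (.leaf 0) (.leaf 0)) (.node (.leaf 0) (.leaf 0)))))) (.node (.node (.node (.node (.node (.leaf 309596999948) (.leaf 1075658011577)) (.node (.leaf 0) (.leaf 0))) (.node (.node (.leaf 683163460182) (.leaf 1042187645860)) (.node (.leaf 528986243532) (.leaf 287283966201)))) (.node (.node (.node (.leaf 223799525572)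 (.leaf 48926785583)) (.node (.leaf 914398577443) (.leaf 830859530966))) (.node (.node (.leaf 909318026012) (.leaf 335024603432)) (.node (.leaf 267671642345) (.leaf 0))))) (.node (.node (.node (.node (.leaf 0) (.leaf 1098636534735)) (.node (.leaf 460204605840) (.leaf 702247039586))) (.node (.node (.leaf 365851869511) (.leaf 0)) (.node (.leaf 0) (.leaf 0)))) (.node (.node (.node (.leaf 0) (.leaf 0)) (.node (.leaf 414566310245) (.leaf 0))) (.node (.node (.leaf 0) (.leaf 425830916465)) (.node (.leaf 1040245191585) (.leaf 462383432081))))))) (.node (.node (.node (.node (.node (.node (.leaf 351252320565) (.leaf 137251582082)) (.node (.leaf 0) (.leaf 0))) (.node (.node (.leaf 895910290192) (.leaf 0)) (.node (.leaf 793422938801) (.leaf 0)))) (.node (.node (.node (.leaf 0) (.leaf 793422938801)) (.node (.leaf 80521814088) (.leaf 130451370105))) (.node (.node (.leaf 0) (.leaf 0)) (.node (.leaf 0) (.leaf 177164316829))))) (.node (.node (.node (.node (.leaf 616648598031) (.leaf 501524947385)) (.node (.leaf 400032416088) (.leaf 311858503951))) (.node (.node (.leaf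 81353334856) (.leaf 892272771851)) (.node (.leaf 0) (.leaf 639148040739)))) (.node (.node (.node (.leaf 0) (.leaf 884873646852)) (.node (.leaf 712307700328) (.leaf 67247566905))) (.node (.node (.leaf 295099392259) (.leaf 388306420048)) (.node (.leaf 0) (.leaf 0)))))) (.node (.node (.node (.node (.node (.leaf 102165307486) (.leaf 0)) (.node (.leaf 499184153015) (.leaf 0))) (.node (.node (.leaf 0) (.leaf 0)) (.node (.leaf 0) (.leaf 976881804130)))) (.node (.node (.node (.leaf 949536981826) (.leaf 371856646473)) (.node (.leaf 0) (.leaf 796031533751))) (.node (.node (.leaf 658113475124) (.leaf 373424075081)) (.node (.leaf 170410766489) (.leaf 402075246938))))) (.node (.node (.node (.node (.leaf 0) (.leaf 782565876387)) (.node (.leaf 0) (.leaf 779691057827))) (.node (.node (.leaf 0) (.leaf 0)) (.node (.leaf 630066074141) (.leaf 0)))) (.node (.node (.node (.leaf 0) (.leaf 379936293194)) (.node (.leaf 0) (.leaf 743086133886))) (.node (.node (.leaf 906285687574) (.leaf 982961795943)) (.node (.leaf 281863909618) (.leaf 0)))))))) (.node (.node (.node (.node (.node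 (.node (.node (.leaf 501189755321) (.leaf 918696256293)) (.node (.leaf 767951291034) (.leaf 547370623454))) (.node (.node (.leaf 481722634662) (.leaf 685175898712)) (.node (.leaf 866518631150) (.leaf 772127789724)))) (.node (.node (.node (.leaf 0) (.leaf 1041441035171)) (.node (.leaf 730685141623) (.leaf 911682933536))) (.node (.node (.leaf 1026189521813) (.leaf 0)) (.node (.leaf 872318206709) (.leaf 0))))) (.node (.node (.node (.node (.leaf 0) (.leaf 919779250981)) (.node (.leaf 0) (.leaf 246551584975))) (.node (.node (.leaf 386144342351) (.leaf 0)) (.node (.leaf 0) (.leaf 311092924685)))) (.node (.node (.node (.leaf 285835677942) (.leaf 0)) (.node (.leaf 0) (.leaf 162376130707))) (.node (.node (.leaf 585474347515) (.leaf 901256827666)) (.node (.leaf 0) (.leaf 1048371282858)))))) (.node (.node (.node (.node (.node (.leaf 0) (.leaf 0)) (.node (.leaf 0) (.leaf 0))) (.node (.node (.leaf 390776734034) (.leaf 950270358339)) (.node (.leaf 0) (.leaf 0)))) (.node (.node (.node (.leaf 426105500017) (.leaf 0)) (.node (.leaf 191040487592) (.leaf 916209152804)))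 (.node (.node (.leaf 0) (.leaf 0)) (.node (.leaf 0) (.leaf 0))))) (.node (.node (.node (.node (.leaf 426235216242) (.leaf 959831417673)) (.node (.leaf 0) (.leaf 0))) (.node (.node (.leaf 0) (.leaf 0)) (.node (.leaf 0) (.leaf 954842850119)))) (.node (.node (.node (.leaf 481722634662) (.leaf 0)) (.node (.leaf 1048539706283) (.leaf 739416089214))) (.node (.node (.leaf 0) (.leaf 0)) (.node (.leaf 339108053292) (.leaf 11500376078))))))) (.node (.node (.node (.node (.node (.node (.leaf 1087147324354) (.leaf 0)) (.node (.leaf 0) (.leaf 0))) (.node (.node (.leaf 749008040581) (.leaf 0)) (.node (.leaf 714388640362) (.leaf 963625964369)))) (.node (.node (.node (.leaf 0) (.leaf 204341797040)) (.node (.leaf 0) (.leaf 302760513802))) (.node (.node (.leaf 0) (.leaf 0)) (.node (.leaf 1031723193242) (.leaf 95988965467))))) (.node (.node (.node (.node (.leaf 0) (.leaf 791308415664)) (.node (.leaf 771994718875) (.leaf 929737089837))) (.node (.node (.leaf 750826332806) (.leaf 931637363502)) (.node (.leaf 0) (.leaf 166668275862)))) (.node (.node (.node (.leaf 0) (.leaf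 0)) (.node (.leaf 883772764931) (.leaf 736287437435))) (.node (.node (.leaf 0) (.leaf 0)) (.node (.leaf 788893926060) (.leaf 0)))))) (.node (.node (.node (.node (.node (.leaf 0) (.leaf 350988947764)) (.node (.leaf 0) (.leaf 7074242573))) (.node (.node (.leaf 67247566905) (.leaf 0)) (.node (.leaf 880971621122) (.leaf 876074767095)))) (.node (.node (.node (.leaf 0) (.leaf 391348384082)) (.node (.leaf 0) (.leaf 911844987680))) (.node (.node (.leaf 0) (.leaf 0)) (.node (.leaf 267671642345) (.leaf 963625964369))))) (.node (.node (.node (.node (.leaf 42251153448) (.leaf 1033207100316)) (.node (.leaf 568524849647) (.leaf 367185981767))) (.node (.node (.leaf 0) (.leaf 736961987197)) (.node (.leaf 607145284103) (.leaf 1040366224290)))) (.node (.node (.node (.leaf 149869322382) (.leaf 191982588074)) (.node (.leaf 0) (.leaf 0))) (.node (.node (.leaf 841794716384) (.leaf 64096391223)) (.node (.leaf 962969473870) (.leaf 0))))))))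

/-- Part of `hintBTwo`. -/
def hintBTwo_p1110 : Tr := .node (.node (.node (.node (.node (.node (.node (.node (.leaf 0) (.leaf 0)) (.node (.leaf 664077988410) (.leaf 268396237035))) (.node (.node (.leaf 0) (.leaf 919986856741)) (.node (.leaf 644693729831) (.leaf 0)))) (.node (.node (.node (.leaf 554003337697) (.leaf 253145338077)) (.node (.leaf 0) (.leaf 609531777546))) (.node (.node (.leaf 291593740544) (.leaf 0)) (.node (.leaf 962663105357) (.leaf 905063523094))))) (.node (.node (.node (.node (.leaf 0) (.leaf 281390162162)) (.node (.leaf 0) (.leaf 149869322382))) (.node (.node (.leaf 76389154883) (.leaf 128220246134)) (.node (.leaf 261929586915) (.leaf 145284001928)))) (.node (.node (.node (.leaf 941521089339) (.leaf 0)) (.node (.leaf 0) (.leaf 0))) (.node (.node (.leaf 919986856741) (.leaf 309491867916)) (.node (.leaf 0) (.leaf 1070484100021)))))) (.node (.node (.node (.node (.node (.leaf 145899708553) (.leaf 0)) (.node (.leaf 710226387558) (.leaf 0))) (.node (.node (.leaf 602734576133) (.leaf 577442849266)) (.node (.leaf 361822855490) (.leaf 841794716384))))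 (.node (.node (.node (.leaf 0) (.leaf 0)) (.node (.leaf 0) (.leaf 0))) (.node (.node (.leaf 558060413412) (.leaf 757179835022)) (.node (.leaf 193522839722) (.leaf 510810935743))))) (.node (.node (.node (.node (.leaf 0) (.leaf 0)) (.node (.leaf 678569706062) (.leaf 0))) (.node (.node (.leaf 790774133423) (.leaf 0)) (.node (.leaf 0) (.leaf 72031547455)))) (.node (.node (.node (.leaf 0) (.leaf 918548448036)) (.node (.leaf 0) (.leaf 0))) (.node (.node (.leaf 0) (.leaf 350988947764)) (.node (.leaf 911853503265) (.leaf 0))))))) (.node (.node (.node (.node (.node (.node (.leaf 0) (.leaf 614964711950)) (.node (.leaf 137141432450) (.leaf 312057676047))) (.node (.node (.leaf 0) (.leaf 852155482855)) (.node (.leaf 904514351893) (.leaf 1025275220883)))) (.node (.node (.node (.leaf 163142590611) (.leaf 0)) (.node (.leaf 0) (.leaf 0))) (.node (.node (.leaf 88411451470) (.leaf 377393369418)) (.node (.leaf 1008528225154) (.leaf 0))))) (.node (.node (.node (.node (.leaf 0) (.leaf 1017285657477)) (.node (.leaf 0) (.leaf 188906279078))) (.node (.node (.leaf 0) (.leaf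 881647641346)) (.node (.leaf 908373132057) (.leaf 0)))) (.node (.node (.node (.leaf 0) (.leaf 872634393333)) (.node (.leaf 563199414760) (.leaf 33769644065))) (.node (.node (.leaf 957094388552) (.leaf 299622707460)) (.node (.leaf 723909390961) (.leaf 291784147200)))))) (.node (.node (.node (.node (.node (.leaf 615277756943) (.leaf 191692386472)) (.node (.leaf 0) (.leaf 137251582082))) (.node (.node (.leaf 0) (.leaf 0)) (.node (.leaf 0) (.leaf 0)))) (.node (.node (.node (.leaf 0) (.leaf 656508166705)) (.node (.leaf 0) (.leaf 0))) (.node (.node (.leaf 62772056118) (.leaf 820326429388)) (.node (.leaf 870449332978) (.leaf 75759579202))))) (.node (.node (.node (.node (.leaf 974358561632) (.leaf 0)) (.node (.leaf 227505946821) (.leaf 605564363270))) (.node (.node (.leaf 704050586210) (.leaf 0)) (.node (.leaf 0) (.leaf 185603264673)))) (.node (.node (.node (.leaf 793581642418) (.leaf 0)) (.node (.leaf 949035021121) (.leaf 987817653103))) (.node (.node (.leaf 0) (.leaf 0)) (.node (.leaf 502783357371) (.leaf 0)))))))) (.node (.node (.node (.node (.node (.node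 (.node (.leaf 311858503951) (.leaf 0)) (.node (.leaf 0) (.leaf 893766910733))) (.node (.node (.leaf 14192513038) (.leaf 0)) (.node (.leaf 332880343334) (.leaf 0)))) (.node (.node (.node (.leaf 768150143642) (.leaf 611980513803)) (.node (.leaf 391348384082) (.leaf 0))) (.node (.node (.leaf 23197859862) (.leaf 185603264673)) (.node (.leaf 0) (.leaf 0))))) (.node (.node (.node (.node (.leaf 1036227847070) (.leaf 451847242121)) (.node (.leaf 154634801298) (.leaf 935473115955))) (.node (.node (.leaf 190488584360) (.leaf 252406132954)) (.node (.leaf 0) (.leaf 0)))) (.node (.node (.node (.leaf 238526369994) (.leaf 458810397071)) (.node (.leaf 1026810586007) (.leaf 0))) (.node (.node (.leaf 1086809019330) (.leaf 0)) (.node (.leaf 637834125859) (.leaf 0)))))) (.node (.node (.node (.node (.node (.leaf 0) (.leaf 0)) (.node (.leaf 0) (.leaf 0))) (.node (.node (.leaf 613066682891) (.leaf 981776089957)) (.node (.leaf 0) (.leaf 0)))) (.node (.node (.node (.leaf 821361607375) (.leaf 1090517898183)) (.node (.leaf 1011799933827) (.leaf 0))) (.node (.node (.leaf 311754117390)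 (.leaf 0)) (.node (.leaf 0) (.leaf 0))))) (.node (.node (.node (.node (.leaf 0) (.leaf 989689783152)) (.node (.leaf 0) (.leaf 994420724596))) (.node (.node (.leaf 462058914193) (.leaf 0)) (.node (.leaf 51394707503) (.leaf 718053229165)))) (.node (.node (.node (.leaf 833197875929) (.leaf 16536510483)) (.node (.leaf 24569098265) (.leaf 700959072865))) (.node (.node (.leaf 0) (.leaf 676619256397)) (.node (.leaf 601607102979) (.leaf 0))))))) (.node (.node (.node (.node (.node (.node (.leaf 0) (.leaf 369176412488)) (.node (.leaf 0) (.leaf 462638236050))) (.node (.node (.leaf 909135692571) (.leaf 0)) (.node (.leaf 0) (.leaf 0)))) (.node (.node (.node (.leaf 396922532183) (.leaf 1055793595308)) (.node (.leaf 1034495075229) (.leaf 199213945004))) (.node (.node (.leaf 941592355644) (.leaf 736287437435)) (.node (.leaf 0) (.leaf 0))))) (.node (.node (.node (.node (.leaf 0) (.leaf 282844205300)) (.node (.leaf 0) (.leaf 263205523684))) (.node (.node (.leaf 0) (.leaf 0)) (.node (.leaf 122248314992) (.leaf 0)))) (.node (.node (.node (.leaf 0) (.leaf 37889822755))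 (.node (.leaf 295099392259) (.leaf 0))) (.node (.node (.leaf 481999626664) (.leaf 314154164497)) (.node (.leaf 0) (.leaf 1068801950645)))))) (.node (.node (.node (.node (.node (.leaf 628116615706) (.leaf 906567856918)) (.node (.leaf 995474969462) (.leaf 0))) (.node (.node (.leaf 170131660953) (.leaf 61402681397)) (.node (.leaf 169477972120) (.leaf 1093301031881)))) (.node (.node (.node (.leaf 222382350530) (.leaf 0)) (.node (.leaf 501103354297) (.leaf 0))) (.node (.node (.leaf 775476388510) (.leaf 525995495880)) (.node (.leaf 0) (.leaf 0))))) (.node (.node (.node (.node (.leaf 0) (.leaf 341578846511)) (.node (.leaf 1089764012998) (.leaf 146551189642))) (.node (.node (.leaf 0) (.leaf 0)) (.node (.leaf 290246508799) (.leaf 941592355644)))) (.node (.node (.node (.leaf 0) (.leaf 425830916465)) (.node (.leaf 0) (.leaf 584817304057))) (.node (.node (.leaf 777247609504) (.leaf 375904887114)) (.node (.leaf 1003449602942) (.leaf 0))))))))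

/-- Part of `hintBTwo`. -/
def hintBTwo_p1111 : Tr := .node (.node (.node (.node (.node (.node (.node (.node (.leaf 0) (.leaf 387227554128)) (.node (.leaf 402075246938) (.leaf 0))) (.node (.node (.leaf 349287477555) (.leaf 706384863843)) (.node (.leaf 0) (.leaf 261929586915)))) (.node (.node (.node (.leaf 287283966201) (.leaf 802402923195)) (.node (.leaf 0) (.leaf 1005472035710))) (.node (.node (.leaf 140984078469) (.leaf 0)) (.node (.leaf 0) (.leaf 0))))) (.node (.node (.node (.node (.leaf 0) (.leaf 679358431826)) (.node (.leaf 0) (.leaf 183796842655))) (.node (.node (.leaf 0) (.leaf 0)) (.node (.leaf 949816529730) (.leaf 0)))) (.node (.node (.node (.leaf 0) (.leaf 604698210821)) (.node (.leaf 0) (.leaf 280484307185))) (.node (.node (.leaf 0) (.leaf 0)) (.node (.leaf 229371941063) (.leaf 0)))))) (.node (.node (.node (.node (.node (.leaf 510810935743) (.leaf 66350100537)) (.node (.leaf 0) (.leaf 0))) (.node (.node (.leaf 1014664561540) (.leaf 178175201438)) (.node (.leaf 0) (.leaf 0)))) (.node (.node (.node (.leaf 0) (.leaf 388470976848)) (.node (.leaf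 457356218766) (.leaf 0))) (.node (.node (.leaf 1083521328063) (.leaf 0)) (.node (.leaf 197181395114) (.leaf 838446183134))))) (.node (.node (.node (.node (.leaf 0) (.leaf 901256827666)) (.node (.leaf 215345688761) (.leaf 790774133423))) (.node (.node (.leaf 17923018772) (.leaf 0)) (.node (.leaf 204108243119) (.leaf 0)))) (.node (.node (.node (.leaf 1060888196019) (.leaf 337443807530)) (.node (.leaf 510818226624) (.leaf 0))) (.node (.node (.leaf 135895076993) (.leaf 794133725877)) (.node (.leaf 28483371036) (.leaf 0))))))) (.node (.node (.node (.node (.node (.node (.leaf 709436600934) (.leaf 0)) (.node (.leaf 0) (.leaf 944376623933))) (.node (.node (.leaf 273512816879) (.leaf 625119900185)) (.node (.leaf 0) (.leaf 695603315293)))) (.node (.node (.node (.leaf 347429962033) (.leaf 0)) (.node (.leaf 0) (.leaf 675929289293))) (.node (.node (.leaf 229371941063) (.leaf 0)) (.node (.leaf 0) (.leaf 478198235553))))) (.node (.node (.node (.node (.leaf 0) (.leaf 0)) (.node (.leaf 0) (.leaf 563199414760))) (.node (.node (.leaf 375904887114) (.leaf 811244708545))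 (.node (.leaf 0) (.leaf 0)))) (.node (.node (.node (.leaf 102926909535) (.leaf 348995785010)) (.node (.leaf 0) (.leaf 1071226446774))) (.node (.node (.leaf 0) (.leaf 0)) (.node (.leaf 0) (.leaf 0)))))) (.node (.node (.node (.node (.node (.leaf 0) (.leaf 922809537319)) (.node (.leaf 0) (.leaf 0))) (.node (.node (.leaf 853978149607) (.leaf 0)) (.node (.leaf 785321251494) (.leaf 118854803563)))) (.node (.node (.node (.leaf 739416089214) (.leaf 768150143642)) (.node (.leaf 332359684387) (.leaf 0))) (.node (.node (.leaf 0) (.leaf 0)) (.node (.leaf 696464745054) (.leaf 0))))) (.node (.node (.node (.node (.leaf 698261033568) (.leaf 0)) (.node (.leaf 384678076749) (.leaf 0))) (.node (.node (.leaf 102165307486) (.leaf 27214221339)) (.node (.leaf 0) (.leaf 79614283847)))) (.node (.node (.node (.leaf 0) (.leaf 1059222901680)) (.node (.leaf 0) (.leaf 775476388510))) (.node (.node (.leaf 656303804976) (.leaf 0)) (.node (.leaf 0) (.leaf 0)))))))) (.node (.node (.node (.node (.node (.node (.node (.leaf 0) (.leaf 0)) (.node (.leaf 868036424431) (.leaf 775203226270)))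 (.node (.node (.leaf 816138306246) (.leaf 0)) (.node (.leaf 573878342130) (.leaf 0)))) (.node (.node (.node (.leaf 0) (.leaf 493557637554)) (.node (.leaf 0) (.leaf 83591856202))) (.node (.node (.leaf 357577208127) (.leaf 0)) (.node (.leaf 249420296405) (.leaf 918696256293))))) (.node (.node (.node (.node (.leaf 1098629882830) (.leaf 1026330530709)) (.node (.leaf 0) (.leaf 1076366517178))) (.node (.node (.leaf 897254638352) (.leaf 693997498973)) (.node (.leaf 0) (.leaf 476699726241)))) (.node (.node (.node (.leaf 962574721868) (.leaf 0)) (.node (.leaf 128020648052) (.leaf 0))) (.node (.node (.leaf 0) (.leaf 970772718427)) (.node (.leaf 0) (.leaf 0)))))) (.node (.node (.node (.node (.node (.leaf 0) (.leaf 0)) (.node (.leaf 0) (.leaf 0))) (.node (.node (.leaf 0) (.leaf 674021388873)) (.node (.leaf 0) (.leaf 311384105230)))) (.node (.node (.node (.leaf 299622707460) (.leaf 1007460295554)) (.node (.leaf 0) (.leaf 0))) (.node (.node (.leaf 785670156968) (.leaf 0)) (.node (.leaf 0) (.leaf 960962954057))))) (.node (.node (.node (.node (.leaf 103491289184) (.leaf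 894655611663)) (.node (.leaf 0) (.leaf 427401388403))) (.node (.node (.leaf 1090495304647) (.leaf 0)) (.node (.leaf 0) (.leaf 71420031039)))) (.node (.node (.node (.leaf 444063334782) (.leaf 463532675477)) (.node (.leaf 968603911002) (.leaf 0))) (.node (.node (.leaf 1092910986185) (.leaf 696321516126)) (.node (.leaf 0) (.leaf 0))))))) (.node (.node (.node (.node (.node (.node (.leaf 779493442210) (.leaf 0)) (.node (.leaf 728213246580) (.leaf 83943805002))) (.node (.node (.leaf 124012327026) (.leaf 0)) (.node (.leaf 642919805478) (.leaf 622273229333)))) (.node (.node (.node (.leaf 0) (.leaf 0)) (.node (.leaf 0) (.leaf 176118243484))) (.node (.node (.leaf 499184153015) (.leaf 0)) (.node (.leaf 666991104575) (.leaf 0))))) (.node (.node (.node (.node (.leaf 331545563426) (.leaf 291593740544)) (.node (.leaf 611980513803) (.leaf 811678159554))) (.node (.node (.leaf 0) (.leaf 0)) (.node (.leaf 0) (.leaf 384678076749)))) (.node (.node (.node (.leaf 729636323958) (.leaf 0)) (.node (.leaf 0) (.leaf 0))) (.node (.node (.leaf 543084356054) (.leaf 810785215167))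 (.node (.leaf 0) (.leaf 967139713879)))))) (.node (.node (.node (.node (.node (.leaf 449650192775) (.leaf 0)) (.node (.leaf 957749125960) (.leaf 0))) (.node (.node (.leaf 729636323958) (.leaf 337919512875)) (.node (.leaf 462058914193) (.leaf 418850169193)))) (.node (.node (.node (.leaf 0) (.leaf 0)) (.node (.leaf 1096906707916) (.leaf 0))) (.node (.node (.leaf 727101002356) (.leaf 0)) (.node (.leaf 1090517898183) (.leaf 665318949438))))) (.node (.node (.node (.node (.leaf 0) (.leaf 0)) (.node (.leaf 0) (.leaf 0))) (.node (.node (.leaf 323057025303) (.leaf 283909738742)) (.node (.leaf 684573409878) (.leaf 0)))) (.node (.node (.node (.leaf 247787057365) (.leaf 558340559332)) (.node (.leaf 488090554797) (.leaf 922809537319))) (.node (.node (.leaf 0) (.leaf 1025108611986)) (.node (.leaf 216871563450) (.leaf 0))))))))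

/-- Third coordinates and positions for the centraliser of the element of order 14. -/
def hintBTwo : Tr := (.node (.node (.node (.node hintBTwo_p0000 hintBTwo_p0001) (.node hintBTwo_p0010 hintBTwo_p0011)) (.node (.node hintBTwo_p0100 hintBTwo_p0101) (.node hintBTwo_p0110 hintBTwo_p0111))) (.node (.node (.node hintBTwo_p1000 hintBTwo_p1001) (.node hintBTwo_p1010 hintBTwo_p1011)) (.node (.node hintBTwo_p1100 hintBTwo_p1101) (.node hintBTwo_p1110 hintBTwo_p1111))))

/-- The centraliser of the element of order 14. -/
def centB : List ℕ :=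
  [0x8000000400000020000001000000080000004000000200000010000000800000040000002000000100000008000000400000020000001000000080000004000000200000010000000800000040000002000000100000008000000400000020000001, 0xf3dda70171b0c98117ce0db19e94236049a971f2635778d8470758533f6a536d29022e432dba3b5cecb75bb3a7da78a89d2c41200c4c0d2934e80cd2d94287233a51eeab8621e796cd74f84961e803edcc95db12e0bba281582e12dc43fd0655ef5d, 0x5f02d4fc4f503b39fe9cdc5bdad12f63a41d2e946d2f4cf01525c1a9724031b24884d46a331dfe2318a73e80b6219b10538e133069d802672d7e3e4d7b69f630aa13cf356e346b8b88247c31c71792048da3c36717fc410d7c2b6d2df9ee8eda0dec, 0x81ab2458055743235bd46dd9036dbac67ded837996b7b6a21b80859b7ef58fab44053e4d881de0dd4b37b61dbec6e87cea96ebc0e8ddc641679af61b514a372e137753a467026fe7ebbb9e148f52c1461db76d151ce9d4dcae5e5375b868d65c1e2, 0x81fb8fa8ebc1ec1a545d6cf2d4bb0b3d69e80f8b84e2e761e88904e8e16155d733a0c673fafdfd35fac056d56476fc1079116476dfa3f929fb100ceb3915c35639b96e989457efdf3674b7a6eeb2fd225cc17764b8ae2915d7fa359b7c94e2d820ac, 0xfee721d3d86adcffb7b86208fdb11e287622cd98ef62cbe34d9b0562d155aef80437e8b43a7abc1e98d06ccac230d17bbfacf89aec901e9b0f5d0d18addcbfd09d2547458b8738a3304eda8eb5017569ae57371b9dad7cb875c34c1a8023597cfa6,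 0xc7be7a48f53aa2a575760e05173131dff5365310bfb8ebbd109299c7268f927741072360348791035cbaa2bcbd19366c59a45fba50cdc0482562ad6adaae319d478f2b19d9fc9b27e38c7103c1a0b0658af06fec90f68fad10335280232f9c91dcfb, 0x8496f4c8a09edd1dfae4672d0ea4ba095dc13d0864c5dd67ca59f107725a60eb4000b08851abed1bb3f6b2275aabd826f615499f2744611fb2232b0beb702a8eaaacb044831bca5ccd0f685964d3893307b9e40dbd27be1e02a586e25985351f77f2, 0x83556ce7372209245f66ce11f9485651a854377c1b896c12860d5eff9184f9f2b883f93ba51389768db900cd7a0ba81fa84dd606efb863442d071d75352c706f643497bca5961104ecc4c4724462d11e883872da68e225984fc9a95b9b3049b70d5d, 0xb19219df4a08243080d554cdef3cf2bc45472761f5e750526b5a4f1c6d62b889a27c27cef4d6b3d17abf86e9214264995076028b37b4df3f2bdeaa7fc725b5bb2edefea024e350861087f6b0f58ac34183428a713540da24e8ab05f9f4e205cb93b3, 0x41fb0f009ee1a1296a8705db1e9353fb3d04484d596e49e5aba9fdabfd1738951d7d6063f0cc0de3b3e0cfef2a182e689945a1f2930493dabc64ebb59a6669aa65bda9bb1c8a9b27189e6d23482419d7975606429e35f03ba2565b0da67c9e7d6bae, 0x34f1a6beda529773a8cebc2babc712c408ba6b9217b845bd1a6576f76b0b16ed78d1937d6e1fa036668b8ee044f0c056eed0b7b9670781e16322b7dac70e9fc31da4b06840a076ecf4635db319fc48f34a9bef22547e936cdf97c79824c8e5fa96ba,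 0xb32426e2b740e69108a2b6659ec289cdfcac9a918a6e2d77a5596dfbf06ed57dacc38018b2ab7adfc29fe9799dd0fff76f1410715bf4dcff64dd7e8c33331510b20b1c9de4b1db2c10ce5d486ed38fb700fa5106394ab383433dcb77e2ee9f372d99, 0x4609dbaadc9be56e7fdbba8d1fe0ebe9349e81cc6cb88f2f1e6209972bf67f9ff0b9c31b76e0e109a545842a0ad1e7f3aff5ee39983d8f6d8eb3b0544573cd54f8b19e3f21c7a84463db77e067244e8d1a6ab0283789cc12c7d042fa67bd9ddb9acc, 0x1402f717a9236a2af67e9e6c3c28c6c9da4bbb6726b0e936871be227c5f320c454f435922d1df174cd7665ed5625e36fb34b3f960a013ea2e9c83a269d15163a2fdf4d8e0ed35fdf24e7adf38b26ccfe85b037ecdfcd988529c3bd31f87103277c82, 0xaadf2367afa8be0077a4ebe9acc6c368226bc091363dfc7b3d7274ae914b71c8adac77fb6647dd4f42cfdaaefc6c77bcec4eadab59b3d64b8e03b6b16998e67f9540f910f69978b590c2732bda66ae0c8fc6ff544e23f6d7e939564c4d614ac9a34d, 0x5313d4bd355cd81008af272b16b4739420a33adda1981d458af5359b4bedbef541054820456cc1d8b3d8fb82ebcb1ec5443e907fffe79836319b823a701214e88bdd810ebcf74b86cc66b082d2e4adb3466c3101536082437c9b34d2c39d2a71225a, 0xd8ff0bc46864238ae99afcd742904ad6333ce7e0f9689c32351f7fce5c98e1bcbefa5f31f782daf66ada61951f3a3dde26eef746b3e7dfa2687877b8ba644afaa2a9b242d5d7b8edf8bd42b4b7f1a109bb314439254a90a6c7f42d0db2f5b72c3001,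 0x41f8ac12ed2ca22f67a1545f7329436fc0953354d10b48da068956dfbbd586d632c040873db2c133197d77270258e9a04d87efaa4dd30bfec4101e14da7d947544c0faf0c04703d1cc938602583e9f8e9c3d346a04da5a38fbfd94085ecf7a872e14, 0xfb3b5f91fb8f964d27007f4225b97821ae7a2afc92c21290fb1859244516246f53080f97d66db8de572c90392e7b0f0454a33d44efd22fecddba467ba6f1754f0ca0757120478927ad7d358be767b6ccedc908e299d9b04443d9da389363748dafca, 0xe1b736c305c9681178e147ddea744bdf94439081e4d858748d7cad24cf302043c79f909c9b550575d92c00731ccb4bbc7c35625708d05d40f721774e7f6c687bbdfa450b66b477b039cb2e55408a4b53c932e3c82b687acd07e2224da43551235528, 0x20ef0511f57c532b808d1aec4b6fe13de99ff631135b6debcb9f3e9f03d7dbb87eb99132e58e9b1ab821d57ee9b2e8ef6b0171503a6abf5419c60465ed412bfa695f56720e7472538eb1f1cdb80157e4215b5bc521b7f97474851f2e4372b7a48855, 0x53a6fbb844ec11c277e92cac00a058f4690a0b2fc2cd659dcde26dc87407ed986c07666348d6fdb3d7efa0394c11662dd912d35ff3ab851f761b86ef9fdc13b8d9246fa53bd6df7881157e43737fc6d48dcf6283b3db2045123da20e80600c24cd06, 0xbb3dc70cd15158443f0c8b109731bffbd602a28f5016c9d414337d712637e884a4f318c3bb138117d0e85ba09a0fd0604888faa08c615f819ad99119e5d8101689701507c5715638c80023388820e76c871d0ed1a0d3fc172ca9f9479aafc44a7c33,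 0xf7c0fe2071b97c75e20222b3bdb219a6dda3f166bad9cd9d046a3866ccab932bbfa1f8584cf38ff3bfaa212de3a48bac4a0b24e788f90f3c2d4a9124c4ebb033d5626ea4d0ee5a154320680620a36e2aa4bfc6843fb40666672291badaf56419d830, 0xaf8cdaef35d02e1ca973a29e4d4fd1f396203e7c0806d687d1914820bc81b73421ad49d0d049a8bf8f25ad567bbe0000df54ed3a0ee9205e2b31a379a2ee15691113f92cb220be176d919a039404558c708ec634c939d9a36f69726deb00cc085bd1, 0xfd5add3dccf1a36280e7900075d7298a6655723a54711ff7e7f4790c95c8b4541919dc6d85c0deeda05a69fe68d326f2f7f46557c506a5f309e067b28d0afe8a3d4c3fe9a0a08f721d8ad8b226d609393c595b2ac97d7917513b09a8e964ebf01764, 0x2b571559cf943860a50152fb1dfe62cfb6da6fd78854734cc79eea6115bdc030d1a3e4b6b7026f9fffa0fdfbe66541a2e2ea0e6031e95e1bb9eefa573bd5fec11a9bce91042772a0dff0578c7d86cc8e2c9d97e84fe63da3132442830b51d98d0779]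

/-- Products expressing the generators in the three elements. -/
def genProg : List (ℕ × ℕ) :=
  [(0, 2), (1, 2), (0, 1), (1, 1), (6, 3), (2, 6), (7, 2), (0, 8), (9, 5), (4, 0), (0, 1), (0, 12), (6, 12), (9, 2), (16, 6), (14, 1), (2, 18), (7, 19), (1, 13), (2, 17), (11, 15), (7, 1), (6, 11), (6, 25), (20, 25), (21, 1), (20, 27), (23, 28), (2, 30), (1, 10), (28, 32), (27, 10), (24, 29), (22, 32), (2, 31), (22, 29), (29, 10), (31, 39), (39, 36), (35, 36), (36, 41), (33, 37), (40, 44), (45, 38), (44, 26), (43, 47), (46, 33), (49, 48), (43, 26), (48, 38), (0, 0), (1, 0), (2, 0), (0, 1), (1, 1), (1, 2), (1, 53), (0, 54), (2, 54), (1, 55), (0, 56), (2, 57), (0, 58), (1, 59), (2, 59), (1, 60), (2, 60), (0, 61), (0, 62), (2, 63), (0, 64), (0, 65), (2, 66), (0, 67), (2, 68), (1, 69), (0, 70), (1, 71), (1, 72), (0, 73), (0, 74), (0, 75), (2, 76), (0, 77), (0, 78), (1, 79), (2, 79), (0, 80), (0, 81), (0, 82), (2, 83), (0, 84), (1, 85), (0, 86), (1, 87), (2, 88), (2, 90), (0, 91), (1, 92), (0, 93), (2, 94), (2, 95), (0, 96), (1, 97), (0, 98), (0, 99), (1, 100),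 (1, 101), (2, 102), (0, 103), (0, 106), (1, 108), (0, 109), (0, 112), (46, 52), (46, 43), (50, 34), (118, 38), (118, 42), (89, 89), (122, 122), (123, 123), (89, 124), (124, 124), (125, 126), (127, 29), (46, 119), (117, 42), (120, 129), (42, 51), (50, 129), (114, 114), (114, 134), (134, 134), (135, 136), (137, 132), (131, 130), (133, 139), (140, 131), (41, 121), (29, 121), (104, 104), (144, 144), (104, 145), (145, 145), (146, 147), (148, 143), (50, 143), (51, 150), (46, 142), (151, 132), (121, 142), (111, 111), (155, 155), (156, 156), (111, 157), (158, 153), (138, 128), (149, 128), (138, 138), (159, 138), (138, 149), (138, 159), (128, 160), (159, 160), (149, 161), (128, 162), (138, 163), (138, 164), (149, 165), (128, 166), (128, 167), (138, 168), (159, 170), (159, 171), (149, 172), (128, 175), (138, 176), (138, 177), (138, 178), (159, 179), (149, 180), (133, 121), (153, 151), (186, 154), (143, 151), (131, 185), (115, 115), (190, 190), (190, 191), (191, 191), (192, 193), (194, 186), (182, 182), (182, 196), (197, 195), (187, 151), (199, 189), (121, 187),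 (200, 141), (187, 189), (116, 116), (116, 204), (204, 204), (205, 206), (206, 206), (208, 208), (207, 209), (210, 203), (174, 174), (174, 212), (212, 212), (214, 214), (215, 215), (213, 216), (217, 211), (186, 131), (219, 202), (152, 188), (201, 186), (187, 221), (107, 107), (224, 224), (224, 225), (225, 225), (226, 227), (228, 51), (180, 180), (180, 230), (230, 230), (231, 232), (232, 232), (233, 234), (235, 229), (202, 141), (220, 202), (51, 203), (223, 239), (237, 238), (73, 73), (73, 242), (242, 242), (243, 244), (245, 241), (184, 184), (184, 247), (247, 247), (248, 249), (249, 249), (250, 251), (252, 246), (218, 198), (236, 198), (236, 218), (218, 253), (236, 254), (253, 255), (236, 256), (253, 257), (218, 258), (218, 259), (198, 260), (236, 261), (253, 262), (253, 263), (253, 264), (218, 265), (253, 266), (236, 269), (221, 188), (241, 222), (273, 272), (240, 272), (110, 110), (110, 276), (276, 276), (278, 278), (279, 279), (277, 280), (281, 202), (169, 169), (169, 283), (283, 283), (284, 285), (285, 285), (286, 287), (288, 282), (267, 267), (267,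 290), (291, 289), (51, 274), (51, 293), (275, 294), (186, 295), (87, 87), (297, 297), (87, 298), (298, 298), (299, 300), (301, 296), (181, 181), (181, 303), (303, 303), (305, 305), (304, 306), (307, 302), (271, 271), (271, 309), (310, 308), (311, 292), (113, 173), (313, 268), (105, 183), (315, 270), (316, 312)]

/-- Their positions. -/
def genPos : List ℕ :=
  [314, 317]

/-- Part of `genVals`. -/
def genVals_p0000 : Tr := .node (.node (.node (.node (.node (.leaf 0x257918f163df8a395941502853e19030492f44309cd773196d579f24303fc8a7b061610514c6490b4b0584db493f48300d3e58691ac52d0430c11c6fc5849cb3071e9ff8d6864976b246a430d63267bb49db93711f9cf118a9e5d387d2b390260d7b) (.leaf 0x6db4a789007a1488419b42d044b0cba3e10a1f58ac71fa0bc3883578274838c3313c24800914862ebe90987b6d8873d148a9b28d0e303998d62af682f183b4e7f1c2437f310452901e4f3f9560872c150d71947c3a61f542f751b43a61f5e6f96b95)) (.node (.leaf 0x80ff9766ae790aa0f915c5dfd1646782b10d5ac0b23f855b23fb3354430f3825e3f852f38a52ab67933ca1338bc0fa29680ea8536227ea780d401ac4dcab802be37948e724e2b49caa82be4446b0415b08c9d8aa31fc750d555f3e31fc75ad3e31f9)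 (.leaf 0))) (.node (.node (.leaf 0x75fc7637bdab8ba8fa3c61b1d56a3a9d72a1f5882ac6f0d92a27075e1976d4779639e01cbe907f24840fc9e310db77672f2122b0d1bdf53ffb01c00030269d1c8059c31ed50488ea281177cc435aca44033b2e4b94807a83a99dd629db3ac4f61074) (.leaf 0)) (.node (.leaf 0xde77c8e7b5585f440c84db8fe254c9499dfae45cd376e3f26fd66fb73d3b6a995a71d2cb61cd7d43c69e361fc82d8f8104a48d3d59b163930606cc6e00265b9cedb6f7ce2403b7759a1c4e7326e28aa5ee31baf6ddca72d4b46696a85a50cd09db19) (.leaf 0)))) (.node (.node (.node (.leaf 0x15b9261bcd12db3c5a223f22f67e5a9694ca99d97d5b8cf0e89aef4f50b223482d76700f6b12a638e7f8b122ff11c15b9fa950e7f33e38e4d55e2b25150fe4dffcb5dd7b9177b1ef098d2493d1ff9c4ba294dd1f1ade6b99085570f309b3d8b18aa6) (.leaf 0xbb230bea9f345e2701e16629ae36b495ce0c94a5b88a166381d03528b87506a64534945064e50767c16cac7e57ab590ad4c1ab344656267e47c59ae7135aae27ea0307d09c80865cb523ab9e6e37bd7e4f4067a08e42110270fa888e4211aed0c201)) (.node (.leaf 0x48a21ccc707aca480f3725f895b009ef5b66ecef803717ccefb7cd7edc729ae497bd58252d53811ecac2bf9903847dd1bee43e3c474b24547efab5ed4d98f6dc1a34c365e28a463133616103bc0bd0cea4ab7bd22adae126f7ae802adae18ae199f5)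 (.leaf 0))) (.node (.node (.leaf 0xf4f05a36bb08f7aa471876b617ccf8035f399f9a351c891fa733835456b2ea00a138c9ffee2f25026985f5d46681e6a4685879f284ce009906e3b7b8a8149b891896d72c8d1fd3fac5492bac7353f2fd31bf542cadaf7821d7554be575986c94e90d) (.leaf 0)) (.node (.leaf 0xdad37b30f17673c1ef65ca3abf3012a32c9b45639be799a169a7fc52060fe6b8377994d7095090221397114e2bebbd8fc4b0b3e055007f2d208712d49e43c75d80ab7de462cc086226e505d6bbbb0673574a0d88ba595d70fa3b02794e930b233c3a) (.leaf 0))))) (.node (.node (.node (.node (.leaf 0x488b009e98dfe04ddfc6015fd2188de13ee88b6c57bc5cc8c47f336c50e943f44f872221139cfe57b43616024e886d66f93a070ae6184a99639cb5e91e2785c94debd5a8e235e092f7b272e22c94e6f9181c1b9eabb2a99d84ab24b0e171253924dc) (.leaf 0xa6049db5bd3de9b922bd25f05575b8a9296b7e970858a4224d8c50b72df09778a133e85bcc61ab97cf957d2da3e4a8da7b8746a2ef3a3d2f97be83cfafa77c153f103d497a25c1cee839c268d251f4d1588a9fc4c50c1607e57754766718dca8e8c8)) (.node (.leaf 0xee913c28f81456103c6cf4e3ee7efdb6fdfe88a1f2239e4daace1f3baf4b4a82009fa1f9964c526cfbb57db26ef03815adab30422331d14d77005090a2760ffb87154e9032d1323652a85f6297236cf4284daaf48393e557264143efa1eff3cf4a17)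 (.leaf 0))) (.node (.node (.leaf 0x131c37bc9be736e996029ffa5f4a2271588ca0c02f02cb2087ad6f6df030040c8b7ea3cd8bfc8fe7743dcb96925f87fef728e7a486f42a7818931c304eaccd82bce241df6db0d993caf9e9954cc142cf10022542144960f5d5de8c4f212890aedec6) (.leaf 0)) (.node (.leaf 0x86797c6bb3c04eac6b0cc5c9bb0fae0a32fb7e814e725129b8f6228fb13ff49ef71f4e5b80e8f479e9c5b96454c34d478c0377986b006b26141602711c5d391cb09b783877ae86d26481aca2ceae5c3a6998f12829c1caba95cb6de6609173c7eb4) (.leaf 0)))) (.node (.node (.node (.leaf 0x9c6c0677d3c1a14a53c3216d3f77f70967af76cbb3718b656a1c9798f37af5989b8ef9eae9c35c56e1e5a0226d5dcf085881806c8bbd43e01aa19bfb2b461e074fe2207ccb631f03570d8cb95e08b25f9856c027595a9109c67e9372fb3549f63e0f) (.leaf 0x75afbe8b6646ac6733aed77d0dc5f33e1c03903c85346ed0b9192788fbf6962b61fb46bb9c34f7bbca280775bad339992e3aecaeca37ea29b92a5c9c677ea41df6600635258a11ef28f319f1c7fb6ac61a2a25cabc83de453ddc0abc83d4f0c895f)) (.node (.leaf 0xc2c7cea680abcc235df5e5ec5216c416410d8cdde40445d7e433efb443f6fee3fcff36c0dcc129bfaec24d2d080b953c4a2870a229a23cd027c3e6495fab30aca40040995cee7456e42805ba5ae926a6a9402aba9c616ee76ad3cc9c616e46d4ce33)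 (.leaf 0))) (.node (.node (.leaf 0x6ab643fa927f9bc0b59e717353eed84e24b43ae47b501dc40460e5295400428cd8f76f1569308384ebbca46a2b4b5502a697ef926c9893f923252b293c4953a162cfeb35c3f011b8430955c80a5922e62ebe3e460180a6456ef2bfbd46f464420fec) (.leaf 0)) (.node (.leaf 0x886552a4c1edbee4d5a8e440d5796d167543b30369cb3809de109600891296d1b8f1fd849cb08cc0eb549afdf232212442befb7c2b79163c1b2184419f6bee867858615cb6e882c152e6b5cb2fcb5387622d30a7b9d1949c864606aa6eff64384c3) (.leaf 0)))))

/-- Part of `genVals`. -/
def genVals_p0001 : Tr := .node (.node (.node (.node (.node (.leaf 0x75fc7637bdab8ba8fa3c61b1d56a3a9d72a1f5882ac6f0d92a27075e1976d4779639e01cbe907f24840fc9e310db77672f2122b0d1bdf53ffb01c00030269d1c8059c31ed50488ea281177cc435aca44033b2e4b94807a83a99dd629db3ac4f61074) (.leaf 0x5d955c4f8ab46019c264c3b7d7e0c6d0fd4b78588c9c507801bc765c68b1e78f649258c3b9a20357fb849c4ab00f98c3903072ebcb5fd0e4266fff0a203150a97318cb421024d24154c69335f44185a5c496c68cbf7c968c837b6cbf7c962ddd9d99)) (.node (.leaf 0x13e09567af564e955bcfe3e3f37d9f35f12025fd30823298397ff9818dc98f0291d84928ad35308ee807144b6f2a5a9f13bc80f74872bc65b91d3890d9ff869ad45c224d18ad22fdd24087a1e922674279fbc3b8983358a1703b113a822f18aa2004)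 (.leaf 0))) (.node (.node (.leaf 0x704a25f00cb64a524e8a05bb21754775c46b0885ac17aa1d46eaf611c0110d7b55c2a13a97d2779932b928bb59b77113294f94683872f4c03d300f79cdacc563f4aa37074be20ab65e4647f26c5ec969eae984041d42372ce48b0c31b28964f98025) (.leaf 0)) (.node (.leaf 0x9031a8934ed48423ac391c9eed284c8fef68c827ca01a4da6da8be2eadc59e2c13bbc3e77f59b2dd86754640c0990e9628d828667e5ccdbde05385cb769956e5b9bc0458799dcf784e5d16cddb09203940a76ba3072578501e7aef0b23c80b07d194) (.leaf 0)))) (.node (.node (.node (.leaf 0x89d48de956af2c9f6ef9fae176e591fc4cc6716036bcb646f4e8805bb65f5f9a7fe9d6e428dc59b2e327783164dcdd77f6fcfe999417660e252f05efd7ba2c373423b276204e1861e8cc23b7d6262ffa37982edaccdf65f00f37065671168cd24e5) (.leaf 0xd476fd2a59ca5f3d2382ff9e215e43b5c0ff4ded3ec5a80822e37e8937f189e472a60b993103a9b1e6a304413f54dcfbfe1aa493b87235bd47af3f6bf00f37ebcfd6e64991885133439ea377a9d7ee035398a751ff18cbc7d1006862b8cb10138c57)) (.node (.leaf 0x2894212ba5860aaa63a72f96e7204769ad26e4fab2cc654babd5867ab960a28f9da4eac732abac3acb2006c8fbadbae9e8c0f29e84c5b388728ad8c0ac53b0513aefceb6caba6c7c152c9485f6730d556f5ca592e4220ea5ddcc2ae4220e01fcb2b1)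 (.leaf 0))) (.node (.node (.leaf 0x4ecf46c8b8201d61c63f69f479b2ce384dfaa2b6affba3bb4b709132f22950f81d4ff039db30655d019e3f1c52e3feb9812c026f9c6615cdde25f861f9fb9974d4209d57698f3e25c4c4826b952eb9919f8ab946362bff22ce199800374097f962b9) (.leaf 0)) (.node (.leaf 0xe01410c63ede144370d0879f6eacb6c659eff4a73cde85bdcd9a0b880258a200cae5caea1458289e4bacaa11b7cee3ebc4a96fe3453743d2f1761422828c8221d0ed24cdba12b1f7960cd09a284911c484de3ede7cb52ac415bdb87cb52a67621035) (.leaf 0))))) (.node (.node (.node (.node (.leaf 0x35fa950deb936815836b451a5c6c74daf4791b4497bc5b9ae6e9d7daf532e3b3ababb9efcd6c302b392b2a6c18c5c0c914b8b4e5bdc3ae2049405bf6815866a4d6072300c98e8939a21303371a861de44c637677d449f58689db627db176da584bda) (.leaf 0xce4c17867ffad43071c71860e36425bef684a529453ef71497f63ae839ffac0c201d2893c63e94e6646d247673c02a4419600b085f060ff440821f0348ef048bb8d34cd472a0ac4e0d4b03eb4c7e7a0ad81d128c0283d85a3d70489bf2072c46c7ac)) (.node (.leaf 0xcae5a77ab475d6ebe9525b4dc1cefd1c7d147b5e5e6f852f83ab3b8d362596cf738dffb159541d13c7a07090221938d1f2ebf5444c4ee7c4c3c7dba39ba04418c81fd0160ed0e10b0d2d7172ac228f694237dd33a6e0e779fdf1cde90a069aa0069a)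 (.leaf 0))) (.node (.node (.leaf 0xcf03a820c1ce23f8cca586e7dc77b514da73740499216e962df5561340675480eb358002bd2263f0110f130ce2f36cd86d55e5c5b18b1d95f2601252e13572a10444b957f3a34d2c5dd9c04be41eafa19d0bf78c27ec6c2ae7872bae7e198754c3a0) (.leaf 0)) (.node (.leaf 0xe4b50f2d560796320b680976f55cb0a984abc36f16ee286e2972ddeab95c27cc8ccaa68806eda0342064592e6f4b4322dca5f5838d873512b8a385a7827a9229f8dea81a08a2a3982de660558472dda94cd7b6d8e1449f0922e72ae1449faf471837) (.leaf 0)))) (.node (.node (.node (.leaf 0x6f2b6f442553da07229a58f6ba81963a0d1fd3dfafc857b359d76c2aa641e5e3434ccf5230d23245272984658d1a31512c79ea484c4199e1ad35ab5cb3806a8aaefc40d4f7b5c30e92fd1cab37a4148a224a1e496f9accd55d73dba49338e7a2245) (.leaf 0x917d8404214fc0dda985013c9e103d86f1095757d85b088b081b1fa8557c2e8124055870f7750a7ccdf86fa92908fda3c8f152130a8f9170f094020c8dd39844980689dcac686e710f8fe60600606351825cde88d47b48024fc6c4d47b48a936bab1)) (.node (.leaf 0x82597143eb56e4ad74e2621a5e841ce0d32186b47a8b49f60748734c3991caaee30a6c3ac9a82b72a022fa5cb204219d92227d2b6721c4a49fda8f62ced36e732d4344784e68d08487c7337550a31a3c6fe20e025d9021c0b3183c5d902165969a11)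 (.leaf 0))) (.node (.node (.leaf 0xcef1df687d2a79db04e17a0ccd09ae133e8e1a74525f62fdf3c3155453fca3d5085f0d6b1b8e5f7ae123feb18f4a086e242abf0e2e39af903aeeb7799e6dc2e9d476ea738f095a5f2ff8095b66b640a1fc8461ce59b7113de1a2d5d60564c918b252) (.leaf 0)) (.node (.leaf 0x1c3048c95c1a728adad2cb1217280d7e6dca91aa90482852e160dd3e9044904b86c5d870f9bb2065d2a27eecd8020c020281a56d41930502723260479a8eac22d7e1486c8246f55159e930cdd08dd02b21fd54488fd608c4d924b28fd60869650ff1) (.leaf 0)))))

/-- Part of `genVals`. -/
def genVals_p0010 : Tr := .node (.node (.node (.node (.node (.leaf 0xa9dc35dfb48501a02258569dc7491d0d4f1a65fd55f553c53d52fe11f13d098c2f71e7a727936df242d70de263963320f039df2bedb38d5758e6f3f3c0300d8ba0fa7a9895065176cd8406915d1a3843831e9224e3b1402cf7e475bccf7b0bc840f6) (.leaf 0xe594a0c3a8053c344c1c422c099c2cccb80fda4bb812e7e482cec4b0e8383f47bd0910f5e24d86ea7e9caecc640509be30c0b85e8e4a96048fb019453463e8016ff987f4f08c4e76aa8c2af4e4083d148771b41cc259628193f500c25962276426c5)) (.node (.leaf 0x1eaf86f54445ad72a6aa61ba3c492efd300167ab4cf091914751e1272592b67d13825975db430cbf78c7e88013f0f22a1d928ceae6096eb453712a282a592149ec44c2f9a1dac5aff34aa056d35b1763b3903785da396760c3708a36ca240782593e)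 (.leaf 0))) (.node (.node (.leaf 0x9fdced0766b6415343d698ab0746188ea1a71db1338d14d47760205365f6a8efef35b28771fc0a16d4f19da943d7c15093b94038847530860d31ddafdef80fad13ff4186b8618297f71ecd3312b1d960b7fbe07e631ff1f896bfb91b3ede8e42b43f) (.leaf 0)) (.node (.leaf 0x3f258d2f497744871f0ea629ab40c5b80961e6062cea30c70ec484b0886115a1c93c00c901ce07dd10ee6d8a5ac09becbe47e6218b0088364774c92fc28af2052d4f86df5fe60c2593e79c8a529cdb68a8bba52c71b1760968fe8a71b176a739b133) (.leaf 0)))) (.node (.node (.node (.leaf 0xe410dfa6996deb2676463d2bb262e958a7027b8f55cecd18aefb0993ded37dfced96461c85d52d43e30b4615fc8a23211141814e21b1aecb4f7e1b3bccbaae5d2109c2db5f32b249ff6b74ec23a1440ed30ae807ef58bdaf4f00118b3fdc6644ebb6) (.leaf 0x9fd8650802c9584952c9844ef4609da1d382de8e60ba560286d8a9480b160e027ad9b0cffe00832516e03b58438ccbc660d509c90425d428a3251885500b10a1a5ea0fba1e107211650e05faf0062a2b0d15b360e7c50b09da358ce7c50ba16c59e1)) (.node (.leaf 0xcd410fefea5598f6e3b4c010664e6bad86464cf3ced0f41b8b4c8fb850d5134cc39136c95f0360c51350f33a970d6028b095897702f80deec7155dcf53a0bc791b996c38eeee65220885f83e4a35c77467f8c78e6668e26fe753466668e2c831796b)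 (.leaf 0))) (.node (.node (.leaf 0x6fd9f5d99f3b2bbac580868a59336226ff641ac7f9d927f9c3b115c550c504f7c6c46bcc4b5745b3bf8d37bd93d749f4971fa053e323327bd269a576c5e26396e9de44eb15fe5730f3644ba602798e356946093f6c0836e5044f489c54efa2e6a026) (.leaf 0)) (.node (.leaf 0xe21f7b683323dd69d24db14d27b7c4145e646441db6729d0e3454cffd6ba3b75a5798b56ba1dee05d150aaf2ae25cbffbd238ef86315a4d56279717c5cd321cb6c98856541ea28d5acb03b89ef5e7e7226d4b19308453196631228f87fbc7d3764e7) (.leaf 0))))) (.node (.node (.node (.node (.leaf 0x7ebf08701859de5b65e3d06d48302d5dcf25ff7facd2e7302f7a1cae847c4802be6e202bc0fbf13c701c1a04c420f97c4bcb4fca4684bef208932ad51f5551824145de1bce178d28781007d66161bc22c41d38909100e0d8715520723bf5693b8685) (.leaf 0x90abf163b4358a3678a1f035c3a55f17cafb1ed70452c9a0fbdcaaa5054b830a3155acee5969cd6656a00a557880c1690abfafda913fd2a9eec7ebe9a16a9b6e24329ca2432ed5a40241f3060694b979db8fd8a5bd7fe8bc203f8c84472265de01d)) (.node (.leaf 0xa3ba85216b7344460c88e71fd1b839b80223f8d7e0f3a6476ca0a9fbd1c4302105cb2ca008947a7913c3401735e6eb614f28251fcc461853bdfaafd4de90dfdef67897c29dffc596a900beee21151e3c4e8e5c2a09687ca3a2899096ce215c1ea573)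 (.leaf 0))) (.node (.node (.leaf 0x866453d59b50671b0c31f2219cc9fbfdcf46dec9b44c24790e44b29854d2c01bb5e5dd334f088c5e26fb5b807d171c26c34d597b23e85f52ed068a95eba664d23e8f58c78fe57c5e2ec2f23129793209722b5028c659130a31d25019ad4754dee8b8) (.leaf 0)) (.node (.leaf 0x8e2aa42aea4726ed18df6a162166d8423163fe547e9c31874dd98500aac8d20e2a5476856afeaaa64bb6e47003c6a6c5b8190c7947c68066f77de36cf24f2e889e9629f51fe29c90708eff4fd2d5c905e4a88928e95117c8355230e95117629f660f) (.leaf 0)))) (.node (.node (.node (.leaf 0x8c2fa2e794d9920864888c5a32dbfeb853449f1ec4fdfee5d517b5d083196896496daf96b19e091d843dd20e756f5ae1fc5bcb8de7ab30a13db8ced3acbec968f70b7feb2cc8df36f732c4c772303f4b8100e4ec481fd634c454790d5673ce68d61a) (.leaf 0xfad5e80c6d5118e9cdc1c43f3aa8df996048c95e4c44c43e86d85924cd9cc9c1c5879cbe6f5ac0a650f00c3216c3ec2a5862fbad89b9e9281becb84f11e7a4859b8bcb1c4410d100a24440e4946b969883d11f4cfc55fb87d87ba4fc55fb28b2bc8d)) (.node (.leaf 0xf70645c0856966bd0589c95f82a6b9e42c2262ab18a1d09fa127d55018feb00e6a73769f81b826d5243c414fba2196012494b106cf55abf4251057eca645ee6b5e6e8f54d092b4ec76adbdb5bef62f77c1c76f9a72ce37a2289a1272ce370ce504f9)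 (.leaf 0))) (.node (.node (.leaf 0x44b3992feb3577bb0aab3f31cb8d847d3066962acb9d79423f15dfbca864283a947f44a2ce77e9220904e22c35b4e96c16c10be29069f4b35b97884e0aa2046b29b06dde6553cba6dc3f686a4270c0140c52a1d5eaae674be874e1cf5f0e0543d2d6) (.leaf 0)) (.node (.leaf 0x75fd0836d193fb5b7dd48e718e2e0ca698045058c4a0ccfad200bf9e29999a9b772897587a4e2f3912db2bedf0433c9c7f5e41e2f31fa3a142a1cd1befd2806619d50c7a715506616b6878a3c52ccd0fa3b1e405cd4534af3984af5e76a37f7520e) (.leaf 0)))))

/-- Part of `genVals`. -/
def genVals_p0011 : Tr := .node (.node (.node (.node (.node (.leaf 0xdeaef2d64ca942e531ef906953161d56b817ae092ceecb70717fab8a5f18f6abdd4bd0e42ad27a4881ca3c023ee0a7d7ea003565479427dc3f0399a5ac7fd67646a754f467c1883511bdfb398018a765f83fff467a50de844a049185c70873fcd32f) (.leaf 0xe3649bc5ed718873d0d9871c7e30b97519cc5e8ed0aff4758ced3188f03a7286900d88694a34c49e25806625e6c2ff2d900176d881fd65142559cb4880afc4d36bd983f9ca6cadb1060f7d4c687438e34289f78cc2ba7ecef28bbcc2ba7e65bb5e21)) (.node (.leaf 0xa31abe8774cb9323f488e0fc1c8cd9b9e7656edd265f66f47fd9a57f8cb3620824c9ab0b0c8b1c5a36aece25d4f5ed3b5cf7d104061485919863f2f34f18849f464aa403f48e09c9c1cb90ebf2875738dd38bf62fcf8506b7e624d306611848c40aa)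 (.leaf 0))) (.node (.node (.leaf 0x85df4f771953f29ba960eb4e57f1aa3deba1981450bf1a624cafc5d3d9ca58e28a6f2cbd79de0dff6bf0be03660147c0b52373e0a38b5d672e1f69adf1b5d0f3409a13693d5b70469017a8e9aa29ce6ce6986da5d02c757c17a5e4eed9ea3231e82f) (.leaf 0)) (.node (.leaf 0x8f6d8fe86abd01124b1a58642b5cd94a3cd864952cddff3cab59e4cf05360f8ef2fc25802df52b0ee87466a8bc634c3e7570a2efca0f5ddc7806acefd2913e771d51becac76917f79da2893aaf9ce669f6c806ae097d2dea4d275e2692be11cfd8e6) (.leaf 0)))) (.node (.node (.node (.leaf 0xac0f5d3d14aae3db603487e9c674b2c2b1d5137ca670b6bfd5f0c8a1d4b10de992d2e016b7c27285995093803fbab54339b681e948ea5eefb332600c96f2a62108b36fabd5297fa43489fdfa86db9aba633d08bc59b0a30c8f8412de773174202b32) (.leaf 0x8349e1d7af8755d1302ffc2ba60c34910a3cb2e9816f8bf37ce62cfa209e7dcab92e8b7b749a7ecb87d946680b606318c6fa0e2adac800643544dd51cc7a458d4bbdbd14c366a3092f7952046f20281adb1d877c56e16fd9af6de91ebdf8b2b386f9)) (.node (.leaf 0x7466b2c3569d50c1c7ea841b204ca15f6c4fdcbb4ae37e6a89752a60c128b8c92eee1ca2580e2bbeb4d09b731ce5e5285e7fd09f4d68b720c41719eb3d8dec273f5eaa0fc5a2557e8ca902daf8f573680ec160747c4008a8822c047c40080080bf9f)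 (.leaf 0))) (.node (.node (.leaf 0x7dc5d925834bbd73e5a7fe48a5891eadb9a481ef9a13c151484dd894a06cee1d6e2a8f1d6434a5e1261c10ca8290252f9667658e9a22a52788b25ff816bafbd6971d8c3ed998d252de5df3698bda6a74b58c6e8d97b68f29a79cdad770b7c9274f28) (.leaf 0)) (.node (.leaf 0xe2b1c83234d3c350fb64f2f8584af9215c31b5cb8d8d5da0502120cd5be3b0915d1786378a44f768f447d111342b343a8160dcb896756e44f1b07474244a8554d954e554a604cbd63cb11ea10dbba57cfc2d8a8a9a5ee4b976208a9a5eee8b158e1) (.leaf 0))))) (.node (.node (.node (.node (.leaf 0xea088a2fe67a97debea2d4fb0facc7ce0cadc3814a13c8ce5685371e694a06eda5eeeb2f1e623fd24c39dd7f42cc2b151c0c1f7d2dbdf74d4d79e0700744b82cac9ec7b66d780aacc64eec0c5b34a087aeaabb3417fa0bae61d9fb505d65a29f27ea) (.leaf 0x5986e228e2dafecdd99e2c4003405aae59c6447a0e0e1b9c288e5f16e73dbd6f1db082a211ec869610141e13330ccaaf16fb0a50acd7e1f042b18e226109ea49a11eece3272c31b8e8aadf4f8e51e8882732ef149fec8a20d40b789fec8a8170181f)) (.node (.leaf 0x6a507d6d4bbc7e529cf2bf0e7895e532d844c5b790f2d0a8d9fa34ce5ad8b94c37e21118e8c79fbd86cf11af86583a64df913e255440bc0ef0ac0ac42bb43a38f1b1008262a828d7acf058219c4a5fbf72e69a9b0f233ca82c022aa13768ba150cab)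 (.leaf 0))) (.node (.node (.leaf 0x1daf1c224ef3cb04f391a556a8afcb9f3f056d1040f5e400fb68d05635bbb6a4549841b2331e0189e5616213ecb0f59ba7392e004ca40f5a6dd7fa23fe2c5cffe32d820535dae3e6cc3b8754958a1471c39aa07234600664e4d8262e1333b7f2988f) (.leaf 0)) (.node (.leaf 0x65c9d39503d6292880d72304d9a90b03379e91b1e06b4e14e23b5055ecde83c71255769f238f0058a0dbba30cac0b1d1c930d52949379a9da7ec545c878d7ed56b07ce6e21a586d735b47ab2b053810e38aabc6aa769e691613ae5c662a989e3d900) (.leaf 0)))) (.node (.node (.node (.leaf 0xf72ec5a84d231d335889f880cdc7bf709510aca0e5d7cda2c074df15b7d33feab74bfa87e22023e308c9dbd0f86658a6d2dd9fa43ac4990feeab0477ad373765cfea2e693a1cc9e88dbb9a28cc9096a8f4bee5f3c72d166af2dd2df6a1b32a69dbd6) (.leaf 0xfb69ae11ef0ed7e67970b97796e8581525965e7bfc78d712b4cfba6298ef0b779db81a7a765fd62cbcb17f6203235ef4d7a123b80c32d4e3fff4e8d10f4d5b908cd7815d1f703d608d5494f79cfb1d76d1b7fc8fb1e000bdbc8a9a52cebbcef6417)) (.node (.leaf 0xa23ca2a9ae2b66acebd225536c775cff52fcdaa7fbc0b5fc178774a5b4a79f17a80d836334de2cf08fb49e11282081ff7fde2b428aab73513d91cff73702c15e81f9a16def10f1ec75c27e1d8dc2f1553b7c65357e0f47994f8088ec4441a86e5259)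 (.leaf 0))) (.node (.node (.leaf 0xae3e97c2e507448b87982041b37c3789c4cbde17196c67aca3bf765fc9c893d5b9e2332fa771bde66369e102e8aaccdad80e00942396c9563ff3d8353b2dd1599318e03096d7f77b398b363796d4c1c9221acb39a9095d39389e94563fb4074cdd47) (.leaf 0)) (.node (.leaf 0x61a9aeaf8a9adceadef6ec9e5a14519d4eee50de4a963ff581badf88b9335804bcc12c92497065aa5718b4046d6a3d07fc8c0b4008625c1c7a4a7ee65a7c30cda38d2940d6a84b1db3cd8c00e658c80701e78ab6d8934a076af1b0d8934aa39492c5) (.leaf 0)))))

/-- Part of `genVals`. -/
def genVals_p0100 : Tr := .node (.node (.node (.node (.node (.leaf 0x9fe5f2e607fce45b8d312eaa88a8c8fd668d5f54c2ee417c138b2e38577a834ada79e3753a1af5b7957f43def8c0c22434fbd2d2fcd881976e68c9b4f35456bf997e30406c3b81ead7c8596fbef0174f878405b6eca02795486b32a2087a8c5a708b) (.leaf 0xb802f0058d0e4871f404806d597427e0ed4ff82ad8234d33880b95b011547acd55f1e065d8ce82cb525442062a01924a946493c148ccb610a39f34c19f61c0273c59c06fb438658d6d0027a3acc4c2ef064cbfc8dfee20835b485cdfee20264d53a9)) (.node (.leaf 0xa10034c9d2ee26f1f8d37edbb98606fce57e1e8ec612fbb3f95fa5e988a4d955b113cf10530754702e3efcd0c0d4cf7d4411e817559a3b3b1e892c1c040dc54a81f15c74c4464d97c20f29be47fc5512a12a21f3a85b5d35624d28c2760c1c1b4ef7)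 (.leaf 0))) (.node (.node (.leaf 0x7d9aca9a316e3b8f6cabf3dfe175d62132518016592abe96407e4b93d10406de27f2fa00d59c47a856ba90bb46eb1096572b2e0c3494b93400aa0f56ce615386a1d61abaeaa3348dd5b4be483c5f518344738d93558fe06bcad25fddffe3411b1ffa) (.leaf 0)) (.node (.leaf 0x77b4a9994abef74164edef5e95e71d0eb2ab9a196e0df60b8d0b268f5073ad13e3db5cc0c01a98ba0216980d6040600eadae02ea3fb53d1600756afcd6e322aed3de54d2b17983dd05af5f5c50d2945d2201f8a2e5670454a514b6e378c803d0afe1) (.leaf 0)))) (.node (.node (.node (.leaf 0x4281a2471ae7b3be2adcc8a292b37cfb0314acc5223ad223de6528caa47d9e7434561ddc85e5cb1e6d8483cbd9a15a77e2542f6eade59c28f1e98dec2df052bb2f0c97722f598a503d375352bcf24338b59ad2b58dec05a44b86763f6ec87124fb88) (.leaf 0x1c6653c53a059461642e4849428c03aa4307eecf70bd1a218993dd246bbc60826b1b448d391eca4c5acc54f4d24b8f0c34aa3ced0b34c6a4932b21c5ce3b20638cba44996454dbe5fe0d3677d4ca07160a28e16c84e20c03988e3884e20ca92bf679)) (.node (.leaf 0x29bef64a89c9b207f8d58b6e452021b3ece8ab57e028e5aecbf2a500da786580195d8aff38b42ffd777e2908742bffc03af3a18824228a8ea5779ae29653ca6442f86df1da3a521fd54065aa24f8c5d8039c9a50e5bc62850e40dae5bc62296520b5)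 (.leaf 0))) (.node (.node (.leaf 0x6e49e7b12c62021ee3fe17870b5e1243736492669630e79b39f10af94cf46fa20275a49db746daa226e0df66d079b7788f3fb43f8b0d340af5d6f52011d1145fdb99dbad5d97885ac6777863ff07f1a3e195c8015aed7f1d01bd736baac0ba3bb9c1) (.leaf 0)) (.node (.leaf 0x457e587f0784713fc26d131eb0161dba0fbcff8ff0a449cd2d00f5a480b0caa63134161cfda883364ebf6a418d73403be1e5a855b3f8403c9c837f77fa735f434ac471e8d8894ae9ba7ba39586966f31b53ab92bdfe1f1812f370d181ca3db4fea34) (.leaf 0))))) (.node (.node (.node (.node (.leaf 0x187e794c6a11e1f74ff182a5512f1c981d904a2d41caab7bf963dcf2f36a27b86a1c76b21c02a4bb09b5757e2edfd80d06924468b29beb161a69a2f1cbaf1fe0df5beeee25a4a85b61d3a958f51d855cff7b5c9845644d3c5e780ab7c5c426fd722) (.leaf 0x2701912c84eca7abf9cb6506a31d0e2ad0c1828aecac009d13ab82b8b63a535d2a0376cc09068d0d176a0802d8b4cb89b710596f9a7ac22cd312f429ef945691d8278b128744ca271abf8b01d83e0269e1fbdb513a65ce2d49a3c39609fa26603d5c)) (.node (.leaf 0x9abba1b93354aeef72c9ef3bf2db9dc84f1fe2956a1eb06ff45aad9708518c01c36b39c5125dfe2f236b3f98cf8b345edcebdb8a1a31c6d53f6e2d67553b78f1ccd09a56e803498c7820920748817c0fb2110a6193551f0e4ddfeb758d704f4264ba)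 (.leaf 0))) (.node (.node (.leaf 0xeaf696ac24ca675fb7aa4ba15fe89e115fad339412a75c028a5fc389a65061b61a67887e49b52e9ea6564571297566844f995701acc563333a3b6320eb8e0e6b033bbc8d259e9472f3ff56024765f4f0363638f55425062df6311af5761b2696fdbe) (.leaf 0)) (.node (.leaf 0x8e3b2ab0dad8e5d8f1365178351bc80e4a01d0c4e845108fabd9839b288ad6c40ca0f13b5a6506306db4c4fe34224349bcaa5168323b063b79154fb3b91b0b075e7a9bfb199e94a2367152eab86577fb9e2e2fe4d8d08a9214647fd972bdb8b6e566) (.leaf 0)))) (.node (.node (.node (.leaf 0xd9a7d1f2b99c080001f7591fb85b480c9668cb6b026817fe60e9b74f717d285c81902c850d0712ceb6de6892873020e928eb84dc04d79d1cf230cda3ea155e783a0a591e2cc80bc2f17fdc8d2d200e6d0af2c45d6175d6ed460d18f3471880473ce2) (.leaf 0x888a4241585f2c4a10e4afe667021494f70f664e029eb2a7a2ff8bcc53f33465f3e714cd51c6419418e6e1ae73eb19257e079f57ccabdeaa0aa1828f6fb43c60690444c17c143e4ad020d6d98cd8b91b67f97b285746566bcc3b1a574656c800f201)) (.node (.leaf 0xcc41b6e5086ae22262b3ea52402009af2e86ab7fd82da205cef09926f81b9b2af58048b73d60c7c25dfec0cc2088dd740657c55b8cd44ce8a0bf0f8c66d9661f2206445caf8af04754426ddca291ed7162d0b9b85bf865e7bb7cb05bf8654e5abad3)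 (.leaf 0))) (.node (.node (.leaf 0xeb27f83d4b2e8ff8f8666d992d4b20dec92934f2b69b7df44957f81febc67fb709fd0d2171564c704d21939dbc9cda78cfe853afa1ad14a0812038242ea13b9ba0a4ea7e812661622e6af4900dbe2b2f9e962d5bb0fe1b4fa9fec6af879a01b1f3a0) (.leaf 0)) (.node (.leaf 0x624da578599a3d6a573ff6450ca5f8ee3aa577c3a639f69d1c0e4feb182f47b1ee85411d4b73de0d60af5cef244b18aa3694e30a7afa8cb33913ee1ed587db50c6bfc1b1ce21cfc4589521bd196a9736a979dcd9e580719339afe098f40f78a7f751) (.leaf 0)))))

/-- Part of `genVals`. -/
def genVals_p0101 : Tr := .node (.node (.node (.node (.node (.leaf 0x21df24ba9d62473755a71d47f8ab11966faf4463085a7c60a58875bfd4cbfac334e190773a31c8d83453d507951606ab11f9a1763a1bdf087514288cc8f98f0040a440492e2854c963bd3b5bd49026b00d0e088e664ebf6c569974d9aef6fe6fd0d4) (.leaf 0x343dc80e0a907c1d5cc64bcc4234ca001cc4948fc466e71d0648b968fda1e54b0b8a2c8d46b28e67bba05cf1cd035eca34792d29031e2d848065520b45b32cce35980d08ce040b53c18bf65ac8bd0e744d9691584748608b43ff5847486024bc9bc5)) (.node (.leaf 0xcaac00c19ed49433698580fc4f480d0e95013b7d3641c83c6bfe6c6a4b23e24395342e07b29cc0e58a7661fe908053446842d49522dff132f0878aae963a8e7f5b4a46503bf24fbb16a56e14c4d49b1c0659756c746a93eea082dc746a93458672bb)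 (.leaf 0))) (.node (.node (.leaf 0xe9bcf08f6696f7937d6dfb1815be93b5a4ae65bb8cfbc282505986b65d9596d03908f18b7bc14e93f319750596806d1e1573b0ccde5f992850e21ede513be51eea66bfccda4188d1ceabf54364d5eb51599f6256c438a280209ee6f8e47328b0218d) (.leaf 0)) (.node (.leaf 0x17b18932dc631e0325078bd6f9650411d6b19526a66417e5123bb76cb65dad958f726b209b631292b60166dbed58cc0f132228d0d378d13c94d20f3188bd97d6d6318d198c38b20d910ad94f05592de1a961711fd25c8bee11cee8950b215ed60e06) (.leaf 0)))) (.node (.node (.node (.leaf 0x68056717a583cf4d8919740e2450dd6c513a29f057e98802014d382b283db39ee3126c766f48ef619d9759f90fa26fddc9b4eb271be977d3d0a0bfa79b8b49fde5d30c85aa28091ccf9e8c0b01d8b98461abddcd514551b6ad00a51f98bcec7ce3b) (.leaf 0xaa77814fc0397fc0cd10cbc44f07c94aefdcffb4798a7dc9d2943cd1ef5a707ac34fd2d50633b1e0c54cad72a05dc10d84929eda0a23ff99fcad8891f47b1f25239c4f28e496c6531e0a562100a3dd7a9fe6d476c67284d238bf827998cb60c85531)) (.node (.leaf 0xe11e6f832fc3c0ae5006cc83e83247b30cac3f0bda47d2e9a69c175cd8f88b89d1b26028c563830ee3bc82449d6ed65c6cf1c48e404e00a889c8bf23e498cce2a05ba1bbeee2105a0f80230eb2852d6586f9fc748aa329ec31c3ec8aa32949bfcc4d)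 (.leaf 0))) (.node (.node (.leaf 0x43e55dd6a05668ed6f4d30e983d8819ac6efc2c5b697c56514c75674af81ff0eb9677d2ac55d7db44d50c2e2588226cb20e69756af3a0c32ffe6f3a8e4cc9ebc4b538fb3a4922a02aa8edb75247e57578d9e10ce081ef29cd38f3a8cc2d40cc7074f) (.leaf 0)) (.node (.leaf 0xd66677e2037a3ee2a60da21dcebc6b468ce8439b08429adfc2c1ae4e6869d1e548d65e66a116cdcdb10879df81078e80be29ab338bcfdb3cb5b7bbca1af06ea8e4ee41c89d8243a43f60fb2fe8bef9d3865f038628dd7e433383e828dd7eef24c81b) (.leaf 0))))) (.node (.node (.node (.node (.leaf 0x6b5e279c29f731f73dab31b2737763aadf25b45032df4159c6eca82fb144a7b5007313b07d216f782fdb9decfcf408d6d5ac996b23c737a828f767043ccc1b09d0e1735287422aabca8ebbd6c91713c6154fe48f116ae474c2dfce608de8701140d4) (.leaf 0x79d8dde1f7d8b406f6666b527a906b0515addecc9e59d24d8a880e74ae7de1896033f0a76fae8bfec3902cc778000feb2af96554638cc6a074650a42dd22c88546a1eb9c17c2bb9eaf6c64db3693760c41f7018ac164390590553ac16439a1ebf3d9)) (.node (.leaf 0xb0c972eeac3df5a4a1cfd4485e2f13c94bf1f6ba581aeb6ab6e5cf23bc1473f7ff252caa4cc8ab3d9d2e8b9c90c0b9a45fb4de6dd5d1e0ff67494f2f11ca3e01e38d117178611f0e0847d8e876beb418df6534d8f901d69377fb6e1f0bc7dec2e6fa)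 (.leaf 0))) (.node (.node (.leaf 0xce6ecb359fdd818ff85807629e874d3f06d192a4fcfdc3b73d56eea9cf016531db9ecca82dfb70763b6e0b449f0f2f1d3454d9eb5500281109763ae4df509147f2fd1bdd3c45a10cc10dad4ea86c69b00d354fbedb971393d17c8f1707d8a0804562) (.leaf 0)) (.node (.leaf 0xccddab8d03de6074560f44b45aa4eeb690039a45a0b00140454e38e8de2c314395237cba21bdc4e416748b1b778616ad08f74e844f8238607cbeaccd5ec1a45c73c10c773db4e86d1b87a6556c7ed33d02767ffc618b73cdc0192c618b736ee72a15) (.leaf 0)))) (.node (.node (.node (.leaf 0xa9dc35dfb48501a02258569dc7491d0d4f1a65fd55f553c53d52fe11f13d098c2f71e7a727936df242d70de263963320f039df2bedb38d5758e6f3f3c0300d8ba0fa7a9895065176cd8406915d1a3843831e9224e3b1402cf7e475bccf7b0bc840f6) (.leaf 0x6451b4166231dd9b548d377c34c60cf86e260ad3d2894f6c6f834f37048f2d14af26377f45dfa78abf11eafedbbe2f7d58a1498c8f78be057cb8870801c624a6f3ebb8336e210642deab797a73bcfc7deeea9e6fcff9840f332fb9d4d0f05642efed)) (.node (.leaf 0x71c478543f9db4076bf4a1062957876028f897ba7af9b8297de459d5f1d4495352fc8ecff1e4fc7d64039487103d00e0bfd7fe501b76c5f629da91ec7d9ded86ef77ebdbc7c05c2333700494781e72d09445cfbeaefed2764389f871cef94455f7eb)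 (.leaf 0))) (.node (.node (.leaf 0x39a1f8ca85ba8467861e4f97a1f58e7ef9da4a4338b0dd3d92d2902a782bd244a9b70d77122f1b8af26f13fe32d7f02f4c6666076307124e658e0228bfe7548943c49a1d15326bbd94e8f48afc52806962d817a1f27565160a5d5ef00d0de7de1063) (.leaf 0)) (.node (.leaf 0xbb097a6754676054636ce4a17fbad046c5c66b3398fc2b2723c907f221042aa1e967060a2698eff855940699bacfb45a54fc51698c6d731a9fc03cc8df624480fae3281d5c34067861aa724d4265e3e1a5ea2fa81a6808eec991941a68084deda74b) (.leaf 0)))))

/-- Part of `genVals`. -/
def genVals_p0110 : Tr := .node (.node (.node (.node (.node (.leaf 0xf7c0fe2071b97c75e20222b3bdb219a6dda3f166bad9cd9d046a3866ccab932bbfa1f8584cf38ff3bfaa212de3a48bac4a0b24e788f90f3c2d4a9124c4ebb033d5626ea4d0ee5a154320680620a36e2aa4bfc6843fb40666672291badaf56419d830) (.leaf 0x992ec48236e2e8a6644808c2cddceae3ed00392e506faa9b0374878c536ade424ef49c49a33205366018ff51d545cf3cb0b53a95858b4e5c99157b0f1cd1802cafb2c846c140cd39d203ddb9e4f6c354cda73cb860f5fb039529f060f5fba23a1791)) (.node (.leaf 0xdd9de6557594d64da012e583a0ccf681ce918035ae643ccf5986cbdeb4ba8ce40fed69ef433beae69ee88c3c0fa5d1b7263e3191fb91eccead842d67aeea5a86f148debfcceabe30f5f06e1e2c0bec02aed1e4096a54d45e67f30b832e34f7ff3d88)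 (.leaf 0))) (.node (.node (.leaf 0x365a8a294bd6e30654b9759fdbe40b468cb32f51f051e64f41728df010e44101a228a960a31777da47202074831c4edd533831b6c7edcbbda053d4ee596510ad9bf413ed62e63dee3cc30e1c5ab2a94efc5453fa8b566f3393dc3cacd70dcfbb657f) (.leaf 0)) (.node (.leaf 0xf757dc47f7d9b0e94332caef36cc39f832092885686861c2066f97c4de065f4ec9057c6963234a2ff45841a9e002b70e9c1dc711039f269026a8080459a6b8fa9a8d840356f0e779df07e5852439de2c49252cc4d4b9a6840518c0d4b9a62b430de5) (.leaf 0)))) (.node (.node (.node (.leaf 0xa5c85859c8170687f08509434b7d628020ef98e1fd226417e962dea347cc1cc5c6964550b02872f0eee5565ec0c284d7a46f205d64420848c1f1282995cb75a6832223940b4b70a5cfdfcb8912154e99406af5069c20e8cdce6d6dc72aca5a62d901) (.leaf 0x8a73ce1fbb499ec9c2507c272a688dff9b2549e6f03e466d88c4acc3341885e3ccd093cf82b8094fc717d80920233db6f74302a82b69b46040b8af04993fea12e3ca11b5507ccf140ee557288a40f38f92e5f8446531c4acee05d4993cef173e9195)) (.node (.leaf 0xdbd111e9e21efe45177a86d095b0cbe8ca86909b4e9cda16a1d6aba8e50b1849c36d463aca0ba5eef4e26390868c995c44f0b078ac195dd8eb397d4477b326f042e7e24e2cdcc1eb3b8fd1bcd6873c0705df09ccd74c068401c5e4d74c0629f34b87)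 (.leaf 0))) (.node (.node (.leaf 0x307f80fb3d87c69a1579f81d07b5d48f4e536fd952d6245407762042838c6a736e676fb3a1cfa6b89a6af5ebb40083bff1b6244de3a7fbf921c4e3e4228b88be44a090be910692f17ce26129c75dcf1a548fa4fe0eb54ed850ff2f390f5414508668) (.leaf 0)) (.node (.leaf 0x9275758122ea8c63bfcda62b6b447a7dc68a53b5d69e46a0e75ad9be570be42c58df3ade1846057dee364e46e3c66ac03c2610902a1156e8c8220d4039a51eb29d7e6727c0ccb9a5d50905bd6cc3a08da4a6e8ec1c2d31290c854c1c2d318b92f20f) (.leaf 0))))) (.node (.node (.node (.node (.leaf 0xfaf1f95632351da9ef6196a2f71502c36e7024cf6fdb818883480bbb59d49777959370d8adaf687ed8ab48f3a7ca07b15bd555f0354ca4b06068396f666bfe0a7796532b69de3e24b080b253e1e25a8490571035bfd1d6a73609d9fa439b4fd2e8aa) (.leaf 0xca6d0a546debe1156e2847d8b6f0a741d492ccd049aba80a1fa066c1207bd14fe8d8f810fc28c1e4ae8852ac0b0abc63110a6df88aaf64b9f6563ec8d212bd48316a8f1ba539d107b01d3f30c191dfcf40e5937096bf7c055a83c0d75145b252aa25)) (.node (.leaf 0xd77405e9dee8b49b30e83c7095ee47f843be7f745a7a8309f7ebb213c91828176830326b1d35cbc2a3274e0f3829f2df08d3dbb6dbb8bff4c3ccf80614909ca3c37e5a030d1c907b80c12ea106bbd3c8ba70695a60ad28a4230786a327ffd33a639d)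 (.leaf 0))) (.node (.node (.leaf 0xe40c605a2d45e1fed5e8c0c843d3b14cf9376ebdcc255d8b4a70773a485995a15713fc3e74d810e043b5d79aaf423dda01f45ac3df449db7d93c7e77bb99f6253ff2c4104eb24ac98ee89ba330b5d4a09531fdc8ca1f88a9d3069842942c1c36d1dd) (.leaf 0)) (.node (.leaf 0xf4ec4ec3a4c56c98945600f01d9495440180db3e5e9f142d40f7a80cf99db18bd9453e7fdf81ea38577cca9defc54e9064a70274ad6ffbb468e5f7c108c8d67a942fcdd850f4f9f920899bc52095cd0b0f0db1ae79053288699d3c790532211d86bf) (.leaf 0)))) (.node (.node (.node (.leaf 0x9dde38828c2a3dd538c47c5a3a5a9249e0a9e0fbc20b95bb5bddf198f9047e2cd5c60d01faf54bd6078d3516a23c5ae5819ce49d195f54a6a84688c6337901b7d2759589525b7370843b6bc9a736e4af11ec113b0f6be0297d588f551182336a9ea0) (.leaf 0x2aa195cae95ab8d2dc5b83e0c8744dac4e44d5a79496cbbb89a5180ce1e0604d9f987ca84623c8a01f6cd1717b45e02750a271b68417307426c99080c9e240d3c60d8d3aa448ca7cb14941e24036a5e6039863cce78d5b0dbe06e8e78d5ba55e0001)) (.node (.leaf 0x9ab806643357d4a09197c3a3853a786cdc8fc6b412843d4da013a8522594c70042b6fcdf7ad2058e2aa6a5e5068e9d4d866ece680476650e35d9cd6ee8a70a23334dca6080786a81384f4cda681e7770c70ea98e103f2b69e980da103f2bc451626f)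 (.leaf 0))) (.node (.node (.leaf 0x50763528f38407781b9085cc069373e4134c9b1dc7cb6adbe07ebbb5dcfb214a05dcb024513072f52ff61368c04c2009f44070c876dc860e04928e8298f7f3c05634eaac4ad6ac5f8a350223723a426607a9344fa37f44409e512f208679f1f481b5) (.leaf 0)) (.node (.leaf 0x93afda870cadc430809ca83405b417e4ece0527eb676b3138f18ccf45a60376174a8b4fb454fa9dc96d2d0ccd6000292568831d920b953005032c32d9a5292403e33c7d83d0cbf5ed58b4409543d9ff6aaf11ac25bfb9a06d58f285bfb9aa343322d) (.leaf 0)))))

/-- Part of `genVals`. -/
def genVals_p0111 : Tr := .node (.node (.node (.node (.node (.leaf 0x739435bb64758417414e28b008044c531dad2b9fd03ecabe7691ede6fe68eb6dede92e259f984b092bc64c78334047261857019602b62a2ba18d5c574d582bf2cbfefb2b19bcc35c92aa3db2ae76552c0b0abcabb50b0039b1b339c3c8a581906ea4) (.leaf 0x33ffcf4ffd0624c586078bab0e401973ea041279ccba0da9868f48ac76f0e78a0534a09171b84d64704c8fca168adf20fcd263d84dbc0ad4a3b6c3c0c24990bde135ceca72f03dda9c0ada05741c361e812d408c10b08602a5de5010b086a5deb745)) (.node (.leaf 0xc6c64e13937e1728f96dac8fa55e73cbd0298d8d54c5f569b6e11df74cd98a448edf5e3a340ff3a1023b440786b937fdeb51a400eb46f77635d9b94d6e4a865c8f6f7c364050220125de3426f57dc655b153f19de8fd1d78245ef7f1b04ee635dd2a)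 (.leaf 0))) (.node (.node (.leaf 0x5f0b504ed214f6c213f8fb2e75aa5f948b7caae18f17b5f3ba2dd29d210f3d4ec46f77074e5bdddd8c5251f9abda875158078c7b589b463f649e101b1a583d19a4d9d79cdcc2c9d1f9d059fcd2e4352da0ab1fc2be1eede761c790c1f4684d927cee) (.leaf 0)) (.node (.leaf 0x19aa5e99241d2bddffbc1415ddfc0ff2cdfdd6516fb6c59ddea2f4eb810a7d68f18ea881c11a157b8dc97276958bae6be57784e814402dcb34cb67da6d5d59f0ed4ea5493de6be85e98bd44fd31efab9344cdfbcee62acf988c70ed04f483a8c1db2) (.leaf 0)))) (.node (.node (.node (.leaf 0xc4388e9ac74d104a20e809780eac015efdd0787ac0565a934fb6ce3a2b439c1635fb66015205eef3afdbc9e11e9c009415dc127fef1c809e8adf5f68930b46e06a5b4580dc1fd2d46c6a9c812efa5dd7a2d076583ae59a01acab677c51400b8219e) (.leaf 0xeba695c2520c606d2934a6e806b4d205966a8f6540887f2c2fe940e8fa2121e8aa0846b068a3001db6ee63d191c0cbb2f2647469c04b703250d4b3edffc8f638525b41711c7a0336624c5ff2dc8d4931cc1871140d93e4ec0200fa0d93e443a24d59)) (.node (.leaf 0xa52baf0f65ad5688cfce8d84a946df0b7229279620e4c36a60db6b88a25a30c0274b507ba3280887c1883c4ca8ecbb792e804905c6479eea8ffec6267aea82decd702e3d1118f6cf5264ff2fd8b6ba0d2c16a606c30a9a2abf422cc30a9a8d3427a1)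 (.leaf 0))) (.node (.node (.leaf 0x7f82803a03952ecac2480bbf811593ab77d2b7daeae97d241ccd416662d248bb9bc03f984264d732a93fa35c78fdb68529a7e1b55aabb7f26b795434ab3e5f95ce1de6432eaa303610edc9b2bd7549e1276a68c54dcee840f650bc2d1800bc624f6c) (.leaf 0)) (.node (.leaf 0x631d16ecc3c9c1b0d483aa7d6f50cc41ffd38112027ddeee77d6377430bbe0f44b823817e0e5ebfeb6c9474ebc463de38d156c7e555d6cd06bb67190def77e70d3ca9ecab50a2ea8623d61784680acbfadb8375f25a518f4680a8a93497742e686b) (.leaf 0))))) (.node (.node (.node (.node (.leaf 0x51005e5a8be18f8fc58f68245fdcd2d25d6ae8cfcb9e7a6713b86b6cc44b4c28f3abd3c384c0d36e82a5ed69a0f2d5c69f3b402eafb401366a32e151a6845d8791d8ab38354e7b280e9490a501a7608b40e76d5591cade937e8c735a90b50f031947) (.leaf 0x79577d8a88235c67e106e85dd856775e2cc4dab49a898c0327ef561e7acf94e863528a3176cda091fdf4efca34ab1c0da2a1982b27d660501d9a4847231698dadcb40c66bf48465d7005b6a212513506cd53a5104cf788a9f6957c4cf7880b6fbbfb)) (.node (.leaf 0xd38703d9bf320ef420fc171206ad1158a77057576f92c49a67af8054c47fd7212a5b09e43601ae817411bd6d32636fae0beaed8c9f32218b94a05863705cd156a453d0af4c6e129dcadaf9933897b80f62c28c44c534cbaf3dac3978efb254c9830f)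 (.leaf 0))) (.node (.node (.leaf 0x7b7c1baafeb4aaafe66bb6e56efa4b2cf527805fa16e475656b4c2888630933982e1df7b376372a73014bda84f2848cc01599dd1ca44548e8da935d30fccfb38804ffd2c52dd5e041aaf69a0e9c8bac8a76512e325b462430df4a247a079a1d4ff86) (.leaf 0)) (.node (.leaf 0x69bac9d5c78d93ef9d4545342b3aa548fa855cfde0e97987f792c7e0c5fc76d46e68946850e61a04e9d9b6515cbb5f5a9529a1ceae72ead773497729a93ad8d5f4d5a318952bd03d32926cf292c2f0deef1dd4d7ab16e86d719d5ff9ec15b1d840f4) (.leaf 0)))) (.node (.node (.node (.leaf 0xdeaef2d64ca942e531ef906953161d56b817ae092ceecb70717fab8a5f18f6abdd4bd0e42ad27a4881ca3c023ee0a7d7ea003565479427dc3f0399a5ac7fd67646a754f467c1883511bdfb398018a765f83fff467a50de844a049185c70873fcd32f) (.leaf 0)) (.node (.leaf 0x371687f67e30a7e3fca5bb1108c8134046a1a2ae93c891c3e19653fc2ce8fe6e1881c198231026c3ca2478f95e453dc7d20feb4f1e60a0fc6044eef0cbdeeb8aee0489a5ee69458e27a0ecde063eec60b8763d992409cd4cbca04515403f2fc31b82) (.leaf 0))) (.node (.node (.leaf 0x31cc82dc1b2acd01f09d893fd6cd91e9310e1e02ee1d69ce7972f227789eb50903f38788ce8cd5472ea00381470e3f9b483fa961dd1973b8bc5e14c35e38559e3a12351100b2bcf6dbe2f2edd67e07bb6561004ce654f079c9ff9da6a54939788529)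 (.leaf 0)) (.node (.leaf 0xa4661206040bd8a061984f4cb3a8e7c87545fac7248cde0cc6e28fd08ede054b08a694b273b90438bdb0f90c104dee4fa0d0a568cda1a06020c2a283d4733088a775838a05905630a5428e4914fe5cf50803df988b0c5147ff047c8b0c51e22b2e89) (.leaf 0)))))

/-- Part of `genVals`. -/
def genVals_p1000 : Tr := .node (.node (.node (.node (.node (.leaf 0xe1b736c305c9681178e147ddea744bdf94439081e4d858748d7cad24cf302043c79f909c9b550575d92c00731ccb4bbc7c35625708d05d40f721774e7f6c687bbdfa450b66b477b039cb2e55408a4b53c932e3c82b687acd07e2224da43551235528) (.leaf 0xfd09d8ce83d80fc3e158f1b40ac879e41c692fc2c729ad4c2453c443291610dc9882c98da1c8310774c29031d0835cedca3bccc08aac744a0e4680f617c7c0a294a026adfb4dd65c9851d64f40b58ce8564d4641795e10dcd7dac1795e1adc18b59)) (.node (.leaf 0x7f25eca779cdeb493784bd0f99be48fa756b267ef673cf114ae34242c79627b7236a8d6b3c9626d9a7e9a70e768b43019fb0bc2a5fbcb482a3b80585a66882600e3cd50443d928389261da556fbe18ca81babf14724fd11f1107f01781d693883340) (.leaf 0))) (.node (.node (.leaf 0x6b07946bfffcc9b4c56d829ee28658506b451759405fdf3d2b79c6e757270551a763a53eacf412339e8050bfdc7bea4635fc7639294b20b3ea2b5a2405a6bb3c10485d1f54c77cfa27ac063a4c17be278048cea0799af688da302bf4e5a2ad5adab3)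 (.leaf 0)) (.node (.leaf 0x5c402f22081cc62b97bf8a381ed21523e1508e7b9dc7390289579f5602edcddc881c9d8f82a9b9ac89b01298dade2b7ab3c46c5984f95baa77bce417e67fea5167b838301582732c901557712cb9e52155935c727a8b7f582dcb1a442c0ad43b1d19) (.leaf 0)))) (.node (.node (.node (.leaf 0x4d2e687be141053f8d336e9cc6da8ea491e99ac0f440e38f9a8fde829d91e9a1a64dc573bbe22cddf9c0dcc337ad8af3f347f6599df831f019e18f2de97b5d293929d8f18dddcaaae7ff215d580020b7c7b2fae2a18b8e34f26193ad0ce54d44a770) (.leaf 0x5805d58f015ea449649ac4cfcad88954edc846e650e88efa8ace6c984285c88fc18d449e042d8feb00bc4c43a60647118089968581f347f88fc6680a453b7cecfd4dc44e7e48a88bd0cf33c9849b91c84c8bee485f3443c4c01cc45f34436c9fa5d1)) (.node (.leaf 0xd28f976b392760353593a3c92e74f73618e76b108862a822e1efc44689e6364232089e91feb3a01fa7965a613f67ccc966ec9b6f05d1e3301e4d6a0a94ff3c6b0fb5c96613109eb123a4e5f9f83c3a546414e2a889cb5b62ec8cae89cb5bc51db6db) (.leaf 0))) (.node (.node (.leaf 0x233c7b6d5d980a5dbac0c7fde2d57d2709b119a957bb734557b8ec59afa1ed6f4fb2972f1763afa28d11eb7a7a4da86f55182fc7098285f9e47ec74a2f5ecffeffc0e6d03b3367bf254ae89d35494a2f24511c5b19f0746dee46a9fba1192b29879c)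 (.leaf 0)) (.node (.leaf 0x222350ac2bca11d28bfa06325f7378558e308dc1c6e7b660ca4ef3edb771cd127a6714615ee5a5b4d9a7f676c08fcfc9c20277867a1ba8e4fe051cd714577ce8247690f5ad568c01c8d75ff06964addaa0d1d079f2517ce30aed3a4dba2330f407cf) (.leaf 0))))) (.node (.node (.node (.node (.leaf 0x9a6abcb7f73acc6ab80623326bef221ffb7769e5bc028157d6417d9abdd835456492071dd8d53dec42d4ac57ce6f5a62648dbfadc114194ed22edf564d0570a2e1c9befbd572ff0f3826182656786fc64f850bf154d1a0627b8ad6d64e16891b049) (.leaf 0xa8e0a7cef47f594af327d0a8a10a015560aab640dd292dc77b876ebfdffe35c736f36d4f4418ece1054d839025c816d88d01a65ae188fdc1ed5c1a08cd220c5a5da6ea06cd75d5f563e0086444c6130c3dd40d482aa134c930bf68ce2fb8a705df78)) (.node (.leaf 0xb7f2f3b7e4a23b8b9695409cf22b2077250e3876c496cbebf368ba293996ed21c9e191bc07bb50ce0387f4d26512c545b395d79f11b6afadea356686f103a7e3774804c3f2daa60e9a2be0a3dc3d1b9e39781754b95b33497a325a3adbe10b1c8c4a) (.leaf 0))) (.node (.node (.leaf 0x8ae394af0293ea493065988271344207b8286a17e17e5503fb1c3c2510c140bb1890c8a3cee3946392c9f354b684ce520d6f044bcacc7ff1d8740306390d2c448ac222b687c8270ba6059297adba3c777185fc42c361fbec1dacc54cb9b685007a1d)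 (.leaf 0)) (.node (.leaf 0xca74b7ccf6b1f642f2410968c30d7cd35178c7e16503cc37d5365d0d1f210a71f5b4497a66424306f3f624e4054a07ac0e81e90d071e7aaef2c57bf3434bf64ed590332cf6c7bb719ff14873bb731c8efd9cf19d35f07788234fc3caa1cf946e2a5b) (.leaf 0)))) (.node (.node (.node (.leaf 0x5f31efe4c7097a96456d6a8202daed11ca3ea406ba7b98447b01356301356ebb137fff93fd8e73373a528258d0034c6b08793c17963250d085076a398566c2804958b64fbccf0d5e54d43e843e73969e698530de40d1fe21ec4fae4333bfc1e1a02) (.leaf 0xbb5d4c0ec3e5d017bc716fc9af3a8945488a92710a4a591e2dea47ea85c0934223b30a4988fda5a33966f08ef72f2458566ba88c4708b5c25b6787a0faeade5747114ad8a436963027a569fa66e5fb8d46d6b300c143ee846abcc0c143ee2f5f2ff7)) (.node (.leaf 0x764b45e222f46c09cecca052d53aefacfac5dc2c409458df4ab775025b5cf709235db2c675a86ad9f3002b48b16952e17ed4e00fc277ee5cb3b3d5a991ae12acab168f631d8c7489ccab4c1f90b4a142469f9d6ed334b768867bf6d334b7c368efa3) (.leaf 0))) (.node (.node (.leaf 0x22cf5771fdb0ed796daa3db6b2a24d9153afe5f55846e7fd239c0da338bb319b3890e3660397088cecb7ca5259185db0fcf6203a842d1f9d2935ad0fd18428ca4f68b894115d72fe910303ab997a21f3cd2fc1131f9f3a20cf6bc1c6f23b9deab679)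 (.leaf 0)) (.node (.leaf 0x82e31c5eb52a4bb2161eba145c713d76320ac96244aa65388ed1e36d7b0877416ad134db6c260041864315d0bdb021525f1e72bbf5aeecce0eda0b833033afde5e1c6e572dd65ff85457492bf80e3d120547e4a8befc4b446bf2ea1b2296b99f0212) (.leaf 0)))))

/-- Part of `genVals`. -/
def genVals_p1001 : Tr := .node (.node (.node (.node (.node (.leaf 0xa37b37eeffffbcc91b0557a7cd56adea152367326d927bde0f7851b5938d15f847fe73bf878e78edcda77d30691a785355c6325f85944c8e9cf1354ddabda2cafe28ae9d06524fca8036e373417e60173a67103c59d1326b902ec3424d8eb20da7b8) (.leaf 0xa677dd4d6db8d0e894be4fb3c2045cfdb50f705fd468c27348b2cac03ebfc64cea4140911af887c1f660080c028d4e7ffcee61038bf7dc20ecd50748d09da4ef0b884e9c64547719d2c2152ef0dc23bc83bddb3c5c3df4c12f24f85c3df46dfb1605)) (.node (.leaf 0x8aea0601df30cfc79d8a3a9dd9905e0d4ced5442dea6977a9e7a2d7e22b5b49f14da21b1715b04c98b8bd80acc81f353d7ee7be6d720401ce8ce089110d51b6f07f0d6315773f3c97bc0fd52765ee62af5051e7079a1ae47d9436a23e2f6cd87db3f) (.leaf 0))) (.node (.node (.leaf 0x21df24ba9d62473755a71d47f8ab11966faf4463085a7c60a58875bfd4cbfac334e190773a31c8d83453d507951606ab11f9a1763a1bdf087514288cc8f98f0040a440492e2854c963bd3b5bd49026b00d0e088e664ebf6c569974d9aef6fe6fd0d4)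 (.leaf 0)) (.node (.leaf 0x905a741c8600b689f391ee108b745f7b718bb2a55557a4da94b231acc0dae4a2541d9a0e2523981124abdb95a0cbc9f286689809779dadee75d06b35ad9163ce3cfbd7af09f172a2319b58ede422aa640f2925d8990b27e380255813397c1a0f68fd) (.leaf 0)))) (.node (.node (.node (.leaf 0xa38387bf6018a9800bdb15dc55dc8229f558d3baafa00fee54f3b4638dcc52f3e5336022d7be9ee82a31386993c2e9775bb5949a9015ccfe91e8ff9164a41888612406f48126b15b0bf2503d932be4bf870073188bdae1f85d8886356b399829397a) (.leaf 0x91e5553bd36156b1a5434c09574c0ea673bc1d33e18ee1781856b473ac6702f958cc170e3f1899cec899fe6103d18cf183e233d9ea2a6a3775959c77a575078436c3273e6a589c990f46f9692c596e63ff77a37e9165b416901900bcec3fade60e8a)) (.node (.leaf 0xdda5566f6f81f0cbb24a274ec7e0bc2647ec7427d22aae70032e33c014d2de0c5519e0a99dca09fa32f4a336cd48b611420d87142a8ed40cd526db8f1c30c88dd0f4e38dfa8a2f1f676b0ca3c6be7436c7c663eaee69beca76a98eee69be60cef281) (.leaf 0))) (.node (.node (.leaf 0x61baea00a15c2fec53ba0389d92097a2c7da1c0ce3f1ec7a63b3a7bc868bd3d01f9513f4d2d87518909fee765cbfc20bff116c3d0dede2321aef14e6229dd7540f6fb89a2721b0f733f99422c7591abba253e7282d099322bee6a387937854cf79bb)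 (.leaf 0)) (.node (.leaf 0x338f426806d12a2349cd4691807409fee28fae74326c5b97ec05a6b80e2472256693c2e0c90127a7da7e0d34f126364fc090151cc553c22ed8f979e807c3288ae8344662280aca95f1c8631990fccea9ebe87ea4c690628f41891ec690622baf9079) (.leaf 0))))) (.node (.node (.node (.node (.leaf 0x85147e12422654abf5f4138723bf6a9943e993da518fdb85023ba3873236a19d369a9488b849ef54c22e096c84f4fe9c389af4125c5755cb64021839f39fa64c0c1d758e7752cdbf1efa68fb8f1c580a03a5cdaf9a8c88f72800e61554c595a9a44c) (.leaf 0xcd9dc6ac0d0c75186bb8263afef9ba71bdd8656ee651db4e01e3ae1182ecb2c023dbcbe138483754551b7571c9fa427c42d56010198a4bc08122b1a74ff8870b7e973e17b74ce7a96435d46bef065f08896a85d3a43eedd7f20ac1a49ba703ae7d83)) (.node (.leaf 0x63f7912740b1333578197dd759ec5a50cdce3bdf1a43a0fdd8a04b6dfc5be7a07156b9907b2fabb69ce367f749c40f347d3e9de2c624e1b78b645178a7f6e85ac18f45add7e072459f3b732d8c37a1d22a1c9f750532000517e2f2d262fdb1cd14bc) (.leaf 0))) (.node (.node (.leaf 0x8d82522cd1ee864de39201e494564a6bdf3a6451358aa7f42f7dbbc630488f0c5325112e9991730a4c3f572a8567d8a7d4e0627a2b8009898c8a4d0a569c960837652ad3edfe171bdf82eb37bd1358b911fe381120efe965b689d664f3805b272da9)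 (.leaf 0)) (.node (.leaf 0xf0a35685424a244cf7ec628d883e0f429b2d8123fee0faae6ca82b60e0901c439c40b6ef2500e27488b2a1a59620f3bec0fc9dafcf2038489b7120a8ac0faefc3ed10708626ce804a868f3482ae870c2e86d59703844b98ab66e363844b926572ac5) (.leaf 0)))) (.node (.node (.node (.leaf 0xf7c0fe2071b97c75e20222b3bdb219a6dda3f166bad9cd9d046a3866ccab932bbfa1f8584cf38ff3bfaa212de3a48bac4a0b24e788f90f3c2d4a9124c4ebb033d5626ea4d0ee5a154320680620a36e2aa4bfc6843fb40666672291badaf56419d830) (.leaf 0x6d9b71d082ce4d69ef4cf757493ae4e7a5e423233a9b465b227de0e3324632d0ad38e33072cc2597c29db730b5356170508cb1c308a3b9a9f5d8280c4bc874cda655729e87e1935b36277392330de6e6619bf9ebb196fa4ea83cb94e318453ee4695)) (.node (.leaf 0x62ab52ee15572772741c0537037feb190b5d342c2f9d307bff03ef73e88627c05a19075805a86851be79653738446a747cf9a5ec7c741520b1b73ef9ae312f7cc211cc9ea80092bac36a275bd73df314fba66112e1abe52ca104a63e9bce115711cc) (.leaf 0))) (.node (.node (.leaf 0xd1eb194bf81c146467cf11ccef4b67c78111ff268c8c9711553f3b65eb53b1e29e37b33ce9062da9d5fe0bfd6a58aa2769b069dc286354e9170d05df6efa956611179352f51dfee7c2f1f8dd334d7715dde534dbe3840ce912965574bc75b7dbdebc)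 (.leaf 0)) (.node (.leaf 0x205c5ef5c7a84ac52622d414234dd15098ea124442182c82da6678adcba0cc15be0ec1b3b0a05d42eda4cbc7145468ec2cce170ef2d854ac242e56c622b0661c55b06a3daa6392bbc04d575d031dd86e8824010ffd69ec1ebc61effd69e649ba3f9) (.leaf 0)))))

/-- Part of `genVals`. -/
def genVals_p1010 : Tr := .node (.node (.node (.node (.node (.leaf 0x6f2b6f442553da07229a58f6ba81963a0d1fd3dfafc857b359d76c2aa641e5e3434ccf5230d23245272984658d1a31512c79ea484c4199e1ad35ab5cb3806a8aaefc40d4f7b5c30e92fd1cab37a4148a224a1e496f9accd55d73dba49338e7a2245) (.leaf 0xf4b00b4d4e20943b7b39c29be9e8935d8e024086c4c37650cf863a4036b126452dfa5c8a5b1ccdcbc2d05d544806b4d0d02733b6056ab178c5172981fd19ac3cf1c3cd76ed0cd0c0b389863dc8aa2f05c0b34d34eb0e2547d7fd60eb0e25e4588651)) (.node (.leaf 0x730f3f5a16eff843dae2fa66cb1f9a88c95c477585400c01114f35585da66744c5b63d0b1659801cfeaa584dd63efe677e3b2ebc43a0ef1356386b4df0f072e80f130d1c4f859c300507b2e8a2feeb40b8ec28ba350d3b5b353e80cbceb59e85a985) (.leaf 0))) (.node (.node (.leaf 0x518d6f3b12906ef8fdb68b3009aa8aefe3266f9c700ab6efd3a588b75883de4ea346210a4d25cc0b733ea3cc2a0e14149382117b5368cf63a3d45be40ea6919e551c46ace5fa1558a1b504a71cf408e72fcde87da38ac3249fc1e7afb71d404efd8c)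 (.leaf 0)) (.node (.leaf 0x21212b403a1e245e942d095eb856b7f9800bc3a55043d6f6cb643b8c5ccc0e831b2264bcd521a7c3910e3af542eb8723080060c007017c7a81390d84bb82be2718b523ef895c961be8ea662dbc76aff12d6a6e2abcc73f20a3ab0abcc73f8301cc03) (.leaf 0)))) (.node (.node (.node (.leaf 0x51005e5a8be18f8fc58f68245fdcd2d25d6ae8cfcb9e7a6713b86b6cc44b4c28f3abd3c384c0d36e82a5ed69a0f2d5c69f3b402eafb401366a32e151a6845d8791d8ab38354e7b280e9490a501a7608b40e76d5591cade937e8c735a90b50f031947) (.leaf 0x9dfa196f66f5818af8f5a30ce86e1a0c1f7ba6513b5c497cf92d00e141abbc9703c6696432a20d21280f64bb0a0a3b9a03d2f32bbc8c97cfcceeb727fee61ab8d6b50fe465856261c7aa177b1b0e65bfeac7ed058b7d4e3a24f2f9f71375bb4206a6)) (.node (.leaf 0x12b1094a65b7ec727eae6d4edd585954196ff3f93edb74f9830bbd109625aa8c633472ef2b292138ff6a6b0de0264bd2280e6973601f93d458d32b01129cf853ae6680f91da2268e7a20f217820168a0eb2ae8f4eeade402e84fd6eeade4aa9c3ec5) (.leaf 0))) (.node (.node (.leaf 0x7fe3c9c2a8106eb421380b50f41de1edad1f101e6ef436510e462e45fc64f9fdca9719f7bd822235d94f1d67652375f60c6beb27b3966468a0c6d9c90177126fa630f06f02238009e7f19ceb5d21c2d415db828eeae15188c4e5f1e8f624c6eff620)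 (.leaf 0)) (.node (.leaf 0x56544ec24a69ee55c3780e23caf63b8bcca7e818b8a8f5eca337345432b3e74cbb9e9eb3d18c2fa65ea4e4b586678f60fc60cab200b15fa01d7c19a9c56d06a8952f8d2449da274e17ae44f646e5cad3c6f1da7e0f4d66a9cdedc20f4d66090781d9) (.leaf 0))))) (.node (.node (.node (.node (.leaf 0x6b19dc4e056136a49fb031f7e301f898d0d6e9289d952a53a1ff72fc5ba43b5de727e6103ded6da80e0a0da63113fed538d60e4fcf44deb37d373c65c0e1c8fe96c3889018b1be820c109fc1571406ba494374d9437d61d134f00f5be3f85c5bab0c) (.leaf 0xe821afe0b8f7d18f0756b76c965551e1f942ef0df2edd2ebc13ed6c14bb0c4cdf6f9be919c477114bb073778a0697bad0f1d12e54c6cfc282a90bf60bc5bf74c314124599591c8fbed2f863f8679eb2c9d0e58dfd7a93297d5c2d8cdda07408ea7cb)) (.node (.leaf 0x1fae1faadfdda044ac142031cb1a053f3663052fb02ca9a2ebc7f9e6b73234c4709596dad1aaedd76ece48b96807b64da6ba1c2e4ea4a636ad99ec896229a6b73f2e05c5a8144c9d614d6b6e664ff21304c0bc2c298a1d021306f8298a1da6678319) (.leaf 0))) (.node (.node (.leaf 0x752ade502d49b3132708e07cf999f069afd17f2bcf40486208f67406d163ae7fa72d5ec1d1b5fd9eb500f62258a739f25f3bfc80fc92d1453869bab1a39bb5184a8af8229315724106f9cc7c7f4efd7952a6723d82587977769cca8c03b0f21935ea)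 (.leaf 0)) (.node (.leaf 0x16f781612eded082d8a94abab18a428595674b9532bb9d81459ea7fa37752647e383aa25fde86ff4f56ca74286c0d1bb803befbd83f80e2a33620a68f6022a71d97722ed68d6838d50a89ee0b2c9834884a1b15a547f04cc085b14547f04683a8a63) (.leaf 0)))) (.node (.node (.node (.leaf 0x7807518393412954b10f4e025a471d192ff541a10e9d2ae66ee3e199518f5c8d0c945d5b2ef5b8255789b143270c98c9cb7e45cc01433b6e0d43485be1750389057fb89b16e6b3bbc6e32eb206e449064909793fabe5673b45add0f88c3d8c5c6e0f) (.leaf 0x65f813ccd0d0b8ec7e4d8938a5ec4d5e68430222e8c121144c7e5340585e664660062c70d326804586d488e904405bf630b7e860c6ca5580b3b88dc01cd30cf2a154cf309570ef5d1ccb92c0c43abc54c44dd58422a34583b4309822a3452822d111)) (.node (.leaf 0x578cd74dbff7a4d6057aac6c03eceb25e5236973e0aaf878e93f27847d83ae221d028658221b01f061dede257d4423ff6a0c2107007f1a1216f0cd25d594c695a408809c7f96b15fa0417cf04414e7e58793fae0c85bf62535fa6ac85bf68c9aad51) (.leaf 0))) (.node (.node (.leaf 0x192539846a15078cc88a9983e126b5bf31ac6ed624141c8e56779422554c8a9d6facfbadd36ae12fcb127fbb14ff70e2484ceb143c398e4a09f029b0f6a5bb5f32e140ee84f837d7c3d67ee150c15422315d70ff076137f8828c2beb92749b26999f)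 (.leaf 0)) (.node (.leaf 0x24b903b05af7273f7c0af5af59ef0f945f2e67fcbf6ef2169a4c1810deeeffdf31a08f28ca5680dedc09e590072c319185a42204aa451357b3684ab47bdbb05d0f8afdfda1570177db0078523c88903ee00e6decb014a5b1af8cb7662eb0e91ee2e8) (.leaf 0)))))

/-- Part of `genVals`. -/
def genVals_p1011 : Tr := .node (.node (.node (.node (.node (.leaf 0x6f2b6f442553da07229a58f6ba81963a0d1fd3dfafc857b359d76c2aa641e5e3434ccf5230d23245272984658d1a31512c79ea484c4199e1ad35ab5cb3806a8aaefc40d4f7b5c30e92fd1cab37a4148a224a1e496f9accd55d73dba49338e7a2245) (.leaf 0xfbc235476a5d70190c1d076e0604b72d33870ceb749559148d07fc982ab97f8160d60866c6408d2649dc2d3e11cd8971e454b4a14ee5b16894e1f4c1a5d924aea3c0c1cf5330ddf1e4c121973cb00a1ecbe51d74f03939408eabf8f03939e63824f1)) (.node (.leaf 0x2341ad5d9f60cece3fd5925d7ab188712df102d7a3c82c7f43a5c5504e92487af27a9a827b499c69a984b230c07c27bfa5820651f4a1b564ef9eda25abf3f09d24f76077f68c104d8de5fffad684def9e260281152f6f88c56f439b37bf1d2fdc50c) (.leaf 0))) (.node (.node (.leaf 0xa528647444020f0da22ac0d208698426f536a1432b25ed164cb62149c02d000869b81494f09e0cf07049c2aca29ed876a21cf9f3b9d83c58b4bff1b05a526aa212423163d740f1361bf61d74de2dfc8d472c48fd39b5a2c40b3873c4e433c907269b)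 (.leaf 0)) (.node (.leaf 0x2c0f5e1ad5c6436ea06cc52399c43da7073e4f9b54a1a3833d1ae21e45288526896b5abd59ab064855c3f8842db9e011ce71f3b9a4c8532b2bad3065b53c8f024c52724b56da151f2ff863470a3c846e3ab5137e4ef995d3a6c6b340db333e244047) (.leaf 0)))) (.node (.node (.node (.leaf 0x9dda840a336d2cb6fa22ed6e3ab61e7b6c001b00a6105d44778ed2683e3a53b73bf51d47140c973aeb8b90ae09b5bea89e879aaad94afda3fa747388e113554398aa52aa3e0ca8a14db7c7b0446d99b4f7dbacfd002098a7469d36c719ab9e4ca87c) (.leaf 0x3f726a9a377eb78badc43ac486176f9af50f6f1283cb98cdd3f0b96f329a3c458c9b8855b9a84c58470e7cb975ebc3e654c815342feca1fb6631bfff998f1f46904b0e309d8929145bfc22564b06d0e140e0d9bfb2cac5a834f0e030b42cf13125e7)) (.node (.leaf 0x22b5c1ef8985f832827d624f23f0445d26ee5355c249b6ab88f132ee46b6b3aae885487ed06dcc536b1eb1e2b486e90c56ac6fc1a908b0d2d6d8b9035c575e32419fcc6b255c01c7308a81db88d6d266604aae7cb159198747188cb159192513d759) (.leaf 0))) (.node (.node (.leaf 0x30671b77bf1ee463ef8fec58807788e6921c81b2e170f7f7de0ed916664be75ba47ac7c71377bdd90b56a7f893b0aa15288ce1cd085d2fb334be6b8d0980a465b29de4df1c9708f8f33a4857d941d74f6d2593971bbbfba5a22b0b1fd5f045737d1f)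 (.leaf 0)) (.node (.leaf 0xc294434554cc9557bee2d26d0f983b8234c595dbddb53ca81c04dee82565afb5336bd976812236c03bb939ccc2dcf7741c3c434504f4da1cc25bad744c06ac8e9c3bd9a0f2abf436f30c0c439b19ad60f382895477571bd099ab0e075f8b9e5c536d) (.leaf 0))))) (.node (.node (.node (.node (.leaf 0x2c0abc4a9902016650b6033eaea9df36bb0dd4157b40ad1c372ad5eacec28ed79a68b638c94f38c3603f0013bed801e4034869dacfc8b11806a11878c343af1a9c82f058026ef5b9945029345578d5717fb756b7bc56e22856b3260515077f200f1) (.leaf 0x67cd6fa0713ab405100dee9da5465f65546eece41e54706a69e9e5c043fd8a62fea6ead37ec5eaca29c468f21b4e7482da57c50b4d17d0264cb91ca75a5760d38b6d0f295b2e8a4dba02ad3df87f8f18c97404d6300d398704e95c300d39201cb5a9)) (.node (.leaf 0xfbc486980520bc225e0b41ecfd175da71e5f53c95c40075e98a92aa0046afa74729e83f8e438f3d9b747f6a9d119b886c0d599142c2b9e2d23c2799d3801f897c6688ba18e95ebcfc4e9b65983b77c66946b07b3ba511dfdd9c1784f1500e40124a9) (.leaf 0))) (.node (.node (.leaf 0x5af0fb000753754855176bd5a595bfdd9a15209be273cd48c17ef853a3dcaf2818e6d10db35f7b45cdb1381077590b992090b5cc1e3d78d3a6707f334265adf8425ca3132672c282d942d2f3f0aed6e8574b2c754cafd45c30d4f108dc2caaaa4b61)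 (.leaf 0)) (.node (.leaf 0x64b06599030a615cff035c70af95ad26bd7d34d9878a25b7fe1a0ae411f6763fd155796612e3b279f67102054e69e76bd970d27eb6998ee07c1702b36ed0d78009ca71068a848b406ce2c60f72c548e2cb9850341234c2691e1dc6ed7d5b06b0d2b7) (.leaf 0)))) (.node (.node (.node (.leaf 0x58f597bda1986cf1bc4bcd6a96e4910c681781c162404ba630045de10aa6767ad7dc9ee8e6db6467ad28b414a404d9f909ca5ed1509de50bc98ab097781d17cf2e50f48c2554299286f11ecc4555eddfec57fc588415d1ae915e70b0eaeeabd2e36d) (.leaf 0xc935a0e8ff5b551dd99a02781b5efadf53565a397f616a01ae3df4fe57b3f6bad5e011109d1e7b4e5093b102f63df2a6cd9a92100f185c4e7921168325f0bd62faf1fc65369f495c7a5a4076c9655716eb0560304cdb458adfdb890cf1c6b40e1df7)) (.node (.leaf 0xd34ce51c61033dfad4f130f7d5c7c804bd170d2796bc9659624687013960714308bf9b7df1ad31fde7717b569ceca66fd29f927f55682f423b73042e8cbaafc46746af8f69f448c56e9e1c95cbeccc480efb51df4d794a025196e830d6dcfab17831) (.leaf 0))) (.node (.node (.leaf 0xa2c8ddab47adbfd69189652f3a62b269532b20e3f5b990cd9b1a2b3bb86861fc63f360e65d6b44604b96815b9fc98c56e0d7d512006ef96349ae3a70d8e6b933894294aa1b191565f4279edfdf002f0539ec3406a66d784391ef4947a8e778ac750)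 (.leaf 0)) (.node (.leaf 0xed37574bf9dc786a280686a9b6dc9ca3bc081d7310a236eb839419643857d900b61edc78f45d028b6e9c2e564d4bfd8f300ba1cb000e7560522beec8d5060c8d6dea88e190a06f0a5003ac9d305f46ce04d4527468a808012a9de068a808a8bf02a5) (.leaf 0)))))

/-- Part of `genVals`. -/
def genVals_p1100 : Tr := .node (.node (.node (.node (.node (.leaf 0xe11d5ef28abeec9fb6b34f2c273f4f99862413b868a8a8fb9cb94e6f08df80a8c84622ba4630844803ac4f007cf87eb1fe3bcd635a5b10e17084999e80ec1d1b21d12d78236b95428150c010ea354dcf8d461c48458932051d4d61b232f6d95490d1) (.leaf 0x4fdd7f48cdc3fc22f0ee866e4440c3cf8088a24588445cf3c1e89b0cb5b0cd8c4fc3bccc6e0c88eb64500266e2443d4978ad823481f733e49360d70bbcb70c030e080ef9d180f011d445a7e4e8a3f414c84f29ccda813448cbcec8da8134e2acd399)) (.node (.leaf 0x160370549535c7a5182da73dadd2502d21ff7bea19624a0b2630248c077fe015d4025ccbe730f309d167e058a4f23d078f777ffa1dbcc69f2a13d371884aed96056277b7e45d87c87534c0cd572135219c7fe5d81b318edac9142ff2814a15b862dd) (.leaf 0))) (.node (.node (.leaf 0x923f97a3358a1487d441fdbc05778694afe7d465aa25bace203f12895f698769500ddec62b7467fc7dfb6754d16375e90ef7e6b6f493f41e9d06ff8e6444e20d4c4488ddd40c9a96899c7ad4f00a8aad63a7515a2fbc39a3d32b0a1c8952b677788e)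 (.leaf 0)) (.node (.leaf 0x8f60cd21cec8747cbe628323fcce8080ad087f490ab381a6eef10dbafc5d3ac87324c0e28a1183839a3e302db7cd5e766a48de26015d777aa75ab86df25f4ed273924a4398ec3dd4de073a27a82e76c90fee32b60904e36ac96ad60904e3c5639adf) (.leaf 0)))) (.node (.node (.node (.leaf 0x94b7068dab0399083fca20aba7c24b7274ec67e88b988c3fda955cc54dbb0f14d9947cf8ec8f1fbec54eef1ad49d653fbfe7e09431a05e6334c28fa21ccc66ae0189991f07df95f1ea0a84b9cb156a7cc4fd903303e364f5486ac09281596007cb2e) (.leaf 0x4a936a8da9a8409721fe857c7e7c70b7be8ece6480c75183cbde3dccac8ba7469f24cc9af805cb0c2ba492ddc20aaad63420e4a8c87a7f5413129c465b2bcc4982688b0d3f4055ef8889eea86c323df9803b15cc81f20f446bced881f20fe291e201)) (.node (.leaf 0x8b17226cecc49c3c40942352ece233721d28ff6fe25d386608e481da6d1d744dd773ce90b82700ac371af6076dec7973325a6bee6e7b76e689df8e28a5d2c211aa3c8373f94095bec10f4aa832ce4a06654cedba018ae9a07309b2018ae907a78d63) (.leaf 0))) (.node (.node (.leaf 0x3fd5ae5f7b967c1282d97db7ba3f69c0a1dd3d1320380e952e7a3e3c78654efedfcfc4158e144cfbbed9f0c90d6673ed33e6683e23f32f25334c628469ddb46745876802892d4431aad3d74063cd8cd6534add58dada85b04bab261637e9caf49cd2)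 (.leaf 0)) (.node (.leaf 0x365a8a294bd6e30654b9759fdbe40b468cb32f51f051e64f41728df010e44101a228a960a31777da47202074831c4edd533831b6c7edcbbda053d4ee596510ad9bf413ed62e63dee3cc30e1c5ab2a94efc5453fa8b566f3393dc3cacd70dcfbb657f) (.leaf 0))))) (.node (.node (.node (.node (.leaf 0x547439213198f78b09dc15217829d717178507fdad7bb806ea1058f801949c30c5e80e8941f751f55bfe09ec0b900b0f47842d14047a35fc866f7e620c2768d200c6011af301816b9cc2203cc932f2fd1f43933c56a1554b3d59b52b2d95d27e619a) (.leaf 0x14170762850d42265a97716ed762e517247b17ac8bd5d8f5dc2b1eb68beefc6eb8dfe56b3143ada96b5745c7789e1a293396b6f3bc26b006061ada16eb516c55d6bb46803bd0c4be1acde66fffa00631357594a436144f521522a94277c03d17eaea)) (.node (.leaf 0xc4eb4daaf16607a312a8a89ebe894ffa3107ad12fc5b3bf4b88269aecb5c0647e6019f3b30a084f09f9a007da6bd0e4e57456c2e7662cf99c5664bbb261ef125e008bb414fad03bdee40fa0bd109ab33da176d12db37491bfaa15596b1d426a55c48) (.leaf 0))) (.node (.node (.leaf 0x405d883bbaa09d3b6c2edce3414936a97d099bd67456cf66e3c8bb16a4d950cd16be2ad16a2a95af306fdc4396a5d9d8d952a6abddd0519ba8a57cee56884ff41b275f4e0a4311d691bcc24b5fb54dcd91d0a266b86921bf14e66084d557e7e82439)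 (.leaf 0)) (.node (.leaf 0xea5a02fb974e040b2d48036732b197d8a7edfbb01baa00651c12542546bc8a6e56203a044984bbdc2c2f831be4be0f2a663f25c3a3fa8e3d63fe2a934d76eafd3965cd73c879f24cae12bd70f896cd28330802c8af52e5f81eb8c8af5244b7b1d5) (.leaf 0)))) (.node (.node (.node (.leaf 0x970b16a2ceda8d026655a5ed51e37b58e95f5e9b0e7b617036ab3d05689f14351bb3db33a5f34669047781b8c02a531ee193202c95dcca84bd5c5def3ae88bde19e847df7468d349422bf99fb5c6b174fcfe540f2c8c614d5e9fde47f49509dd47b6) (.leaf 0x12e3ecc2a19d9cc59bcc492ddd18a94aebab3e77ae6319d78a8aee92fd07696429f994b10cc6088d73145c9c6a47d0d7d0093e75a920f1a06da87884bd8ad2f1a9d80823cca8fc5baecee5779471cd3f2a6360b2562af2201e2604562af28cc9aea5)) (.node (.leaf 0x52303a8673ebee6052736253f1e09bc7156bf01736be327a69e8fccaeda00b8aed6f422d58e5c8f88a0ae5c436e6c346e00e68c4c2c11fbceb948be9626654755080e017508e098ecac8407a625bc0ac0236679ad3186761979d08d31867ce0168b7) (.leaf 0))) (.node (.node (.leaf 0x85856658f9febe8445a800b11fd9fa80ee90da648aad4fa1bf396819f03e245bcbe278a491bb1926e35515f08f15c3c1836efec5f0bb6e485bc23fa2683c01e95fb308bf35e23276dcd68a869075ffcab4362f284ae6931f9ba75e26e403cc026553)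 (.leaf 0)) (.node (.leaf 0x6f5afbdd0a404e0cce94b8ae8161d91b1e12b74182ee2bd8b8bd2bf459432fed33e3851a3c477140ac62f32b0f14b4a9e9f7907571590a9537d8adfaf1da6d16bc2a530fc160f4aa9d8ca17f0c4cf606220319ae5f58d293e2cd26a4e06d66346022) (.leaf 0)))))

/-- Part of `genVals`. -/
def genVals_p1101 : Tr := .node (.node (.node (.node (.node (.leaf 0x80ea8202f2f4a9ce1689b49e3ac63ff05ea3fd99b048e453e8ad677d1ec91f2229ae412f160baada12614961453e5c27bfd2c000d46a8e7278c14ca9314855b4b372848759c9b600d81ba2aaf6e8dc98e361d4d1966fd976b512d79f791f2a2c72b5) (.leaf 0x91769c8041fef45ff9feccbb25e0aac68ec061a38862fdb20f71fc4054bdf988f95b34dac42908ffcb9c96a7dc01411f108f88ad0ac1b89845fd9e831b0dfc68dfbfc3f9bbb8c989db45173bec360566475b6d0812156a4bcb8fc412156aee83d321)) (.node (.leaf 0x8cfe378b796add123aef409be14a2cdc58c17fbd2aa912aa189975acc7398750dad94d0af9950a60555d763b4ff1fe9ffe30dabae1bb32b048224aa078ef95898e9a8b2ad3d346fa61f664781617cb5287d1529300afbf7e041c5853a7a72fc37c08) (.leaf 0))) (.node (.node (.leaf 0x423d25a075bc646ba6199d2ec437820256f838e6a7317b3f743c20592c675c47efd83b2aba1b395e55be51c2d7d2df9ad0486a2c2fe0f1843ccd96ac31613af39c1696fc2b048f082030aa3dd59b9efd7af24b49df035fe25f934a37496e46e98bc2)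 (.leaf 0)) (.node (.leaf 0xa40296c4487cd60894e3e0356d7d631f5c3506eb10ec360dfeac20c72ac4c1c96587044a6c689f4749ef1dfec33836aea08f90fd1b593893678a28c8da1a6e3911cab1b8a8935bf3073898e2095db1f8203116d1abe7d6e0933811f04fa4988fed0) (.leaf 0)))) (.node (.node (.node (.leaf 0x2fd0f70282172d6b6fd21d69d4c5974aef2a9307a33e00304fc32173e249208952c2a578559793148e2d65756c3679a81aa93744ef41eada7543139f63ec360738ec5a073084c6a7e059ac5e6b4f5aca57277cf9f138d5f8829fe56cfcbb44ac24c6) (.leaf 0x2520529139c86c30060b8e8a42c8af99d82b4d15773bb4d656e96af1465a5f963aebecdf82bb54160d4c4148b6f562ddcf5b997a09a1b255b7b7a5dc44f9e6101ba9e46dd978f0c1726175f36e015e1ce8b30e011782146a0ffbc6c774f39a823b66)) (.node (.leaf 0xac121189089974cb774a290e1f6c2f8f054bf1de1e3d927821fa9bc402e41a26c69690a68607cdf1fea6372e1ac3a1d0362a12318643776e6f2f9668054de6b0ef88c094aabee0d96660045142bab51402c238d6beffce2294f33cbeffce8280682b) (.leaf 0))) (.node (.node (.leaf 0xc0ba3126a3eaa56591e9ee92fba1da1ded1e78a2e2ea99aa96ce186dd7a6d93043b421b3c48f49557637e99571eb9e4c1b34097c1007be24442b09c0ef78d508930f23b958c2ebd6f86dcf07d1a9c0bcbe906f0d85077aa44c784486feab638be850)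 (.leaf 0)) (.node (.leaf 0x5541930fbf036e134f1b8c74a7c2c3869d8f977dbc078caea9748518304a636e0e0efea01c19e637c32eecaf18e0ab6a70a40e6d837a0930ffd93a01bef05054c7f16fe8f5f2714a0d89928c9cc6136fc4fb7a961b2f3f4ebe076c1b2f3fe7156a8b) (.leaf 0))))) (.node (.node (.node (.node (.leaf 0x6ded9b90bc154328403230f1a0167d65ebc196df3e6eafc43af92cdba6b7baa7a986f42ffb419b7745f5da39a1a0021069f5ffbdd8f9dfdadd1f45a284a33aadaf54d901bf03c829a581e15c8a1d72b52dfebe5d9b7d40e141e5ee07b0ad4613905b) (.leaf 0x654f94587ce3a2e9c8eabbc0386129532475927968169f44625e9d8cd926a2e0bbe72269789ea538212debe9f4db9363e1522b2aea5562a9a35122a3b5b065c48108b78cd9afdcd74c7e10daeb98d3724c4674cdeb95c26ee92c0deb95c8206786d)) (.node (.leaf 0x9fd372d02cab1e55fc61e633b7c74a89bd5e0d31a701ccfade75955575b37d41a892d66ece806046261580872830e9eb0cc5c3cec4c7dd56edd680f37c1db76d1ffb09a7689821ede41def78d6c0a0786ed32c4025fa7112d7ed94000015c301d287) (.leaf 0))) (.node (.node (.leaf 0x67d9a9afa874ce70e21e4754d285f74e4e872d94f0b53815d61825b54ba5a1f07348a1a495a039d5cf8a9bde2ffbcc2c0c3749f69ce973dc14b11f725e00b277543ac3e283e8b802eac1c1f3a9d1076a919ab935f600e4302c73f2cd3254bd80b649)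 (.leaf 0)) (.node (.leaf 0x5cca756b142656ea8be4d0b09679383bb309cf197545b80e64f4ac0c47d6716dce86753b0442628560c80225fe7d975df7b210e73fd942b80084cb7ae88a670dc6005e67bdf468dcacfa661a6e18344eb76c740e3a2f26784961211037b723128c) (.leaf 0)))) (.node (.node (.node (.leaf 0x191beff67724aea8767b3592dd6644d0b95ae02e9f787dd46a2ae5769f00ac6c1999194c143edbf7bf3a749a80c21967198a8155a0a8b0b3d1786d5136b3ef57eda14a2019621e7d79e5323c45af0f91f9c93186f6f67353bee1c58e709e201c1ba4) (.leaf 0xb2859e60f0076580c440cb4d9d7a87b16b921188e3a6e843a934ea622a925c3a624ebdee9ab333fd47f3e05531b8cfc4cd94bc4404356e06062850c5d6d4812fe96b77ba01e329c8e698993d69427f5ee1b01f5c7f2eaf8b341e85b8179cb31b6957)) (.node (.leaf 0x8f701d6735162bc71b2461a3c0802d1d98d7cae700c5421661e6c0196cc7fbe0ab74607211c17fc9440d515b4fd40e562b91ddbb88a91a32c1315bce84d0eab6d13e292fcd8c7b2139994046ab1418908bfb832b1726d6f6038fa5cd068d70fe1fe2) (.leaf 0))) (.node (.node (.leaf 0x3d6ce718051df9e0c34fd7b8e4ec43f50fa2f5e3d41fbd2ae6410ee0f7a6f605fc8dddbe686e85746a1d063a0273c95a4b9fa870c4f7d8a8966cf09bcbcb6e68d6eb66c437c51e860a6320311b4dfedfecf9f395a81ba720022d7ff8224f414a305b)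 (.leaf 0)) (.node (.leaf 0x589d18e98b5b9c74a18a6066eb627b9c0d6a36ddfea4f211cbdbceae9b59f7c0e5d818ceef1208c102ee1b95b2667f7cba33445c897b43da4ea3762c35870ac08a29a436c5eaab4d9a46a4c4c27c1e40618672b4431c75271f95b8431c758983b057) (.leaf 0)))))

/-- Part of `genVals`. -/
def genVals_p1110 : Tr := .node (.node (.node (.node (.node (.leaf 0x488b009e98dfe04ddfc6015fd2188de13ee88b6c57bc5cc8c47f336c50e943f44f872221139cfe57b43616024e886d66f93a070ae6184a99639cb5e91e2785c94debd5a8e235e092f7b272e22c94e6f9181c1b9eabb2a99d84ab24b0e171253924dc) (.leaf 0xb629d746bd3f30e725ee4c2aa9d489856dca4eb64023cd77c2fb5be0c153364b94cdec58148d813e543418478340a640b83a8afe050afe18f647150fd1c57c3b5fe04bbb82c89666224e08f92c4a7a11014da22c93e17487a49e1c93e1742750d55d)) (.node (.leaf 0x480659e01081c4cef26340fbb9fff1437d463953bc6238a62784bd8592f2ec1566bf1766dbc7b056d466e2fb91844281c471c25e68627efaa127201e8c94f61eb6d66147a94384c7e04eb3bc6b9cdb079e56a3c73ed28cd232501fc5a57725b0f9) (.leaf 0))) (.node (.node (.leaf 0x739435bb64758417414e28b008044c531dad2b9fd03ecabe7691ede6fe68eb6dede92e259f984b092bc64c78334047261857019602b62a2ba18d5c574d582bf2cbfefb2b19bcc35c92aa3db2ae76552c0b0abcabb50b0039b1b339c3c8a581906ea4)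 (.leaf 0)) (.node (.leaf 0xebc2b071568a61d32c699728e60a54e229ac529bf26918fcfe3fbed46e76eddffb7e384e8e350d1dfd5e4528d26a0961c36f68daae87336c6c6bc8015d4d56f01a9626f2fae98492efcf5971bfed05f191d350ad50e930103464f700a6170ea5e172) (.leaf 0)))) (.node (.node (.node (.leaf 0x7f857cd5fe8411f72e8926960b638c0a9864ac6a8ed4db2888ade4d1f88833a1e3ec6ac399c22beb9e07a0ca1ea8633bc2c396f541a7bf98fb313a5d75aea8d013fd38c0835f5b673a28ada9b1f69c79c6940e7d7df85bce96bf3fb3d4395fbaab73) (.leaf 0xa850088323c82cd426220fe2c42d51cbbd2b8ead138cc99fe7bd01c317208f489a66013b52a2bc627f12741ed7353430b2dcb3449c682f718b5f35b9a72acc2bb49c0b727dc4dd8c8c4625760ffe54e6e1163cd2c61fdd52567dab87fd129845f5d0)) (.node (.leaf 0xd4dbda4570584883f59a1ae743e443d85090f00f4a3cb3d06fcf5246bffbbeed7c3204616bf20d27a6a7ed86064131986efb42c4174abe8e245aec393693676453da47fcfe85dcf804ddce038e91b2261907e98804f2ecaae75e4804f2e6c2598f3) (.leaf 0))) (.node (.node (.leaf 0xab89e18e0352414f7f4fa2016a335e68ab319d9aa1751c7701aff60b92715986d0bbb8c39cb68bad1f53e24b4f8af4bde8de5eb6127ca780e98964a2f0c0d1d9328b2d9f114ba3a657afc537f2453dd23c8f00bbfd55f817c3e1536ec674b62d2d3c)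 (.leaf 0)) (.node (.leaf 0xda743d2cdd27a04922524312e15e31d04f6b00cc5c5b51d6a9297c9c05b2cfee5b27069f3b70e6988d2e630ac8e57e7892f53e8de93fa2a81c4c34a12298a63bda68cf250754c2b3980ae25a229dd392849959fec869b1c695dc84c869b1655a0b61) (.leaf 0))))) (.node (.node (.node (.node (.leaf 0xcb00048514f320f33f20a9a255ebfc57b2236330f5b7757506229ccf558ceddc2c2a3ffaddbc4cf8af90ea32c7206fcf76958477401e539ed77d9cfecf88f0d37fe3db7073f8ff2a5b5fe84bbe43503c6105824306b2f61738601b05d7fdeb851c18) (.leaf 0xded5d00bdc1287aa884cd59f2901cb010573ee0542e35bf0abdabb1c65e9214a0e8f50e805108f1d7a9179150cc449ab93440e85d234165cbe8594e16015956a8a3538d423c6a9490df7938e867005b5cd4730c71e15d134cace0f2251e6d4a29ed)) (.node (.leaf 0x1f6e99b645fa8b9cf4f3fae8f831411c84def687dfd639ff13ef92ebaf3dbc3ca64eeb2131f72535fcf9f84d3d4b2169fe0d01b9858ae6fe2b261ff11fce57cdbc5d8286f7697311026f38282db00632ecdd82e404b994c30869905fb09625d5669d) (.leaf 0))) (.node (.node (.leaf 0x24306fcc63b08f7041329864e7ac844b7a7616cdb4caa62eaa158079bed675e999030b5f53ebc15cc0ed30e3d45b662da6205acafe4da54d3662e208d44a5b8a55d326583a6e1f9fbbd747af91ffbaa4dab8a1c9f12ae1803b9346ba9a11f1d9d571)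 (.leaf 0)) (.node (.leaf 0xebbced080c1238a1208d2f4316ee99878f62eb4220688b3b893b161c97b27dad483258b3e21de3336b682e5177095a2d7a7886db4f15e0e252122746f0fff0292398aae6d19c44ab4b882a431c694973632f1d56fe28fcc1f5791efe28fc64cdc08b) (.leaf 0)))) (.node (.node (.node (.leaf 0xf7ddc2e74c525b3c56c7ca8e252ea900881ce0c188ffce697fff7d7ba355a97a524482b7d48339655f55dddd60a86277716eb474612c4074e4d53cdbbdb68fd4ec728c7f12cc6725c2b1a78f0b918a1d62ee629c30235604e583b49bd7ced92848bc) (.leaf 0xc8189b883d0640e96e6f0fbe4450cb5e948d47f968018546035e6018dee10b0b73a1c0de2e9e08af1bc81efbbb04c4ba18986ef1095690f831892d0056b9e08f05a3802cd1f052da040ae48750f4318d0a904388d3b66d090c80ccd3b66da80b6ef9)) (.node (.leaf 0xadb4adefa91c6205f10e22121574e719a582221e2a858cf02d80a5ece90dd98a20e1005f37ace5078ba2a005046926704aa350a5099a54b47f1a27ef1e5b22804e9fc5eb6f2c3a47bac6c292f2440ed642a5a09411b5fde6ba004811b5fd4977e919) (.leaf 0))) (.node (.node (.leaf 0x3d4a907e882a0da94e548d0a04a5e1521bbfeaafc914835e38f51848a264d7798b74376abe996931f7cbf0d849401f5af927d52220692d5177e1486f11866bad35df300d7ea8dc63706def64aba35121f69a91d7f9560f3fc5f77d77a6ff2efe2cca)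 (.leaf 0)) (.node (.leaf 0x351f2b2d33c83a4b4a828f101d983c5f1aa416159a50b44b090d903ad8b86d879c232a257ad1af54fd244ea2e900d117ba278583a6200f5ed7e11b2617bdc0c7dc468ef3f4ac01b740e344fd1e7e531f018bc0423a0befa88900083a0bef060701a5) (.leaf 0)))))

/-- Part of `genVals`. -/
def genVals_p1111 : Tr := .node (.node (.node (.node (.node (.leaf 0xaefff2068721b671c7f1ab8a9e76bc2fbd11398375bf90b960bd46ff4d4f32cbefc388496e108f151af82e913c31ff165d2709c8942d543562e382e9d8ce43daaf3ceaa37b22022d166ff152bdb4599a0f4a82346e97c6baad2ffe750b7a663c6f33) (.leaf 0x8089eb8f241b000c556e40149a20840c23cba6b6c46b04940dea8a7405cc2e47248c8c85af434ac8f9d828ae294a8a600025aaa803f20270a57db0c504912c81bd6ccb0753b876d9f5cb33b51c0c24e30517f75ca838758836a494a83875265e07cd)) (.node (.leaf 0x20553aea5a08e11e60424421f512e3c3051d59088575172502c403be2c5826dbcf455a288d748727dc26a81a6de0b288b13ce0391e7abd3b778dc2aa6f0abf74fbdd346a2a81f03c3beb2490cfbd34819aa1f14cf9f3e1469beae2f54567b5363107) (.leaf 0))) (.node (.node (.leaf 0x9c364a3714b67298b16e42c6e5abc34a0ebd9b4d439d7ed4eda569fdbf70e2a3d68e4c6224aa4573c5f85f08aaed06f4b33b1e51c142486f8d806e72c59f585cad644e89b1bfcba0323c9269bfb6ef8d73d815d14722ef5997979a39204d3cb4ef8d)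 (.leaf 0)) (.node (.leaf 0xb3c20537f2f9fe08301c97ec1c2fb24c37394debf90b4549d8dc798a4bb12c70c8d41c73f055d643ceb8025a7f0895445c5bf19b81350002ee039a849d9059fdf30db8614e367dc213822130cf4654de4ee43ad95ff234429d84be0cdc79c8869e7f) (.leaf 0)))) (.node (.node (.node (.leaf 0x6b926ee2be544a46926a0fced9f6097db0c5ac9d80fe8d5d399e6b428b497f3f3a3060e863137301109abe46d08c621dbedee40557907e9397b5f7d11986077f59bd19f1044d207a1e5857ba48126340657a617b40a96a486845c3d765b358628d53) (.leaf 0x981dcea23fc85cf7907a4f95f8d4ed13aba89d451a263c7609c2ad5e0a51e7eb95d61a7759af0e9514186ddf6da750bb84f8762ec212b8201d85854d4b0b642ab3ba2e9c5656adac9024654090c56f18a52200c490ccc120d5578a90ccc18e635f87)) (.node (.leaf 0x30a070db45170fc610f22c7caec2c8eef2ceb0552e7eed207d5c70ec03377e3bf7e96e75257a0c3ce228917d3c58857406fc3908a27f59c425d96862cf8f04931876408879a84f50d2d8e23ecbb183460cf575a3d3523a0d51cb23d35230c9fabf1) (.leaf 0))) (.node (.node (.leaf 0xff2ffaab947f05c7ba2cb3e9045674c1e32d32a2fc27134d1e4e2e2fb94c6083431b53410f874ebc0e2b4883bbc35e546f471bc86483a1eba6629398a401342db10e68c89554d28190fc4ca4529ac016838716130d33bac8135182bfab3919636c58)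 (.leaf 0)) (.node (.leaf 0xd422e652c95015d7be41260a7094b5f69f6118fcd9e9482a4f1d896a4bf9ead73e933d9c44426505f62b4dd86447c9b9fc323b9c34b03107b9f1712d73309e7e1777a6df6269bfb4d4dca0b65598143bfb42cd88d31276694ca5d6c656c3c0e67037) (.leaf 0))))) (.node (.node (.node (.node (.leaf 0x4b9497e8fe8829c21f13df7c565a4c5d428f42a3e40c4ca231a225b6793869c95dc5fe7039ad174deaa412ecca3000c935adf30eaccd0d405ae70ce62004a47031b435ab7be9b1bdb0c4a71e1e3f1cd1bee7bb980b9c78afb8694fce2e840c664256) (.leaf 0xfa8c2ae83c4e929b623c2b6171e6b28defca6d6c18439e9ce7b42cec79c9064873479c3f62c167acc6d0f9318c6e2a38e2820739c26a77b2611da3e3cd8e1c7fad0d0636880085906a0fbdd93ae2f8c0287e5d0ebe137c05fb0312be137ca5ff7af9)) (.node (.leaf 0x3da34f87d1640e54961925bbec5ce3c87eaf70c9da51de89275d88040b6f4fe42d31c4e2dc24ae8faf4ede963c8517d4ba42fb40c7baad4810e46b699dda522be75f48ef9fde90cf49ef70b502f4264aa9c4e8b627c21b2a188f6e27c21b877c0271) (.leaf 0))) (.node (.node (.leaf 0x1ec147e58ee25ffbd6d529d6ceeae9ea545c8ff63ccb26101d7ce64e2853d78ce2161db7b508bb34337b8907e1394a65d1ec6f9a79bda4bfbc59ba0b57e2e45f55ac3e7e04d530ccf40752f9f132316f334e72e2a837776f68c521733c3b8b1baa5e)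 (.leaf 0)) (.node (.leaf 0xbf973db34ba0cfa06d41bb6b7e861ea701948670e9ce76e65f48cc629ac52952f81cda2b09c26673488372875d10ac7a04754246471ece276fe83139086d7a1bbd5894a85a8a197111e82294214f9620c79b82d3416b841e1387b4f0ccbdca3095f5) (.leaf 0)))) (.node (.node (.node (.leaf 0x14ffeb86c6e10cf1373cad4209b301e262ff0c2f075ee08c3ad05b2000aa210fd14b2e7a108f1e9657c40ef8198203d71d263018c654171f730eada94ce92520282b1bade56fa0aa75f855fcc3a0444b612ad2bb8ab41adfc36c54db7233c8254517) (.leaf 0)) (.node (.leaf 0x788d55faabacc1dedb3ea1fadd738cb9f0b487b754ca9ed797af7ded1040d86d3512ea6b9ac494dc31fca945cf748133451e859700bafa44a341235427226cb78eb1bfaa3ad6606fe13f9299d1a65a34080f0b380c360741105983a4ebe5b395ca2e) (.leaf 0))) (.node (.node (.leaf 0x70e3cd986befb9d38858c07e4d1beb9cc4ee6e7e25c981633ea32920665fee8b00fa981902fd5e87d756e5c3a5a87ead310e0c68b516bc1b1c482327d3a738938fa86ddd0e216ea005d174aea9105a9d4f4d8d47b1a3a7d8658e70cf49f3c5189e33) (.leaf 0)) (.node (.leaf 0xc243590d35ed5066fd1d8bddf028e215e40dd2f610606a2b8ef6d1a84676fd86341c581c389d470443a4c5a1f248e7e86cfc4f628c96d5ec8873a20a7d267450829f06bb35f412d88a44d9fea81cdef3072146389df49f0d07e2ec9df49fa422de21)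 (.leaf 0)))))

/-- The values of the products. -/
def genVals : Tr := (.node (.node (.node (.node genVals_p0000 genVals_p0001) (.node genVals_p0010 genVals_p0011)) (.node (.node genVals_p0100 genVals_p0101) (.node genVals_p0110 genVals_p0111))) (.node (.node (.node genVals_p1000 genVals_p1001) (.node genVals_p1010 genVals_p1011)) (.node (.node genVals_p1100 genVals_p1101) (.node genVals_p1110 genVals_p1111))))

/-- The polynomial sending the first basis vector to the second. -/
def qOneTab : ℕ := 0x7118214ff7a1ec62f6cb065856c22492fe84d59698698643810e50643ab1198e12983a8b3ce902129be2c51638a0564630195bfc67ae2b62520396822400be441fe0e1bf8148a9c92d65bac76eda5bee20f1bde271a561871affc2e70e6dbd660cf4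

/-- The polynomial sending the first basis vector to the third. -/
def qTwoTab : ℕ := 0xe658df2f98215eb082024abdc6049994a84bc9d23813dd79c1968f42a30bd54860e79c65301241d7e1101aa81741c6f25cc2944baaa8095058e9da0107659e85fbdda47371e0759c15e35be9ee733a23069216b439d990476756714f9293417e3a12

/-- The square of the element of order 14. -/
def bSqTab : ℕ := 0xf7c0fe2071b97c75e20222b3bdb219a6dda3f166bad9cd9d046a3866ccab932bbfa1f8584cf38ff3bfaa212de3a48bac4a0b24e788f90f3c2d4a9124c4ebb033d5626ea4d0ee5a154320680620a36e2aa4bfc6843fb40666672291badaf56419d830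

end CfsgLib.Sporadic.Ru.Out
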