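import Cfsg.Agent.Lib.Sporadic.Ru.Chain
import Cfsg.Agent.Lib.Sporadic.Ru.OutData

/-! Locating the elements of the group that carry the first three basis vectors as prescribed. -/

set_option autoImplicit false

namespace CfsgLib.Sporadic.Ru.Out

/-- A code with a given vector in column zero. -/
noncomputable def spread (u : ℕ) : ℕ := xorUpto (fun i => ((u >>> i) % 2) <<< (28 * i)) 28

/-- The vector named by a hint, as a column. -/
noncomputable def hvec (d : ℕ) : ℕ := img 0 (spread (d / 4096))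

/-- The hint points at the vector in the sorted table. -/
noncomputable def hitOK (srt : Tr) (n d : ℕ) : Bool :=
  Nat.blt (d % 4096) n && srt.get (d % 4096) == hvec d

/-- The hint shows that the vector is not in the sorted table. -/
noncomputable def missOK (srt : Tr) (n d : ℕ) : Bool :=
  Nat.ble (d % 4096) n && (d % 4096 == 0 || Nat.blt (srt.get (d % 4096 - 1)) (hvec d)) &&
    (d % 4096 == n || Nat.blt (hvec d) (srt.get (d % 4096)))

/-- The last stage: equal products are listed. -/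
noncomputable def lastOK (a : ℕ) (L : List ℕ) (h : ℕ) : Bool :=
  allFrom 0 16 fun z =>
    (canonF2 28 (mulF2 28 (mulF2 28 a h) (g3T.get z)) && canonF2 28 (mulF2 28 h (mulF2 28 (g3T.get z) a))) &&
      (!(mulF2 28 (mulF2 28 a h) (g3T.get z) == mulF2 28 h (mulF2 28 (g3T.get z) a)) ||
        L.contains (mulF2 28 h (g3T.get z)))

/-- The third stage at an entry of the product of two transversals. -/
noncomputable def thirdOK (a a2 : ℕ) (L : List ℕ) (t0 d : ℕ) (m : ℕ) : Bool :=
  img 0 (mulF2 28 m (spread (d / 4096))) == img 0 (mulF2 28 a2 t0) &&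
    (missOK g2Srt 975 d ||
      (hitOK g2Srt 975 d && lastOK a L (mulF2 28 m (g2T.get (g2Inv.get (d % 4096))))))

/-- The check at an entry of the first transversal. -/
noncomputable def locOK (a a1 a2 : ℕ) (L : List ℕ) (D1 D2 : Tr) (p : ℕ) : Bool :=
  img 0 (mulF2 28 (g0T.get p) (spread (D1.get p / 4096))) == img 0 (mulF2 28 a1 (g0T.get p)) &&
    (missOK g1Srt 2304 (D1.get p) ||
      (hitOK g1Srt 2304 (D1.get p) &&
        thirdOK a a2 L (g0T.get p) (D2.get p) (mulF2 28 (g0T.get p) (g1T.get (g1Inv.get (D1.get p % 4096))))))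

theorem srt_facts {k n : ℕ} {T srt pos inv : Tr} (h : allFrom 0 n (imgOK k n T srt pos inv) = true) :
    (∀ i < n, pos.get i < n ∧ srt.get (pos.get i) = img k (T.get i) ∧ inv.get (pos.get i) = i) ∧
      ∀ a b, a < b → b < n → srt.get a < srt.get b := by
  have hb : ∀ i < n, (pos.get i < n ∧ srt.get (pos.get i) = img k (T.get i) ∧ inv.get (pos.get i) = i) ∧
      (i + 1 < n → srt.get i < srt.get (i + 1)) := by
    intro i hi
    have hb := of_allFrom_zero h hi
    simp only [imgOK, Bool.and_eq_true, Bool.or_eq_true, beq_iff_eq, Nat.blt_eq, Nat.ble_eq] at hb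
    refine ⟨⟨hb.1.1.1, hb.1.1.2, hb.1.2⟩, fun hlt => ?_⟩
    rcases hb.2 with h' | h'
    · omega
    · exact h'
  refine ⟨fun i hi => (hb i hi).1, fun a b hab hbn => ?_⟩
  induction b with
  | zero => omega
  | succ b ih =>
    rcases Nat.lt_or_ge a b with hlt | hge
    · exact (ih hlt (by omega)).trans ((hb b (by omega)).2 hbn)
    · obtain rfl : a = b := by omega
      exact (hb a (by omega)).2 hbn

theorem eq_of_hit {k n d : ℕ} {T srt pos inv : Tr} (h : allFrom 0 n (imgOK k n T srt pos inv) = true)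
    (hd : hitOK srt n d = true) {q : ℕ} (hq : q < n) (e : img k (T.get q) = hvec d) :
    inv.get (d % 4096) = q := by
  simp only [hitOK, Bool.and_eq_true, beq_iff_eq, Nat.blt_eq] at hd
  obtain ⟨hfac, hmono⟩ := srt_facts h
  obtain ⟨h1, h2, h3⟩ := hfac q hq
  rcases lt_trichotomy (pos.get q) (d % 4096) with hl | hl | hl
  · exact absurd (h2.trans (e.trans hd.2.symm)) (hmono _ _ hl hd.1).ne
  · rw [← hl, h3]
  · exact absurd (h2.trans (e.trans hd.2.symm)) (hmono _ _ hl h1).ne'

theorem ne_of_miss {k n d : ℕ} {T srt pos inv : Tr} (h : allFrom 0 n (imgOK k n T srt pos inv) = true)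
    (hd : missOK srt n d = true) {q : ℕ} (hq : q < n) : img k (T.get q) ≠ hvec d := by
  intro e
  simp only [missOK, Bool.and_eq_true, Bool.or_eq_true, beq_iff_eq, Nat.blt_eq, Nat.ble_eq] at hd
  obtain ⟨⟨hle, hlo⟩, hhi⟩ := hd
  obtain ⟨hfac, hmono⟩ := srt_facts h
  obtain ⟨h1, h2, -⟩ := hfac q hq
  rw [e] at h2
  rcases Nat.lt_or_ge (pos.get q) (d % 4096) with hl | hl
  · rcases hlo with h' | h'
    · omega
    · rcases Nat.lt_or_ge (pos.get q) (d % 4096 - 1) with hl' | hl'
      · have := hmono _ _ hl' (by omega); omega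
      · rw [show pos.get q = d % 4096 - 1 by omega] at h2; omega
  · rcases hhi with h' | h'
    · omega
    · rcases Nat.eq_or_lt_of_le hl with hl' | hl'
      · rw [← hl'] at h2; omega
      · have := hmono _ _ hl' h1; omega

/-- Every element is a product of entries of the four transversals. -/
theorem exists_split {x : GL28} (hx : x ∈ grp g0Gens) :
    ∃ (p q r z : ℕ) (t0 t1 t2 t3 : GL28), p < 4060 ∧ q < 2304 ∧ r < 975 ∧ z < 16 ∧
      emb t0 = dec (g0T.get p) ∧ emb t1 = dec (g1T.get q) ∧ emb t2 = dec (g2T.get r) ∧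
      emb t3 = dec (g3T.get z) ∧ t1 ∈ fixer 0 ∧ t2 ∈ fixer 0 ∧ t2 ∈ fixer 1 ∧ t3 ∈ fixer 0 ∧ t3 ∈ fixer 1 ∧
      t3 ∈ fixer 2 ∧ x = t0 * t1 * t2 * t3 := by
  classical
  have hs : ∀ (gens : List ℕ), ∀ s ∈ genSet emb dec gens, ∃ c ∈ gens, emb s = dec c := fun _ s hs => hs
  obtain ⟨t0, ⟨p, hp, e0⟩, y, hy, hxy⟩ := exists_factor (emb := emb) (dec := dec) (mul := mulF2 28)
    (one := one) dec_mul dec_one g0_level.npos g0_level.zero (hs _) low1 g0_level.steps hx
  obtain ⟨t1, ⟨q, hq, e1⟩, y', hy', hy1⟩ := exists_factor (emb := emb) (dec := dec) (mul := mulF2 28)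
    (one := one) dec_mul dec_one g1_level.npos g1_level.zero (hs _) low2 g1_level.steps hy
  obtain ⟨t2, ⟨r, hr, e2⟩, y'', hy'', hy2⟩ := exists_factor (emb := emb) (dec := dec) (mul := mulF2 28)
    (one := one) dec_mul dec_one g2_level.npos g2_level.zero (hs _) low3 g2_level.steps hy'
  obtain ⟨t3, ⟨z, hz, e3⟩, y3, hy3, hy3e⟩ := exists_factor (emb := emb) (dec := dec) (mul := mulF2 28)
    (one := one) dec_mul dec_one (K := (⊥ : Subgroup GL28)) (by decide) (beq_iff_eq.1 g3_zero) (hs _)
    (by simp) g3_steps hy''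
  simp only [SetLike.mem_coe, Subgroup.mem_bot] at hy3
  subst hy3
  simp only [mul_one] at hy3e
  subst hy3e
  have f0 : grp g1Gens ≤ fixer 0 := genSet_closure_le emb_injective fun c hc =>
    ((g0_level.level dec_one codeMem_top).2 c hc).mono inf_le_right
  have f1 : grp g2Gens ≤ fixer 1 := genSet_closure_le emb_injective fun c hc =>
    ((g1_level.level dec_one g1_mem).2 c hc).mono inf_le_right
  have f2 : grp g3Gens ≤ fixer 2 := genSet_closure_le emb_injective fun c hc =>
    ((g2_level.level dec_one g2_mem).2 c hc).mono inf_le_right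
  have l21 : grp g2Gens ≤ grp g1Gens := genSet_closure_le emb_injective g2_mem
  have l32 : grp g3Gens ≤ grp g2Gens := genSet_closure_le emb_injective g3_mem
  have m1 : t1 ∈ grp g1Gens := by
    obtain ⟨g, hg, eg⟩ := (g1_level.level dec_one g1_mem).1 q hq
    rwa [emb_injective (e1.trans eg.symm)]
  have m2 : t2 ∈ grp g2Gens := by
    obtain ⟨g, hg, eg⟩ := (g2_level.level dec_one g2_mem).1 r hr
    rwa [emb_injective (e2.trans eg.symm)]
  refine ⟨p, q, r, z, t0, t1, t2, t3, hp, hq, hr, hz, e0, e1, e2, e3, f0 m1, f0 (l21 m2), f1 m2,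
    f0 (l21 (l32 hy'')), f1 (l32 hy''), f2 hy'', ?_⟩
  rw [← hxy, ← hy1, ← hy2]
  simp only [mul_assoc]

theorem mulVec_hvec {t : GL28} {c d : ℕ} (ht : emb t = dec c) :
    (fun i => dec (mulF2 28 c (spread (d / 4096))) i 0) = t.1.mulVec (decVecF2 28 (hvec d)) := by
  have h : decVecF2 28 (hvec d) = fun i => dec (spread (d / 4096)) i 0 := decVecF2_img 0 _
  rw [h, dec_mul, ← ht, emb_apply]
  funext i
  simp [Matrix.mul_apply, Matrix.mulVec, dotProduct]

/-- An element commuting with one element and moving the basis vectors as that element's algebra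
prescribes is listed. -/
theorem mem_of_locOK {a a1 a2 : ℕ} {L : List ℕ} {D1 D2 : Tr}
    (h : allFrom 0 4060 (locOK a a1 a2 L D1 D2) = true) {x A : GL28} (hx : x ∈ grp g0Gens)
    (hA : emb A = dec a) (hcomm : x * A = A * x)
    (hx1 : x.1.mulVec (bvec 1) = (dec a1).mulVec (x.1.mulVec (bvec 0)))
    (hx2 : x.1.mulVec (bvec 2) = (dec a2).mulVec (x.1.mulVec (bvec 0))) :
    ∃ c ∈ L, emb x = dec c := by
  obtain ⟨p, q, r, z, t0, t1, t2, t3, hp, hq, hr, hz, e0, e1, e2, e3, f10, f20, f21, f30, f31, f32, rfl⟩ :=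
    exists_split hx
  have f10' : t1.1.mulVec (bvec 0) = bvec 0 := f10
  have f20' : t2.1.mulVec (bvec 0) = bvec 0 := f20
  have f21' : t2.1.mulVec (bvec 1) = bvec 1 := f21
  have f30' : t3.1.mulVec (bvec 0) = bvec 0 := f30
  have f31' : t3.1.mulVec (bvec 1) = bvec 1 := f31
  have f32' : t3.1.mulVec (bvec 2) = bvec 2 := f32
  simp only [Units.val_mul, ← Matrix.mulVec_mulVec, f31', f21', f30', f20', f10'] at hx1
  simp only [Units.val_mul, ← Matrix.mulVec_mulVec, f32', f30', f20', f10'] at hx2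
  have key : ∀ {t : GL28} {c d : ℕ} {v : Fin 28 → ZMod 2}, emb t = dec c →
      t.1.mulVec v = t.1.mulVec (decVecF2 28 (hvec d)) → v = decVecF2 28 (hvec d) := fun {t c d v} _ e => by
    have := congrArg (fun w => (t⁻¹).1.mulVec w) e
    simpa [Matrix.mulVec_mulVec, ← Units.val_mul] using this
  have hinj : ∀ {k : Fin 28} {T : ℕ} {d : ℕ}, (fun i => dec T i k) = decVecF2 28 (hvec d) →
      img k T = hvec d := fun {k T d} e => by
    refine Nat.eq_of_testBit_eq fun m => ?_
    rcases Nat.lt_or_ge m 28 with hlt | hge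
    · rw [← decVecF2_img k T] at e
      have h' := congrFun e ⟨m, hlt⟩
      simp only [decVecF2] at h'
      revert h'
      cases (img k T).testBit m <;> cases (hvec d).testBit m <;> simp
    · rw [Nat.testBit_lt_two_pow ((img_lt _ _).trans_le (Nat.pow_le_pow_right two_pos hge)), hvec,
        Nat.testBit_lt_two_pow ((img_lt _ _).trans_le (Nat.pow_le_pow_right two_pos hge))]
  have hb := of_allFrom_zero h hp
  simp only [locOK, Bool.and_eq_true, Bool.or_eq_true, beq_iff_eq] at hb
  obtain ⟨hsol, hcase⟩ := hb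
  have hv1 : img (1 : Fin 28) (g1T.get q) = hvec (D1.get p) := by
    refine hinj ?_
    rw [← mulVec_bvec t1 1 e1]
    refine key e0 ?_
    rw [← mulVec_hvec e0, hx1]
    rw [(img_eq_iff 0 _ _).1 hsol, dec_mul, ← e0, emb_apply]
    funext i
    simp [bvec, Matrix.mulVec, dotProduct, Matrix.mul_apply, Pi.single_apply]
  rcases hcase with hmiss | ⟨hhit, hthird⟩
  · exact absurd hv1 (ne_of_miss g1_level.images hmiss hq)
  rw [eq_of_hit g1_level.images hhit hq hv1] at hthird
  simp only [thirdOK, Bool.and_eq_true, Bool.or_eq_true, beq_iff_eq] at hthird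
  obtain ⟨hsol2, hcase2⟩ := hthird
  have em : emb (t0 * t1) = dec (mulF2 28 (g0T.get p) (g1T.get q)) := by rw [map_mul, e0, e1, dec_mul]
  have hv2 : img (2 : Fin 28) (g2T.get r) = hvec (D2.get p) := by
    refine hinj ?_
    rw [← mulVec_bvec t2 2 e2]
    refine key em ?_
    rw [← mulVec_hvec em, Units.val_mul, ← Matrix.mulVec_mulVec, hx2]
    rw [(img_eq_iff 0 _ _).1 hsol2, dec_mul, ← e0, emb_apply]
    funext i
    simp [bvec, Matrix.mulVec, dotProduct, Matrix.mul_apply, Pi.single_apply]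
  rcases hcase2 with hmiss | ⟨hhit2, hlast⟩
  · exact absurd hv2 (ne_of_miss g2_level.images hmiss hr)
  rw [eq_of_hit g2_level.images hhit2 hr hv2] at hlast
  have hl := of_allFrom_zero hlast hz
  simp only [Bool.and_eq_true, Bool.or_eq_true, Bool.not_eq_true', beq_eq_false_iff_ne,
    List.contains_iff_mem] at hl
  obtain ⟨⟨c1, c2⟩, hne | hmem⟩ := hl
  · refine absurd (decF2_injOn c1 c2 ?_) hne
    show dec _ = dec _
    simp only [dec_mul, ← e0, ← e1, ← e2, ← e3, ← hA, ← map_mul]
    rw [show A * (t0 * t1 * t2) * t3 = A * (t0 * t1 * t2 * t3) by group, ← hcomm]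
    group
  · exact ⟨_, hmem, by simp only [dec_mul, ← e0, ← e1, ← e2, ← e3, ← map_mul]⟩

end CfsgLib.Sporadic.Ru.Out
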