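import Cfsg.Agent.Lib.Sporadic.Ru.OutBasic

/-! Kernel evaluation of the centraliser checks for the element of order 29. -/

set_option autoImplicit false

namespace CfsgLib.Sporadic.Ru.Out

theorem checkA0 : allFrom 0 1015 (locOK aTab qOneTab qTwoTab centA hintAOne hintATwo) = true := by
  decide +kernel

theorem checkA1 : allFrom 1015 1015 (locOK aTab qOneTab qTwoTab centA hintAOne hintATwo) = true := by
  decide +kernel

theorem checkA2 : allFrom 2030 1015 (locOK aTab qOneTab qTwoTab centA hintAOne hintATwo) = true := by
  decide +kernel

theorem checkA3 : allFrom 3045 1015 (locOK aTab qOneTab qTwoTab centA hintAOne hintATwo) = true := by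
  decide +kernel

end CfsgLib.Sporadic.Ru.Out
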